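import Groth.Agent.AlgSpNorm.Glob
import Groth.Agent.AlgSpLib.Covers
import Groth.Agent.AlgSpLib.SmoothLocal

/-!
# Smooth-compatible normalizations can be checked on an etale cover
-/

set_option autoImplicit false
set_option backward.isDefEq.respectTransparency false
set_option backward.isDefEq.respectTransparency.types false

universe u

open CategoryTheory CategoryTheory.Limits AlgebraicGeometry Opposite AlgSp Groth.Agent.AlgSpLib
  Groth.Agent.AlgSpDec

namespace Groth.Agent.AlgSpNorm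

variable {S : Scheme.{u}}

variable {P G N : Sp S} {π : P ⟶ G} {ν : N ⟶ G} {f' : P ⟶ N}

/-- `NormOn` is invariant under isomorphisms. -/
theorem normOn_of_iso {P' G' N' : Sp S} {π' : P' ⟶ G'} {ν' : N' ⟶ G'} {g' : P' ⟶ N'}
    (eP : P' ≅ P) (eN : N' ≅ N) (eG : G' ≅ G) (hG : IsAlgSpace G) (hG' : IsAlgSpace G')
    (h1 : π' ≫ eG.hom = eP.hom ≫ π) (h2 : ν' ≫ eG.hom = eN.hom ≫ ν) (h3 : g' ≫ eN.hom = eP.hom ≫ f')
    (h : NormOn π ν f') : NormOn π' ν' g' :=
  normOn_of_isPullback h hG hG' (φ := eG.hom) (locP_smooth_of_isIso _)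
    (IsPullback.of_horiz_isIso ⟨h1.symm⟩) (IsPullback.of_horiz_isIso ⟨h2.symm⟩)
    (by rw [← cancel_mono eG.hom, Category.assoc, h2, reassoc_of% h3, h.1, h1]) h3

/-- `NormOn` is local on the target for the etale topology. -/
theorem normOn_of_cover (hP : IsAlgSpace P) (hG : IsAlgSpace G) (hqc : IsQuasiCompactMor π)
    (hqs : IsQuasiSeparatedMor π) (hf : f' ≫ ν = π) (hν : IsIntegralMor ν) {κ : Type u} {U : κ → Over S}
    {q : ∀ k, (yon S).obj (U k) ⟶ G} (hqe : ∀ k, RepWith @Etale (q k))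
    (hqsur : ∀ x, ∃ k u, Points.ofPt (q k) u = x)
    {PU NU : κ → Sp S} {pst : ∀ k, PU k ⟶ P} {πU : ∀ k, PU k ⟶ (yon S).obj (U k)} {nst : ∀ k, NU k ⟶ N}
    {νU : ∀ k, NU k ⟶ (yon S).obj (U k)}
    (sqP : ∀ k, IsPullback (pst k) (πU k) π (q k)) (sqN : ∀ k, IsPullback (nst k) (νU k) ν (q k))
    {fU : ∀ k, PU k ⟶ NU k} (hU : ∀ k, NormOn (πU k) (νU k) (fU k)) (hfU : ∀ k, fU k ≫ nst k = pst k ≫ f') :
    NormOn π ν f' := by
  refine ⟨hf, hν, fun W hW c hc P' N' p' π' n' ν' sqP' sqN' f'' h1 h2 => ?_⟩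
  have hWA := IsAlgSpace.yon_obj W
  have hP' : IsAlgSpace P' := isAlgSpace_of_isPullback sqP' hP hWA hG
  have hν' : IsIntegralMor ν' := isIntegralMor_of_isPullback sqN' hν
  have hN' : IsAlgSpace N' := isAlgSpace_of_isIntegralMor hν' hWA
  obtain ⟨N₀, ν₀, f₀, hn₀, hon₀⟩ := exists_normOn_affine hP' π'
    (AlgSpPts.isQuasiCompactMor_of_isPullback sqP' hqc) (AlgSpPts.isQuasiSeparatedMor_of_isPullback sqP' hqs)
  obtain ⟨h, ⟨hh1, hh2⟩, -⟩ := hn₀.2.2 hN' ν' f'' hν' h1
  suffices IsIso h from isRelNormalization_of_iso (Iso.refl _) (asIso h).symm (Iso.refl _) (by simp)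
    (by simp [← hh2]) (by rw [Iso.refl_hom, Category.id_comp, Iso.symm_hom, asIso_inv, IsIso.comp_inv_eq, hh1]) hn₀
  let V : κ → Over S := fun k => (hqe k).rep.pullback c
  let v : ∀ k, V k ⟶ W := fun k => (hqe k).rep.snd c
  let d : ∀ k, V k ⟶ U k := fun k => (hqe k).rep.fst' c
  have sqV : ∀ k, IsPullback ((yon S).map (d k)) ((yon S).map (v k)) (q k) c := fun k => (hqe k).rep.isPullback' c
  have hve : ∀ k, Etale (v k).left := fun k => (hqe k).property_snd c
  have hd' : ∀ k, LocP @Smooth ((yon S).map (d k)) := fun k =>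
    locP_of_isPullback (sqV k).flip hWA hG (IsAlgSpace.yon_obj (U k)) hc
  -- an etale covering of `W` by affine schemes factoring through the pieces
  let ι := Σ k, ↥(V k).left.affineOpens
  let W₁ : ι → Over S := fun x => Over.mk (x.2.1.ι ≫ (V x.1).hom)
  let w : ∀ x, W₁ x ⟶ V x.1 := fun x => CategoryTheory.Over.homMk x.2.1.ι rfl
  let e : ∀ x, W₁ x ⟶ W := fun x => w x ≫ v x.1
  let a : ∀ x, W₁ x ⟶ U x.1 := fun x => w x ≫ d x.1
  have hW₁ : ∀ x, IsAffine (W₁ x).left := fun x => x.2.2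
  have hee : ∀ x, Etale (e x).left := fun x => by
    have := hve x.1
    show Etale (x.2.1.ι ≫ (v x.1).left); infer_instance
  have hae : ∀ x, LocP @Smooth ((yon S).map (a x)) := fun x => by
    have := smooth_left (hd' x.1)
    have : Smooth (a x).left := by show Smooth (x.2.1.ι ≫ (d x.1).left); infer_instance
    exact locP_smooth_yon (a x)
  have hea : ∀ x, (yon S).map (a x) ≫ q x.1 = (yon S).map (e x) ≫ c := fun x => by
    simp only [a, e, Functor.map_comp, Category.assoc, (sqV x.1).w]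
  have hcov : IsFpqcCover (fun x => (yon S).obj (W₁ x)) (fun x => (yon S).map (e x)) := by
    refine isFpqcCover_of_isFppfCover hWA (fun x => IsAlgSpace.yon_obj _) _ ⟨fun x => ?_, fun p => ?_⟩
    · have h' : RepWith @Etale ((yon S).map (e x)) := (repWith_yon_map_iff _ _).2 (hee x)
      exact ⟨locP_mono (P := @Etale) (fun _ _ g (_ : Etale g) => (inferInstance : Flat g)) (locP_of_repWith h'),
        locP_mono (P := @Etale) (fun _ _ g (_ : Etale g) => (inferInstance : LocallyOfFinitePresentation g))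
          (locP_of_repWith h')⟩
    · obtain ⟨k, u, hu⟩ := hqsur (Points.map c p)
      obtain ⟨z, -, hz⟩ := exists_point_of_isPullback (sqV k) (x := Points.ofPt (𝟙 _) u) (y := p)
        (by rw [Points.map_ofPt, Category.id_comp, hu])
      obtain ⟨z', rfl⟩ := surjective_ofPt (repWith_id @Surjective (V k)) z
      obtain ⟨O, hO, hzO, -⟩ := exists_isAffineOpen_mem_and_subset (U := (⊤ : (V k).left.Opens)) (x := z') trivial
      refine ⟨⟨k, O, hO⟩, Points.ofPt (𝟙 _) ⟨z', hzO⟩, ?_⟩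
      rw [← hz, Points.map_ofPt, Points.map_ofPt, Category.id_comp, Category.id_comp]
      change Points.ofPt ((yon S).map (w ⟨k, O, hO⟩ ≫ v k)) _ = _
      rw [Functor.map_comp, ofPt_comp]
      rfl
  have sqM : ∀ x, IsPullback (pullback.fst ν' ((yon S).map (e x))) (pullback.snd ν' ((yon S).map (e x))) ν'
      ((yon S).map (e x)) := fun x => IsPullback.of_hasPullback _ _
  have hM : ∀ x, IsAlgSpace (pullback ν' ((yon S).map (e x))) := fun x =>
    isAlgSpace_of_isIntegralMor (isIntegralMor_of_isPullback (sqM x) hν') (IsAlgSpace.yon_obj (W₁ x))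
  have key : ∀ x, ∃ i : pullback ν₀ ((yon S).map (e x)) ⟶ pullback ν' ((yon S).map (e x)), IsIso i ∧
      IsPullback (pullback.fst ν₀ ((yon S).map (e x))) i h (pullback.fst ν' ((yon S).map (e x))) := fun x => by
    let e' := (yon S).map (e x)
    let h₁ : pullback ν₀ e' ⟶ pullback ν' e' :=
      pullback.map ν₀ e' ν' e' h (𝟙 _) (𝟙 _) (by simp [hh2]) (by simp)
    have hn₁ : IsRelNormalization (pullback.snd π' e') (pullback.snd ν₀ e')
        (pullback.map π' e' ν₀ e' f₀ (𝟙 _) (𝟙 _) (by simp [hn₀.1]) (by simp)) :=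
      hon₀.2.2 (hW₁ x) e' (by have := hee x; exact locP_smooth_yon (e x)) _ _ _ _
        (IsPullback.of_hasPullback π' e') (IsPullback.of_hasPullback ν₀ e') _ (by simp) (by simp)
    have big := (IsPullback.of_hasPullback π' e').paste_horiz sqP'
    have bigN := (IsPullback.of_hasPullback ν' e').paste_horiz sqN'
    rw [← hea] at big bigN
    obtain ⟨lP, hlP₁, hlP₂⟩ : ∃ l : pullback π' e' ⟶ PU x.1, l ≫ pst x.1 = pullback.fst π' e' ≫ p' ∧
        l ≫ πU x.1 = pullback.snd π' e' ≫ (yon S).map (a x) :=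
      ⟨(sqP x.1).lift _ _ (by rw [big.w, Category.assoc]), (sqP x.1).lift_fst _ _ _, (sqP x.1).lift_snd _ _ _⟩
    obtain ⟨lN, hlN₁, hlN₂⟩ : ∃ l : pullback ν' e' ⟶ NU x.1, l ≫ nst x.1 = pullback.fst ν' e' ≫ n' ∧
        l ≫ νU x.1 = pullback.snd ν' e' ≫ (yon S).map (a x) :=
      ⟨(sqN x.1).lift _ _ (by rw [bigN.w, Category.assoc]), (sqN x.1).lift_fst _ _ _, (sqN x.1).lift_snd _ _ _⟩
    have tP : IsPullback lP (pullback.snd π' e') (πU x.1) ((yon S).map (a x)) :=
      IsPullback.of_right (by rw [hlP₁]; exact big) hlP₂ (sqP x.1)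
    have tN : IsPullback lN (pullback.snd ν' e') (νU x.1) ((yon S).map (a x)) :=
      IsPullback.of_right (by rw [hlN₁]; exact bigN) hlN₂ (sqN x.1)
    have hn₂ : IsRelNormalization (pullback.snd π' e') (pullback.snd ν' e')
        (pullback.map π' e' ν' e' f'' (𝟙 _) (𝟙 _) (by simp [h1]) (by simp)) :=
      (hU x.1).2.2 (hW₁ x) ((yon S).map (a x)) (hae x) _ _ _ _ tP tN _ (by simp) ((sqN x.1).hom_ext
        (by simp [hlN₁, hfU, reassoc_of% hlP₁, h2])
        (by simp [hlN₂, (hU x.1).1, hlP₂]))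
    have hN₁ : IsAlgSpace (pullback ν₀ e') := isAlgSpace_of_isIntegralMor hn₁.2.1 (IsAlgSpace.yon_obj _)
    obtain ⟨i, hi1, hi2⟩ := exists_iso_of_isRelNormalization hN₁ (hM x) hn₁ hn₂
    have : h₁ = i.hom := (hn₁.2.2 (hM x) (pullback.snd ν' e') _ hn₂.2.1 hn₂.1).unique
      ⟨by apply pullback.hom_ext <;> simp [h₁, hh1, e'], by simp [h₁, e']⟩ ⟨hi1, hi2⟩
    refine ⟨h₁, by rw [this]; infer_instance, IsPullback.of_bot ?_ (by simp [h₁, e']) (sqM x)⟩
    rw [show h₁ ≫ pullback.snd ν' e' = pullback.snd ν₀ e' by simp [h₁], hh2]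
    exact IsPullback.of_hasPullback ν₀ e'
  choose i hi sqi using key
  have hcov' := isFpqcCover_of_isPullback hWA hN' (fun x => IsAlgSpace.yon_obj (W₁ x)) sqM hcov
  exact isIso_of_fpqc (IsAlgSpace.yon_obj N₀) hN' hM
    (fun x => isAlgSpace_of_isPullback (sqi x) (IsAlgSpace.yon_obj N₀) (hM x) hN') hcov' sqi hi

end Groth.Agent.AlgSpNorm
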