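import Groth.Agent.AlgSpNorm.Main
import Groth.Agent.AlgSpDec.LqfScheme
import Groth.Agent.AlgSpDec.LimDescentRep
import Groth.Agent.AlgSpDec.SchemeNormalization
import Groth.Agent.AlgSpPts.SepDescent
import Groth.Agent.AlgSpLib.LocalBaseTop
import Mathlib.AlgebraicGeometry.ZariskisMainTheorem

/-!
# Quasi-finite separated morphisms and the normalization of the target in the source
-/

set_option autoImplicit false
set_option backward.isDefEq.respectTransparency false
set_option backward.isDefEq.respectTransparency.types false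

universe u

open CategoryTheory CategoryTheory.Limits AlgebraicGeometry Opposite AlgSp Groth.Agent.AlgSpLib
  Groth.Agent.AlgSpDec

namespace Groth.Agent.AlgSpNorm

variable {S : Scheme.{u}}

/-- An algebraic space has an etale covering by affine schemes. -/
theorem exists_etale_affine_cover {G : Sp S} (hG : IsAlgSpace G) :
    ∃ (κ : Type u) (W : κ → Over S) (c : ∀ k, (yon S).obj (W k) ⟶ G),
      (∀ k, IsAffine (W k).left) ∧ (∀ k, RepWith @Etale (c k)) ∧ (∀ x, ∃ k u, Points.ofPt (c k) u = x) ∧
      IsFpqcCover (fun k => (yon S).obj (W k)) c := by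
  obtain ⟨U, q, hqe, hqs⟩ := hG.atlas
  let W : U.left.affineOpens → Over S := fun V => Over.mk (V.1.ι ≫ U.hom)
  let o : ∀ V, W V ⟶ U := fun V => CategoryTheory.Over.homMk V.1.ι rfl
  have he : ∀ V, RepWith @Etale ((yon S).map (o V) ≫ q) := fun V =>
    repWith_comp ((repWith_yon_map_iff _ (o V)).2 (inferInstanceAs (Etale V.1.ι))) hqe
  have hsur : ∀ x, ∃ V u, Points.ofPt ((yon S).map (o V) ≫ q) u = x := fun x => by
    obtain ⟨u, rfl⟩ := surjective_ofPt hqs x
    obtain ⟨V, hV, hu, -⟩ := exists_isAffineOpen_mem_and_subset (U := (⊤ : U.left.Opens)) (x := u) trivial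
    exact ⟨⟨V, hV⟩, ⟨u, hu⟩, by rw [ofPt_comp]; rfl⟩
  refine ⟨_, W, fun V => (yon S).map (o V) ≫ q, fun V => V.2, he, hsur,
    isFpqcCover_of_isFppfCover hG (fun V => IsAlgSpace.yon_obj _) _ ⟨fun V => ?_, fun x => ?_⟩⟩
  · exact ⟨locP_mono (P := @Etale) (fun _ _ g (_ : Etale g) => (inferInstance : Flat g)) (locP_of_repWith (he V)),
      locP_mono (P := @Etale) (fun _ _ g (_ : Etale g) => (inferInstance : LocallyOfFinitePresentation g))
        (locP_of_repWith (he V))⟩
  · obtain ⟨V, u, rfl⟩ := hsur x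
    exact ⟨V, Points.ofPt (𝟙 _) u, by rw [Points.map_ofPt, Category.id_comp]⟩

/-- Over an affine etale chart a quasi-finite separated morphism is a quasi-compact open immersion into the
normalization. -/
theorem chart_openImmersion {X Y Y' : Sp S} (hX : IsAlgSpace X) (hY : IsAlgSpace Y) {f : X ⟶ Y}
    (hqf : LocP (@LocallyQuasiFinite ⊓ @LocallyOfFiniteType) f) (hqc : IsQuasiCompactMor f)
    (hsep : IsSeparatedMor f) {ν : Y' ⟶ Y} {f' : X ⟶ Y'} (hn : IsRelNormalization f ν f')
    {W : Over S} [IsAffine W.left] (c : (yon S).obj W ⟶ Y) (hc : RepWith @Etale c) :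
    ∃ (XW NW : Over S) (p : (yon S).obj XW ⟶ X) (π : XW ⟶ W) (n : (yon S).obj NW ⟶ Y') (νW : NW ⟶ W)
      (g : XW ⟶ NW), IsPullback p ((yon S).map π) f c ∧ IsPullback n ((yon S).map νW) ν c ∧
      g ≫ νW = π ∧ (yon S).map g ≫ n = p ≫ f' ∧ IsOpenImmersion g.left ∧ QuasiCompact g.left ∧
      IsAffineHom νW.left := by
  have hr := representable_of_lqf_separated hX hY f hqf hsep
  have hqs := isQuasiSeparatedMor_of_isSeparatedMor hsep
  have hν := isIntegralMor_iff_repWith.1 hn.2.1
  have hWA := IsAlgSpace.yon_obj W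
  let XW := hr.pullback c
  let π : XW ⟶ W := hr.snd c
  let p := hr.fst c
  have sqX : IsPullback p ((yon S).map π) f c := hr.isPullback c
  let NW := hν.rep.pullback c
  let νW : NW ⟶ W := hν.rep.snd c
  let n := hν.rep.fst c
  have sqN : IsPullback n ((yon S).map νW) ν c := hν.rep.isPullback c
  have hπ1 : (@LocallyQuasiFinite ⊓ @LocallyOfFiniteType : MorphismProperty Scheme.{u}) π.left :=
    (locP_of_isPullback sqX hX hY hWA hqf) (𝟙 _) (𝟙 _) π (repWith_id _ XW) (repWith_id _ W) (by simp)
  have : LocallyQuasiFinite π.left := hπ1.1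
  have : LocallyOfFiniteType π.left := hπ1.2
  have : IsSeparated π.left := (isSeparatedMor_yon_map_iff π).1 (AlgSpPts.isSeparatedMor_of_isPullback sqX hsep)
  have : QuasiCompact π.left :=
    AlgSpPts.quasiCompact_of_isQuasiCompactMor π (AlgSpPts.isQuasiCompactMor_of_isPullback sqX hqc)
  have hνi : IsIntegralHom νW.left := hν.property_snd c
  obtain ⟨g, hg⟩ := (yon S).map_surjective (sqN.lift (p ≫ f') ((yon S).map π) (by
    rw [Category.assoc, hn.1, sqX.w]))
  have hg1 : g ≫ νW = π := (yon S).map_injective (by rw [Functor.map_comp, hg, sqN.lift_snd])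
  have hg2 : (yon S).map g ≫ n = p ≫ f' := by rw [hg, sqN.lift_fst]
  have hW : IsAffine W.left := inferInstance
  have hn₁ := (normOn_of_isRelNormalization hX hY hqc hqs hn).2.2 hW c (locP_smooth_of_etale hc) p _ n _
    sqX sqN ((yon S).map g) (by rw [← Functor.map_comp, hg1]) hg2
  let N₀ : Over S := Over.mk (π.left.fromNormalization ≫ W.hom)
  let ν₀ : N₀ ⟶ W := CategoryTheory.Over.homMk π.left.fromNormalization rfl
  let g₀ : XW ⟶ N₀ := CategoryTheory.Over.homMk π.left.toNormalization (by
    change π.left.toNormalization ≫ π.left.fromNormalization ≫ W.hom = XW.hom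
    rw [Scheme.Hom.toNormalization_fromNormalization_assoc, Over.w])
  have hn₀ := SchemeNormalization.isRelNormalization π g₀ ν₀ (Iso.refl _) (by simp [g₀])
    (by simp [ν₀])
  obtain ⟨e, he1, -⟩ := exists_iso_of_isRelNormalization (IsAlgSpace.yon_obj N₀) (IsAlgSpace.yon_obj NW) hn₀ hn₁
  obtain ⟨e', he'⟩ := (yon S).map_surjective e.hom
  have : IsIso ((yon S).map e') := by rw [he']; infer_instance
  have : IsIso e' := isIso_of_reflects_iso e' (yon S)
  have : IsIso e'.left := inferInstanceAs (IsIso ((Over.forget S).map e'))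
  have hge : g = g₀ ≫ e' := (yon S).map_injective (by rw [Functor.map_comp, he', he1])
  have hgo : IsOpenImmersion g.left := by
    rw [hge, Over.comp_left]
    have : IsOpenImmersion g₀.left := inferInstanceAs (IsOpenImmersion π.left.toNormalization)
    infer_instance
  have : IsAffineHom νW.left := inferInstance
  have hgq : QuasiCompact g.left := by
    have : QuasiCompact (g.left ≫ νW.left) := by rw [← Over.comp_left, hg1]; infer_instance
    exact QuasiCompact.of_comp g.left νW.left
  exact ⟨XW, NW, p, π, n, νW, g, sqX, sqN, hg1, hg2, hgo, hgq, inferInstance⟩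

/-- Quasi-finite separated morphisms are open immersions into the normalization followed by an integral one. -/
theorem qf_separated {X Y Y' : Sp S} (hX : IsAlgSpace X) (hY : IsAlgSpace Y) {f : X ⟶ Y}
    (hqf : LocP (@LocallyQuasiFinite ⊓ @LocallyOfFiniteType) f) (hqc : IsQuasiCompactMor f)
    (hsep : IsSeparatedMor f) {ν : Y' ⟶ Y} {f' : X ⟶ Y'} (hn : IsRelNormalization f ν f') :
    RepWith @IsOpenImmersion f' ∧ IsQuasiCompactMor f' ∧ IsQuasiAffineMor f := by
  obtain ⟨κ, W, c, hW, hce, -, hcov⟩ := exists_etale_affine_cover hY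
  choose XW NW p π n νW g sqX sqN hg1 hg2 hgo hgq hνa using fun k =>
    haveI := hW k
    chart_openImmersion hX hY hqf hqc hsep hn (c k) (hce k)
  have hY' : IsAlgSpace Y' := isAlgSpace_of_isIntegralMor hn.2.1 hY
  have hcov' := isFpqcCover_of_isPullback hY hY' (fun k => IsAlgSpace.yon_obj (W k)) sqN hcov
  have sqg : ∀ k, IsPullback (p k) ((yon S).map (g k)) f' (n k) := fun k => by
    refine IsPullback.of_bot ?_ (hg2 k).symm (sqN k)
    rw [← Functor.map_comp, hg1 k, hn.1]
    exact sqX k
  refine ⟨(isLocalOnBase_fpqc_isOpenImmersion _ _ hY' (fun k => IsAlgSpace.yon_obj _) hcov' f' hX _ _ _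
      (fun k => IsAlgSpace.yon_obj _) sqg).2 fun k => (repWith_yon_map_iff _ _).2 (hgo k),
    (isLocalOnBase_fpqc_isQuasiCompactMor _ _ hY' (fun k => IsAlgSpace.yon_obj _) hcov' f' hX _ _ _
      (fun k => IsAlgSpace.yon_obj _) sqg).2 fun k =>
      AlgSpPts.isQuasiCompactMor_of_repWith ((repWith_yon_map_iff @QuasiCompact _).2 (hgq k)),
    (isLocalOnBase_fpqc_isQuasiAffineMor _ _ hY (fun k => IsAlgSpace.yon_obj _) hcov f hX _ _ _
      (fun k => IsAlgSpace.yon_obj _) sqX).2 fun k => ?_⟩
  intro Z hZ z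
  obtain ⟨z, rfl⟩ := (yon S).map_surjective z
  have sq : IsPullback (pullback.fst (π k) z) (pullback.snd (π k) z) (π k) z := IsPullback.of_hasPullback _ _
  refine ⟨_, pullback.snd (π k) z, (yon S).map (pullback.fst (π k) z), sq.map (yon S), ?_⟩
  have sqν : IsPullback (pullback.fst (νW k) z) (pullback.snd (νW k) z) (νW k) z := IsPullback.of_hasPullback _ _
  let h : pullback (π k) z ⟶ pullback (νW k) z :=
    sqν.lift (pullback.fst (π k) z ≫ g k) (pullback.snd (π k) z) (by rw [Category.assoc, hg1, pullback.condition])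
  have sqh : IsPullback (pullback.fst (π k) z) h (g k) (pullback.fst (νW k) z) := by
    refine IsPullback.of_bot ?_ (sqν.lift_fst _ _ _).symm sqν
    rw [hg1, sqν.lift_snd]
    exact sq
  have : IsOpenImmersion h.left :=
    MorphismProperty.of_isPullback (P := @IsOpenImmersion) (sqh.map (Over.forget S)) (hgo k)
  have : QuasiCompact h.left :=
    MorphismProperty.of_isPullback (P := @QuasiCompact) (sqh.map (Over.forget S)) (hgq k)
  have : IsAffineHom (pullback.snd (νW k) z).left :=
    MorphismProperty.of_isPullback (P := @IsAffineHom) (sqν.map (Over.forget S)) (hνa k)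
  have : IsAffine (pullback (νW k) z).left := isAffine_of_isAffineHom (pullback.snd (νW k) z).left
  have : CompactSpace ↥(pullback (π k) z).left := QuasiCompact.compactSpace_of_compactSpace h.left
  exact Scheme.IsQuasiAffine.of_isImmersion h.left

end Groth.Agent.AlgSpNorm
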