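import Groth.Agent.AlgSpNorm.Split
import Groth.Agent.AlgSpNorm.Cover
import Groth.Agent.AlgSpNorm.Zmt
import Groth.Agent.AlgSpDec.OpenGlue
import Groth.Agent.EtFound.SectionUnr
import Groth.Agent.S9920
import Groth.Agent.S10180
import Groth.Agent.S10181

/-!
# Normalizations which are schemes
-/

set_option autoImplicit false
set_option backward.isDefEq.respectTransparency false
set_option backward.isDefEq.respectTransparency.types false

universe u

open CategoryTheory CategoryTheory.Limits AlgebraicGeometry Opposite AlgSp Groth.Agent.AlgSpLib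
  Groth.Agent.AlgSpDec

namespace Groth.Agent.AlgSpNorm

variable {S : Scheme.{u}}

/-- Clopen subsets of the source come from clopen subsets of the normalization. -/
theorem exists_clopen_normalization {X T : Scheme.{u}} (t : X ⟶ T) [QuasiCompact t] [QuasiSeparated t]
    (C : Set X) (hC : IsClopen C) : ∃ O : Set ↥t.normalization, IsClopen O ∧ t.toNormalization ⁻¹' O = C := by
  let C₁ : X.Opens := ⟨C, hC.2⟩
  let C₂ : X.Opens := ⟨Cᶜ, hC.1.isOpen_compl⟩
  have hr : IsCompl C₁.ι.opensRange C₂.ι.opensRange := by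
    simp only [isCompl_iff, disjoint_iff, codisjoint_iff, ← TopologicalSpace.Opens.coe_inj]
    simp [C₁, C₂]
  obtain ⟨h⟩ := nonempty_isColimit_binaryCofanMk_of_isCompl C₁.ι C₂.ι hr
  obtain ⟨gC, hgC₁, hgC₂⟩ : ∃ g : X ⟶ T ⨿ T, C₁.ι ≫ g = (C₁.ι ≫ t) ≫ coprod.inl ∧
      C₂.ι ≫ g = (C₂.ι ≫ t) ≫ coprod.inr :=
    ⟨(BinaryCofan.IsColimit.desc' h _ _).1, (BinaryCofan.IsColimit.desc' h _ _).2.1,
      (BinaryCofan.IsColimit.desc' h _ _).2.2⟩
  have hfin : IsIntegralHom (coprod.desc (𝟙 T) (𝟙 T) : T ⨿ T ⟶ T) := inferInstance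
  have hfac : t = gC ≫ coprod.desc (𝟙 T) (𝟙 T) := by
    refine BinaryCofan.IsColimit.hom_ext h ?_ ?_
    · change C₁.ι ≫ t = C₁.ι ≫ gC ≫ _
      rw [reassoc_of% hgC₁]; simp
    · change C₂.ι ≫ t = C₂.ι ≫ gC ≫ _
      rw [reassoc_of% hgC₂]; simp
  let d := t.normalizationDesc gC (coprod.desc (𝟙 T) (𝟙 T)) hfac
  have hd : t.toNormalization ≫ d = gC := t.toNormalization_normalizationDesc _ _ hfac
  have hcl : IsClopen (Set.range (coprod.inl : T ⟶ T ⨿ T)) := by
    refine ⟨?_, IsOpenImmersion.isOpen_range _⟩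
    rw [← isOpen_compl_iff, (isCompl_range_inl_inr T T).compl_eq]
    exact IsOpenImmersion.isOpen_range _
  refine ⟨d ⁻¹' Set.range (coprod.inl : T ⟶ T ⨿ T), hcl.preimage d.continuous, ?_⟩
  ext x
  rw [Set.mem_preimage, Set.mem_preimage, ← Scheme.Hom.comp_apply, hd]
  constructor
  · intro hx
    by_contra hxC
    have hx' : gC x ∈ Set.range (coprod.inr : T ⟶ T ⨿ T) := by
      refine ⟨t x, ?_⟩
      have := congrArg (fun g => g (⟨x, hxC⟩ : C₂.toScheme)) hgC₂
      exact this.symm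
    exact Set.disjoint_left.1 (isCompl_range_inl_inr T T).disjoint hx hx'
  · intro hxC
    refine ⟨t x, ?_⟩
    have := congrArg (fun g => g (⟨x, hxC⟩ : C₁.toScheme)) hgC₁
    exact this.symm

/-- An etale covering of a quasi-compact scheme is refined by an affine one. -/
theorem exists_affine_refinement_etale {V W : Over S} (v : V ⟶ W) [Etale v.left] [Surjective v.left]
    [CompactSpace W.left] :
    ∃ (W₁ : Over S) (w : W₁ ⟶ V), IsAffine W₁.left ∧ Etale w.left ∧ Surjective (w ≫ v).left := by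
  classical
  let 𝒰 := V.left.affineCover
  obtain ⟨s, hs⟩ := isCompact_univ.elim_finite_subcover (fun i => Set.range (𝒰.f i ≫ v.left))
    (fun i => (𝒰.f i ≫ v.left).isOpenMap.isOpen_range) (fun x _ => by
      obtain ⟨y, rfl⟩ := v.left.surjective x
      obtain ⟨z, hz⟩ := 𝒰.covers y
      exact Set.mem_iUnion.2 ⟨𝒰.idx y, z, by rw [Scheme.Hom.comp_apply, hz]⟩)
  let Z : s → Scheme.{u} := fun i => 𝒰.X i.1
  let w : ∐ Z ⟶ V.left := Sigma.desc fun i => 𝒰.f i.1
  have : Etale w := IsZariskiLocalAtSource.of_openCover (P := @Etale) (sigmaOpenCover Z) fun i => by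
    change Etale (Sigma.ι Z i ≫ w)
    simp only [w, Sigma.ι_desc]
    infer_instance
  refine ⟨Over.mk (w ≫ V.hom), CategoryTheory.Over.homMk w rfl, inferInstanceAs (IsAffine (∐ Z)), ‹_›, ⟨fun x => ?_⟩⟩
  obtain ⟨i, hi, z, hz⟩ := Set.mem_iUnion₂.1 (hs (Set.mem_univ x))
  refine ⟨Sigma.ι Z ⟨i, hi⟩ z, ?_⟩
  change (Sigma.ι Z ⟨i, hi⟩ ≫ w ≫ v.left) z = x
  simp only [w, Sigma.ι_desc_assoc]
  exact hz

/-- The normalization of a space in a scheme which is separated by clopens over an affine chart is a scheme. -/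
theorem exists_scheme_normalization [QuasiSeparatedSpace ↥S] {X : Sp S} (hX : IsAlgSpace X) (hqs : IsQuasiSeparatedSp X)
    {U₁ : Over S} [IsAffine U₁.left] {q : (yon S).obj U₁ ⟶ X} (hqe : RepWith @Etale q) (hqsur : RepWith @Surjective q)
    {V : Over S} [CompactSpace ↥V.left] (f : (yon S).obj V ⟶ X) (hfsep : IsSeparatedMor f)
    (hfqc : IsQuasiCompactMor f)
    (hsep : ∀ {VU : Over S} (t : VU ⟶ U₁) (τ : VU ⟶ V), IsPullback ((yon S).map t) ((yon S).map τ) q f →
      ClopenSep τ.left) :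
    ∃ (Y : Over S) (ν : (yon S).obj Y ⟶ X) (g : (yon S).obj V ⟶ (yon S).obj Y), NormOn f ν g ∧
      ∀ y : ↥Y.left, ∃ (W : Y.left.Opens) (c : Over.mk (W.ι ≫ Y.hom) ⟶ U₁), y ∈ W ∧
        (yon S).map c ≫ q = (yon S).map (Over.homMk W.ι rfl : Over.mk (W.ι ≫ Y.hom) ⟶ Y) ≫ ν := by
  have hVA := IsAlgSpace.yon_obj V
  have hU₁A := IsAlgSpace.yon_obj U₁
  have hqsep : RepWith @IsSeparated q := (Groth.Agent.S10181.result ⟨X, hX⟩ q hqe).1
  have hfqs := isQuasiSeparatedMor_of_isSeparatedMor hfsep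
  have hqqc : IsQuasiCompactMor q := Groth.Agent.S9920.result (X := ⟨_, hU₁A⟩) (Y := ⟨X, hX⟩)
    (ObjectProperty.homMk q) ((AlgSpPts.isQuasiCompactSp_yon_iff U₁).2 inferInstance) hqs
  -- normalization
  obtain ⟨Y', ν, f', hY', hon⟩ := exists_normOn hVA hX hfqc hfqs
  have hν := isIntegralMor_iff_repWith.1 hon.2.1
  let W := hν.rep.pullback q
  obtain ⟨νW, hνW⟩ : ∃ h : W ⟶ U₁, h = hν.rep.snd q := ⟨_, rfl⟩
  obtain ⟨w₀, hw₀⟩ : ∃ h : (yon S).obj W ⟶ Y', h = hν.rep.fst q := ⟨_, rfl⟩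
  have sqW : IsPullback w₀ ((yon S).map νW) ν q := by rw [hνW, hw₀]; exact hν.rep.isPullback q
  have hw₀e : RepWith @Etale w₀ := repWith_of_isPullback sqW.flip hqe
  have hw₀sur : RepWith @Surjective w₀ := repWith_of_isPullback sqW.flip hqsur
  have : IsIntegralHom νW.left := by rw [hνW]; exact hν.property_snd q
  have : IsAffine W.left := isAffine_of_isAffineHom νW.left
  have hw₀sep : RepWith @IsSeparated w₀ := (Groth.Agent.S10181.result ⟨Y', hY'⟩ w₀ hw₀e).1
  let VU := hqe.rep.pullback f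
  obtain ⟨t, ht⟩ : ∃ h : VU ⟶ U₁, h = hqe.rep.fst' f := ⟨_, rfl⟩
  obtain ⟨τ, hτ⟩ : ∃ h : VU ⟶ V, h = hqe.rep.snd f := ⟨_, rfl⟩
  have sqV : IsPullback ((yon S).map t) ((yon S).map τ) q f := by rw [ht, hτ]; exact hqe.rep.isPullback' f
  obtain ⟨g, hg⟩ := (yon S).map_surjective (sqW.lift ((yon S).map τ ≫ f') ((yon S).map t)
    (by rw [Category.assoc, hon.1, sqV.w]))
  have hg1 : (yon S).map g ≫ w₀ = (yon S).map τ ≫ f' := by rw [hg, sqW.lift_fst]
  have hg2 : g ≫ νW = t := (yon S).map_injective (by rw [Functor.map_comp, hg, sqW.lift_snd])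
  have sqg : IsPullback ((yon S).map g) ((yon S).map τ) w₀ f' := by
    have h1 : IsPullback ((yon S).map τ) ((yon S).map g ≫ (yon S).map νW) (f' ≫ ν) q := by
      rw [← Functor.map_comp, hg2, hon.1]; exact sqV.flip
    exact (IsPullback.of_bot h1 hg1.symm sqW).flip
  have : QuasiCompact t.left := AlgSpPts.quasiCompact_of_isQuasiCompactMor t
    (AlgSpPts.isQuasiCompactMor_of_isPullback sqV.flip hfqc)
  have : IsSeparated t.left :=
    (isSeparatedMor_yon_map_iff t).1 (AlgSpPts.isSeparatedMor_of_isPullback sqV.flip hfsep)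
  have : QuasiCompact τ.left := AlgSpPts.quasiCompact_of_isQuasiCompactMor τ
    (AlgSpPts.isQuasiCompactMor_of_isPullback sqV hqqc)
  have : IsSeparated τ.left := by rw [hτ]; exact hqsep.property _ _ _ (hqe.rep.isPullback f)
  have : Etale τ.left := by rw [hτ]; exact hqe.property_snd f
  -- dominance and clopen sets
  have hn₁ := hon.2.2 (W := U₁) inferInstance q (locP_smooth_of_etale hqe) ((yon S).map τ) ((yon S).map t) w₀
    ((yon S).map νW) sqV.flip sqW ((yon S).map g) (by rw [← Functor.map_comp, hg2]) hg1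
  let N₀ : Over S := Over.mk (t.left.fromNormalization ≫ U₁.hom)
  let ν₀ : N₀ ⟶ U₁ := CategoryTheory.Over.homMk t.left.fromNormalization rfl
  let g₀ : VU ⟶ N₀ := CategoryTheory.Over.homMk t.left.toNormalization (by
    change t.left.toNormalization ≫ t.left.fromNormalization ≫ U₁.hom = VU.hom
    rw [Scheme.Hom.toNormalization_fromNormalization_assoc, Over.w])
  have hn₀ := SchemeNormalization.isRelNormalization t g₀ ν₀ (Iso.refl _) (by simp [g₀]) (by simp [ν₀])
  obtain ⟨e, he1, -⟩ := exists_iso_of_isRelNormalization (IsAlgSpace.yon_obj N₀) (IsAlgSpace.yon_obj W) hn₀ hn₁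
  obtain ⟨e', rfl⟩ : ∃ e' : N₀ ≅ W, (yon S).mapIso e' = e := ⟨(yon S).preimageIso e, Iso.ext (by simp)⟩
  have hge : g₀.left ≫ e'.hom.left = g.left := by
    have : g₀ ≫ e'.hom = g := (yon S).map_injective (by rw [Functor.map_comp]; exact he1)
    rw [← this]; rfl
  have : IsIso e'.hom.left := inferInstanceAs (IsIso ((Over.forget S).map e'.hom))
  have hdense : DenseRange g.left := by
    rw [← hge]
    have : IsDominant g₀.left := inferInstanceAs (IsDominant t.left.toNormalization)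
    exact (g₀.left ≫ e'.hom.left).denseRange
  have hclopen : ∀ C : Set ↥VU.left, IsClopen C → ∃ O : Set ↥W.left, IsClopen O ∧ g.left ⁻¹' O = C := by
    intro C hC
    obtain ⟨O, hO, hOC⟩ := exists_clopen_normalization t.left C hC
    refine ⟨e'.inv.left ⁻¹' O, hO.preimage e'.inv.left.continuous, ?_⟩
    ext x
    have : e'.inv.left (g.left x) = t.left.toNormalization x := by
      rw [← hge, Scheme.Hom.comp_apply, ← Scheme.Hom.comp_apply, ← Over.comp_left, Iso.hom_inv_id]
      rfl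
    rw [Set.mem_preimage, Set.mem_preimage, this, ← Set.mem_preimage, hOC]
  -- the relation of the chart of `Y'`
  let R := hw₀e.rep.pullback w₀
  obtain ⟨r₁, hr₁⟩ : ∃ h : R ⟶ W, h = hw₀e.rep.fst' w₀ := ⟨_, rfl⟩
  obtain ⟨r₂, hr₂⟩ : ∃ h : R ⟶ W, h = hw₀e.rep.snd w₀ := ⟨_, rfl⟩
  have sqR : IsPullback ((yon S).map r₁) ((yon S).map r₂) w₀ w₀ := by
    rw [hr₁, hr₂]; exact hw₀e.rep.isPullback' w₀
  have : Etale r₁.left := hw₀e.property _ _ _ sqR.flip
  have : IsSeparated r₁.left := hw₀sep.property _ _ _ sqR.flip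
  obtain ⟨δ, hδ⟩ := (yon S).map_surjective (sqR.lift (𝟙 _) (𝟙 _) rfl)
  have hδ₁ : δ ≫ r₁ = 𝟙 W := (yon S).map_injective (by
    rw [Functor.map_comp, hδ, sqR.lift_fst, CategoryTheory.Functor.map_id])
  have hδ₂ : δ ≫ r₂ = 𝟙 W := (yon S).map_injective (by
    rw [Functor.map_comp, hδ, sqR.lift_snd, CategoryTheory.Functor.map_id])
  have hδs : δ.left ≫ r₁.left = 𝟙 _ := by rw [← Over.comp_left, hδ₁]; rfl
  have : IsOpenImmersion δ.left := EtFound.isOpenImmersion_section (p := r₁.left) δ.left hδs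
  have hδcl : IsClosed (Set.range δ.left) := by
    have : IsClosedImmersion (δ.left ≫ r₁.left) := by rw [hδs]; infer_instance
    have := IsClosedImmersion.of_comp δ.left r₁.left
    exact δ.left.isClosedEmbedding.isClosed_range
  -- separating clopens
  let VR := pullback τ τ
  let p₁ : VR ⟶ VU := pullback.fst τ τ
  let p₂ : VR ⟶ VU := pullback.snd τ τ
  have : QuasiCompact p₁.left := MorphismProperty.of_isPullback (P := @QuasiCompact)
    ((IsPullback.of_hasPullback τ τ).map (Over.forget S)).flip ‹QuasiCompact τ.left›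
  have : CompactSpace ↥VU.left := QuasiCompact.compactSpace_of_compactSpace τ.left
  have : CompactSpace ↥VR.left := QuasiCompact.compactSpace_of_compactSpace p₁.left
  obtain ⟨dia, hdia1, hdia2⟩ : ∃ d : VU ⟶ VR, d ≫ p₁ = 𝟙 _ ∧ d ≫ p₂ = 𝟙 _ :=
    ⟨pullback.lift (𝟙 _) (𝟙 _) rfl, pullback.lift_fst _ _ _, pullback.lift_snd _ _ _⟩
  have hdia : IsOpenImmersion dia.left := by
    have : Etale p₁.left := MorphismProperty.of_isPullback (P := @Etale)
      ((IsPullback.of_hasPullback τ τ).map (Over.forget S)).flip ‹Etale τ.left›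
    exact EtFound.isOpenImmersion_section (p := p₁.left) dia.left (by rw [← Over.comp_left, hdia1]; rfl)
  have hdiag : ∀ z : ↥VR.left, (∀ C : Set ↥VU.left, IsClopen C → (p₁.left z ∈ C ↔ p₂.left z ∈ C)) →
      z ∈ Set.range dia.left := fun z hz => by
    obtain ⟨ζ, hζ⟩ : ∃ ζ, ζ = VR.left.fromSpecResidueField z := ⟨_, rfl⟩
    have hζz : ζ (IsLocalRing.closedPoint (VR.left.residueField z)) = z := by
      rw [hζ]; exact Scheme.fromSpecResidueField_apply _ _
    have h12 := hsep t τ sqV (VR.left.residueField z) (ζ ≫ p₁.left) (ζ ≫ p₂.left)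
      (by rw [Category.assoc, Category.assoc, ← Over.comp_left, ← Over.comp_left, pullback.condition])
      (fun C hC => by
        rw [Scheme.Hom.comp_apply, Scheme.Hom.comp_apply]
        erw [hζz]
        exact hz C hC)
    have sq' := (IsPullback.of_hasPullback τ τ).map (Over.forget S)
    have : ζ = (ζ ≫ p₁.left) ≫ dia.left := sq'.hom_ext
      (by
        change ζ ≫ p₁.left = ((ζ ≫ p₁.left) ≫ dia.left) ≫ p₁.left
        rw [Category.assoc _ dia.left, ← Over.comp_left, hdia1]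
        exact (Category.comp_id _).symm)
      (by
        change ζ ≫ p₂.left = ((ζ ≫ p₁.left) ≫ dia.left) ≫ p₂.left
        rw [Category.assoc _ dia.left, ← Over.comp_left, hdia2, ← h12]
        exact (Category.comp_id _).symm)
    exact ⟨(ζ ≫ p₁.left) (IsLocalRing.closedPoint _), by
      rw [← Scheme.Hom.comp_apply, ← this, hζz]⟩
  let I := Option {C : Set ↥VU.left // IsClopen C}
  let D : I → Set ↥VR.left := fun i => i.elim (Set.range dia.left) fun C => p₁.left ⁻¹' C.1 ∩ p₂.left ⁻¹' C.1ᶜ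
  have hDo : ∀ i, IsOpen (D i)
    | none => dia.left.isOpenEmbedding.isOpen_range
    | some C => (C.2.2.preimage p₁.left.continuous).inter (C.2.1.isOpen_compl.preimage p₂.left.continuous)
  obtain ⟨s, hs⟩ := isCompact_univ.elim_finite_subcover D hDo (fun z _ => by
    by_cases hz : ∀ C : Set ↥VU.left, IsClopen C → (p₁.left z ∈ C ↔ p₂.left z ∈ C)
    · exact Set.mem_iUnion.2 ⟨none, hdiag z hz⟩
    · push_neg at hz
      obtain ⟨C, hC, h | h⟩ := hz
      · exact Set.mem_iUnion.2 ⟨some ⟨C, hC⟩, h.1, h.2⟩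
      · exact Set.mem_iUnion.2 ⟨some ⟨Cᶜ, hC.compl⟩, h.1, fun hn => hn h.2⟩)
  choose Ofun hO₁ hO₂ using fun C : {C : Set ↥VU.left // IsClopen C} => hclopen C.1 C.2
  -- the open set separating a point
  have key : ∀ w : ↥W.left, ∃ O : W.left.Opens, w ∈ O ∧
      ∀ v₁ v₂, g.left v₁ ∈ O → g.left v₂ ∈ O → ∀ z : ↥VR.left, p₁.left z = v₁ → p₂.left z = v₂ →
        z ∈ Set.range dia.left := fun w => by
    classical
    let P : I → Set ↥W.left := fun i => i.elim Set.univ fun C => if w ∈ Ofun C then Ofun C else (Ofun C)ᶜ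
    have hP : ∀ i, IsOpen (P i) ∧ w ∈ P i
      | none => ⟨isOpen_univ, trivial⟩
      | some C => by
        simp only [P, Option.elim]
        split_ifs with h
        · exact ⟨(hO₁ C).2, h⟩
        · exact ⟨(hO₁ C).1.isOpen_compl, h⟩
    refine ⟨⟨⋂ i ∈ s, P i, isOpen_biInter_finset fun i _ => (hP i).1⟩, Set.mem_iInter₂.2 fun i _ => (hP i).2, ?_⟩
    intro v₁ v₂ h₁ h₂ z hz1 hz2
    obtain ⟨i, hi, hzi⟩ := Set.mem_iUnion₂.1 (hs (Set.mem_univ z))
    cases i with
    | none => exact hzi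
    | some C =>
      exfalso
      obtain ⟨hzC, hzC'⟩ := hzi
      rw [Set.mem_preimage, hz1, ← hO₂ C] at hzC
      rw [Set.mem_preimage, hz2, ← hO₂ C] at hzC'
      have e1 := Set.mem_iInter₂.1 h₁ _ hi
      have e2 := Set.mem_iInter₂.1 h₂ _ hi
      simp only [P, Option.elim] at e1 e2
      split_ifs at e1 e2 with h
      · exact hzC' e2
      · exact e1 hzC
  choose O hwO hO using key
  -- the restrictions of the chart are monomorphisms
  have hmono : ∀ w, Mono ((yon S).map (CategoryTheory.Over.homMk (O w).ι rfl :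
      Over.mk ((O w).ι ≫ W.hom) ⟶ W) ≫ w₀) := fun w => by
    refine mono_of_yon_injective fun T a c hac => ?_
    obtain ⟨a, rfl⟩ := (yon S).map_surjective a
    obtain ⟨c, rfl⟩ := (yon S).map_surjective c
    let ιO : Over.mk ((O w).ι ≫ W.hom) ⟶ W := CategoryTheory.Over.homMk (O w).ι rfl
    obtain ⟨ρ, hρ⟩ := (yon S).map_surjective (sqR.lift ((yon S).map (a ≫ ιO)) ((yon S).map (c ≫ ιO)) (by
      simpa only [Functor.map_comp, Category.assoc] using hac))
    have hρ₁ : ρ ≫ r₁ = a ≫ ιO := (yon S).map_injective (by rw [Functor.map_comp, hρ, sqR.lift_fst])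
    have hρ₂ : ρ ≫ r₂ = c ≫ ιO := (yon S).map_injective (by rw [Functor.map_comp, hρ, sqR.lift_snd])
    let Ω : Set ↥R.left := r₁.left ⁻¹' O w ∩ r₂.left ⁻¹' O w ∩ (Set.range δ.left)ᶜ
    have hΩo : IsOpen Ω := (((O w).2.preimage r₁.left.continuous).inter
      ((O w).2.preimage r₂.left.continuous)).inter hδcl.isOpen_compl
    have hΩ : Ω = ∅ := by
      by_contra hne
      obtain ⟨r₀, hr₀⟩ := Set.nonempty_iff_ne_empty.2 hne
      obtain ⟨v₁, ⟨r', hr', hrv⟩⟩ := hdense.exists_mem_open (r₁.left.isOpenMap _ hΩo) ⟨_, r₀, hr₀, rfl⟩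
      obtain ⟨y, hy1, hy2⟩ := Scheme.Pullback.exists_preimage_pullback (f := g.left) (g := r₁.left) v₁ r' hrv.symm
      let L := (pullback g.left r₁.left).residueField y
      let ξ := (pullback g.left r₁.left).fromSpecResidueField y
      let T₀ : Over S := Over.mk (ξ ≫ pullback.fst g.left r₁.left ≫ VU.hom)
      let a₁ : T₀ ⟶ VU := CategoryTheory.Over.homMk (ξ ≫ pullback.fst g.left r₁.left) (by simp [T₀])
      let ρ₁ : T₀ ⟶ R := CategoryTheory.Over.homMk (ξ ≫ pullback.snd g.left r₁.left) (by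
        change (ξ ≫ pullback.snd g.left r₁.left) ≫ R.hom = ξ ≫ pullback.fst g.left r₁.left ≫ VU.hom
        rw [← Over.w r₁, ← Over.w g, Category.assoc, ← pullback.condition_assoc])
      have har : a₁ ≫ g = ρ₁ ≫ r₁ := Over.OverMorphism.ext (by
        simp [a₁, ρ₁, pullback.condition])
      obtain ⟨a₂, ha₂⟩ := (yon S).map_surjective (sqg.lift ((yon S).map (ρ₁ ≫ r₂)) ((yon S).map (a₁ ≫ τ)) (by
        rw [Functor.map_comp, Functor.map_comp, Category.assoc, Category.assoc, ← hg1, ← sqR.w, ← Category.assoc,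
          ← Category.assoc, ← Functor.map_comp, ← Functor.map_comp, har]))
      have ha₂g : a₂ ≫ g = ρ₁ ≫ r₂ := (yon S).map_injective (by rw [Functor.map_comp, ha₂, sqg.lift_fst])
      have ha₂τ : a₂ ≫ τ = a₁ ≫ τ := (yon S).map_injective (by rw [Functor.map_comp, ha₂, sqg.lift_snd])
      let z : T₀ ⟶ VR := pullback.lift a₁ a₂ ha₂τ.symm
      have hξ : ξ (IsLocalRing.closedPoint L) = y := Scheme.fromSpecResidueField_apply _ _
      have hρ₁pt : ρ₁.left (IsLocalRing.closedPoint L) = r' := by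
        change (ξ ≫ pullback.snd g.left r₁.left) _ = r'
        rw [Scheme.Hom.comp_apply, hξ, hy2]
      have ha₁pt : a₁.left (IsLocalRing.closedPoint L) = v₁ := by
        change (ξ ≫ pullback.fst g.left r₁.left) _ = v₁
        rw [Scheme.Hom.comp_apply, hξ, hy1]
      have hg2O : g.left (a₂.left (IsLocalRing.closedPoint L)) ∈ O w := by
        rw [← Scheme.Hom.comp_apply, ← Over.comp_left, ha₂g, Over.comp_left, Scheme.Hom.comp_apply, hρ₁pt]
        exact hr'.1.2
      have hg1O : g.left v₁ ∈ O w := by rw [← hrv]; exact hr'.1.1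
      obtain ⟨v, hv⟩ := hO w v₁ (a₂.left (IsLocalRing.closedPoint L)) hg1O hg2O (z.left (IsLocalRing.closedPoint L))
        (by rw [← Scheme.Hom.comp_apply, ← Over.comp_left, pullback.lift_fst, ha₁pt])
        (by rw [← Scheme.Hom.comp_apply, ← Over.comp_left, pullback.lift_snd])
      have h12 : a₁ = a₂ := by
        obtain ⟨l, hl⟩ := exists_factor_openImm dia z fun y => by
          refine ⟨v, hv.trans ?_⟩
          rw [Subsingleton.elim (α := PrimeSpectrum L) y (IsLocalRing.closedPoint L)]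
        have e₁ : z ≫ p₁ = a₁ := pullback.lift_fst _ _ _
        have e₂ : z ≫ p₂ = a₂ := pullback.lift_snd _ _ _
        rw [← e₁, ← e₂, ← hl, Category.assoc, Category.assoc, hdia1, hdia2]
      have hρδ : ρ₁ = (a₁ ≫ g) ≫ δ := (yon S).map_injective (sqR.hom_ext
        (by rw [← Functor.map_comp, ← Functor.map_comp, Category.assoc, hδ₁, Category.comp_id, har])
        (by rw [← Functor.map_comp, ← Functor.map_comp, Category.assoc, hδ₂, Category.comp_id, h12, ha₂g]))
      refine hr'.2 ⟨(a₁ ≫ g).left (IsLocalRing.closedPoint L), ?_⟩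
      rw [← Scheme.Hom.comp_apply, ← Over.comp_left, ← hρδ, hρ₁pt]
    have hρr : Set.range ρ.left ⊆ Set.range δ.left := by
      rintro _ ⟨x, rfl⟩
      by_contra hx
      have : ρ.left x ∈ Ω := ⟨⟨by
          rw [Set.mem_preimage, ← Scheme.Hom.comp_apply, ← Over.comp_left, hρ₁]; exact (a.left x).2, by
          rw [Set.mem_preimage, ← Scheme.Hom.comp_apply, ← Over.comp_left, hρ₂]; exact (c.left x).2⟩, hx⟩
      rw [hΩ] at this
      exact this
    obtain ⟨k, hk⟩ := exists_factor_openImm δ ρ fun x => hρr ⟨x, rfl⟩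
    congr 1
    have : Mono ιO := (Over.forget S).mono_of_mono_map (inferInstanceAs (Mono (O w).ι))
    rw [← cancel_mono ιO, ← hρ₁, ← hρ₂, ← hk, Category.assoc, Category.assoc, hδ₁, hδ₂]
  -- `Y'` is a scheme
  let T : ↥W.left → Over S := fun w => Over.mk ((O w).ι ≫ W.hom)
  let ιO : ∀ w, T w ⟶ W := fun w => CategoryTheory.Over.homMk (O w).ι rfl
  let j : ∀ w, (yon S).obj (T w) ⟶ Y' := fun w => (yon S).map (ιO w) ≫ w₀
  have hj : ∀ w, RepWith @IsOpenImmersion (j w) := fun w => by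
    have := hmono w
    exact repWith_isOpenImmersion_of_mono_of_etale (IsAlgSpace.yon_obj _) hY' (j w) (locP_of_repWith
      (repWith_comp ((repWith_yon_map_iff _ _).2 (inferInstanceAs (Etale (O w).ι))) hw₀e))
  have hjc : ∀ y, ∃ w u, Points.ofPt (j w) u = y := fun y => by
    obtain ⟨w, rfl⟩ := surjective_ofPt hw₀sur y
    exact ⟨w, ⟨w, hwO w⟩, by rw [ofPt_comp]; rfl⟩
  obtain ⟨Y, ⟨eY⟩, -⟩ := exists_iso_of_open_cover T j hj hjc
  choose jY hjY using fun w => (yon S).map_surjective (j w ≫ eY.inv)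
  have hjYo : ∀ w, IsOpenImmersion (jY w).left := fun w => by
    refine (repWith_yon_map_iff _ _).1 ?_
    rw [hjY]
    exact repWith_comp (hj w) (repWith_of_isIso _ _)
  refine ⟨Y, eY.hom ≫ ν, f' ≫ eY.inv,
    normOn_of_iso (Iso.refl _) eY (Iso.refl _) hX hX (by simp) (by simp) (by simp) hon, fun y => ?_⟩
  obtain ⟨w, u, hu⟩ := hjc (Points.ofPt eY.hom y)
  have hy : (jY w).left u = y := by
    have h1 : Points.ofPt ((yon S).map (jY w) ≫ 𝟙 _) u = Points.ofPt (𝟙 ((yon S).obj Y)) y := by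
      rw [Category.comp_id, hjY, ← Points.map_ofPt, hu, Points.map_ofPt, Iso.hom_inv_id]
    rw [ofPt_comp] at h1
    exact (Points.schemeHomeo Y).injective h1
  have := hjYo w
  let W' : Y.left.Opens := (jY w).left.opensRange
  let eI : Over.mk (W'.ι ≫ Y.hom) ⟶ T w := CategoryTheory.Over.homMk (jY w).left.isoOpensRange.inv (by
    change (jY w).left.isoOpensRange.inv ≫ (T w).hom = W'.ι ≫ Y.hom
    rw [← Over.w (jY w), ← Category.assoc, Scheme.Hom.isoOpensRange_inv_comp])
  have heI : eI ≫ jY w = (CategoryTheory.Over.homMk W'.ι rfl : Over.mk (W'.ι ≫ Y.hom) ⟶ Y) :=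
    Over.OverMorphism.ext (Scheme.Hom.isoOpensRange_inv_comp _)
  refine ⟨W', eI ≫ ιO w ≫ νW, ⟨u, hy⟩, ?_⟩
  rw [← heI]
  simp only [Functor.map_comp, Category.assoc, reassoc_of% (hjY w), Iso.inv_hom_id_assoc, j]
  rw [sqW.w]


end Groth.Agent.AlgSpNorm
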