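import Groth.Agent.AlgSpNorm.AbsFlat
import Groth.Agent.AlgSpNorm.SepCover

/-!
# Integral coverings of algebraic spaces by schemes
-/

set_option autoImplicit false
set_option backward.isDefEq.respectTransparency false
set_option backward.isDefEq.respectTransparency.types false

universe u

open CategoryTheory CategoryTheory.Limits AlgebraicGeometry Opposite AlgSp Groth.Agent.AlgSpLib
  Groth.Agent.AlgSpDec

namespace Groth.Agent.AlgSpNorm

variable {S : Scheme.{u}}

theorem exists_scheme_cover [QuasiSeparatedSpace ↥S] {X : Sp S} (hX : IsAlgSpace X) (hqc : IsQuasiCompactSp X)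
    (hqs : IsQuasiSeparatedSp X) {U : Over S} (b : (yon S).obj U ⟶ X) (hb : RepWith @Etale b)
    (hbs : RepWith @Surjective b) :
    ∃ (Y : Over S) (g : (yon S).obj Y ⟶ X), RepWith @IsIntegralHom g ∧ RepWith @Surjective g ∧
      ∀ y : ↥Y.left, ∃ (W : Y.left.Opens) (c : Over.mk (W.ι ≫ Y.hom) ⟶ U), y ∈ W ∧
        (yon S).map c ≫ b = (yon S).map (Over.homMk W.ι rfl : Over.mk (W.ι ≫ Y.hom) ⟶ Y) ≫ g := by
  -- an affine chart factoring through the given one
  obtain ⟨U₀, a₀, hU₀, ha₀, ha₀s⟩ := (Groth.Agent.S10180.result ⟨X, hX⟩).1 hqc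
  let V₀ := hb.rep.pullback a₀
  obtain ⟨v₀, hv₀⟩ : ∃ v : V₀ ⟶ U₀, v = hb.rep.snd a₀ := ⟨_, rfl⟩
  have : Etale v₀.left := by rw [hv₀]; exact hb.property_snd a₀
  have : Surjective v₀.left := by rw [hv₀]; exact hbs.property _ _ _ (hb.rep.isPullback a₀)
  obtain ⟨U₁, w₁, hU₁, hw₁, hw₁s⟩ := exists_affine_refinement_etale v₀
  obtain ⟨q, hq⟩ : ∃ q : (yon S).obj U₁ ⟶ X, q = (yon S).map (w₁ ≫ v₀) ≫ a₀ := ⟨_, rfl⟩
  have hqe : RepWith @Etale q := by
    rw [hq]; exact repWith_comp ((repWith_yon_map_iff _ _).2 (show Etale (w₁.left ≫ v₀.left) by infer_instance)) ha₀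
  have hqsur : RepWith @Surjective q := by
    rw [hq]; exact repWith_comp ((repWith_yon_map_iff _ _).2 hw₁s) ha₀s
  have hc₁ : (yon S).map (w₁ ≫ hb.rep.fst' a₀) ≫ b = q := by
    rw [hq, hv₀, Functor.map_comp, Functor.map_comp, Category.assoc, Category.assoc, (hb.rep.isPullback' a₀).w]
  -- the product of algebraically closed fields
  obtain ⟨A, strA, ⟨eU⟩⟩ := exists_spec_iso U₁
  let K : PrimeSpectrum A → Type u := fun p => AlgebraicClosure p.asIdeal.ResidueField
  let φ : A ⟶ CommRingCat.of (∀ p, K p) := CommRingCat.ofHom (Pi.ringHom fun p =>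
    (algebraMap p.asIdeal.ResidueField (K p)).comp (algebraMap A p.asIdeal.ResidueField))
  let V : Over S := Over.mk (Spec.map φ ≫ strA)
  let v : V ⟶ U₁ := (CategoryTheory.Over.homMk (Spec.map φ) rfl : V ⟶ Over.mk strA) ≫ eU.hom
  have : IsAffine V.left := inferInstanceAs (IsAffine (Spec _))
  have hv : Function.Surjective v.left := by
    intro x
    have : IsIso eU.hom.left := inferInstanceAs (IsIso ((Over.forget S).map eU.hom))
    obtain ⟨p, rfl⟩ := eU.hom.left.surjective x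
    let p' : PrimeSpectrum A := p
    let ev : CommRingCat.of (∀ p, K p) ⟶ CommRingCat.of (K p') := CommRingCat.ofHom (Pi.evalRingHom K p')
    refine ⟨Spec.map ev (IsLocalRing.closedPoint (K p')), ?_⟩
    rw [show v.left = Spec.map φ ≫ eU.hom.left from rfl, Scheme.Hom.comp_apply]
    congr 1
    change (Spec.map ev ≫ Spec.map φ) _ = _
    rw [← Spec.map_comp]
    refine PrimeSpectrum.ext ?_
    change Ideal.comap ((algebraMap p'.asIdeal.ResidueField (K p')).comp (algebraMap A p'.asIdeal.ResidueField))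
      (IsLocalRing.closedPoint (K p')).asIdeal = p'.asIdeal
    rw [show (IsLocalRing.closedPoint (K p')).asIdeal = ⊥ from IsLocalRing.maximalIdeal_eq_bot, ← RingHom.ker_eq_comap_bot,
      RingHom.ker_comp_of_injective _ (RingHom.injective _), Ideal.ker_algebraMap_residueField]
  obtain ⟨f, hf⟩ : ∃ f : (yon S).obj V ⟶ X, f = (yon S).map v ≫ q := ⟨_, rfl⟩
  have hVA := IsAlgSpace.yon_obj V
  have hU₁A := IsAlgSpace.yon_obj U₁
  have hqsep : RepWith @IsSeparated q := (Groth.Agent.S10181.result ⟨X, hX⟩ q hqe).1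
  have : IsSeparated v.left := inferInstance
  have hfsep : IsSeparatedMor f := by
    rw [hf]
    exact AlgSpPts.isSeparatedMor_comp ((isSeparatedMor_yon_map_iff v).2 inferInstance)
      (isSeparatedMor_of_repWith hqsep)
  have hfqs := isQuasiSeparatedMor_of_isSeparatedMor hfsep
  have hfqc : IsQuasiCompactMor f := Groth.Agent.S9920.result (X := ⟨_, hVA⟩) (Y := ⟨X, hX⟩)
    (ObjectProperty.homMk f) ((AlgSpPts.isQuasiCompactSp_yon_iff V).2 inferInstance) hqs
  have hqqc : IsQuasiCompactMor q := Groth.Agent.S9920.result (X := ⟨_, hU₁A⟩) (Y := ⟨X, hX⟩)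
    (ObjectProperty.homMk q) ((AlgSpPts.isQuasiCompactSp_yon_iff U₁).2 inferInstance) hqs
  have hsep : ∀ {VU : Over S} (t : VU ⟶ U₁) (τ : VU ⟶ V), IsPullback ((yon S).map t) ((yon S).map τ) q f →
      ClopenSep τ.left := fun {VU} t τ sqV => by
    have : Etale τ.left := (repWith_yon_map_iff @Etale τ).1 (repWith_of_isPullback sqV hqe)
    have : IsSeparated τ.left := (repWith_yon_map_iff @IsSeparated τ).1 (repWith_of_isPullback sqV hqsep)
    have : QuasiCompact τ.left := AlgSpPts.quasiCompact_of_isQuasiCompactMor τ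
      (AlgSpPts.isQuasiCompactMor_of_isPullback sqV hqqc)
    obtain ⟨htsep, hcomp, heq⟩ := etale_pi (K := K) (V := V.left) (Iso.refl _) τ.left
    intro L _ a b hab hC
    refine heq L a b hab ?_
    by_contra hne
    obtain ⟨C, hC', h1, h2⟩ := exists_isClopen_of_totally_separated hne
    exact h2 ((hC C hC').1 h1)
  obtain ⟨Y, ν, g, hon, hloc⟩ := exists_scheme_normalization hX hqs hqe hqsur f hfsep hfqc hsep
  have hν := isIntegralMor_iff_repWith.1 hon.2.1
  refine ⟨Y, ν, hν, repWith_surjective_of_surjective hν.rep fun x => ?_, fun y => ?_⟩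
  · obtain ⟨u, rfl⟩ := surjective_ofPt hqsur x
    obtain ⟨x₀, rfl⟩ := hv u
    exact ⟨Points.ofPt g x₀, by rw [Points.map_ofPt, hon.1, hf, ofPt_comp]⟩
  · obtain ⟨W', c, hy, hc⟩ := hloc y
    exact ⟨W', c ≫ w₁ ≫ hb.rep.fst' a₀, hy, by rw [Functor.map_comp, Category.assoc, hc₁, hc]⟩

end Groth.Agent.AlgSpNorm
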