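import Groth.Agent.AlgSpDec.AffineRep
import Groth.Agent.AlgSpLib.Rep
import Groth.Agent.AlgSpLib.FpqcDescent
import Groth.Prelude.Def_AlgSpMor5

/-!
# Formal properties of relative normalization of algebraic spaces
-/

set_option autoImplicit false
set_option backward.isDefEq.respectTransparency false
set_option backward.isDefEq.respectTransparency.types false

universe u

open CategoryTheory CategoryTheory.Limits AlgebraicGeometry AlgSp Groth.Agent.AlgSpLib Groth.Agent.AlgSpDec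

namespace Groth.Agent.AlgSpNorm

variable {S : Scheme.{u}}

theorem isIntegralMor_of_isIso {F G : Sp S} (f : F ⟶ G) [IsIso f] : IsIntegralMor f :=
  isIntegralMor_iff_repWith.2 (repWith_of_isIso _ f)

theorem isIntegralMor_comp {F G H : Sp S} {f : F ⟶ G} {g : G ⟶ H} (hf : IsIntegralMor f)
    (hg : IsIntegralMor g) : IsIntegralMor (f ≫ g) :=
  isIntegralMor_iff_repWith.2 (repWith_comp (isIntegralMor_iff_repWith.1 hf) (isIntegralMor_iff_repWith.1 hg))

theorem isIntegralMor_of_isPullback {F G F' G' : Sp S} {f : F ⟶ G} {g : G' ⟶ G} {fst : F' ⟶ F}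
    {snd : F' ⟶ G'} (sq : IsPullback fst snd f g) (hf : IsIntegralMor f) : IsIntegralMor snd :=
  isIntegralMor_iff_repWith.2 (repWith_of_isPullback sq (isIntegralMor_iff_repWith.1 hf))

theorem isAlgSpace_of_isIntegralMor {F G : Sp S} {f : F ⟶ G} (hf : IsIntegralMor f) (hG : IsAlgSpace G) :
    IsAlgSpace F :=
  isAlgSpace_of_representable f (isIntegralMor_iff_repWith.1 hf).rep hG

/-- Two maps out of a sheaf agree when they agree on all maps from schemes. -/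
theorem hom_ext_yon {K X : Sp S} (a b : K ⟶ X)
    (H : ∀ (T : Over S) (t : (yon S).obj T ⟶ K), t ≫ a = t ≫ b) : a = b := by
  apply Sheaf.hom_ext
  ext T s
  let t : (yon S).obj T.unop ⟶ K := (J S).uliftYonedaEquiv.{u + 1}.symm s
  have h2 := congrArg (J S).uliftYonedaEquiv.{u + 1} (H T.unop t)
  rwa [GrothendieckTopology.uliftYonedaEquiv_comp, GrothendieckTopology.uliftYonedaEquiv_comp,
    Equiv.apply_symm_apply] at h2

variable {P P' G G' N N' : Sp S} {π : P ⟶ G} {ν : N ⟶ G} {f' : P ⟶ N}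

/-- Normalizations are preserved by isomorphisms. -/
theorem isRelNormalization_of_iso {π' : P' ⟶ G'} {ν' : N' ⟶ G'} {g' : P' ⟶ N'}
    (eP : P' ≅ P) (eN : N' ≅ N) (eG : G' ≅ G) (h1 : π' ≫ eG.hom = eP.hom ≫ π)
    (h2 : ν' ≫ eG.hom = eN.hom ≫ ν) (h3 : g' ≫ eN.hom = eP.hom ≫ f')
    (hn : IsRelNormalization π ν f') : IsRelNormalization π' ν' g' := by
  obtain ⟨hf, hi, hu⟩ := hn
  have e1 : g' ≫ ν' = π' := by
    rw [← cancel_mono eG.hom, Category.assoc, h2, reassoc_of% h3, hf, h1]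
  have e2 : ν' = eN.hom ≫ ν ≫ eG.inv := by rw [← reassoc_of% h2, Iso.hom_inv_id, Category.comp_id]
  refine ⟨e1, ?_, fun Z hZ πZ g hπZ hg => ?_⟩
  · rw [e2]
    exact isIntegralMor_comp (isIntegralMor_of_isIso _) (isIntegralMor_comp hi (isIntegralMor_of_isIso _))
  · obtain ⟨h, ⟨hh1, hh2⟩, huniq⟩ := hu hZ (πZ ≫ eG.hom) (eP.inv ≫ g)
      (isIntegralMor_comp hπZ (isIntegralMor_of_isIso _))
      (by rw [Category.assoc, reassoc_of% hg, h1, Iso.inv_hom_id_assoc])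
    refine ⟨eN.hom ≫ h, ⟨?_, ?_⟩, fun k hk => ?_⟩
    · rw [reassoc_of% h3, hh1, Iso.hom_inv_id_assoc]
    · rw [← cancel_mono eG.hom, Category.assoc, Category.assoc, hh2, h2]
    · rw [← huniq (eN.inv ≫ k) ⟨?_, ?_⟩, Iso.hom_inv_id_assoc]
      · rw [← cancel_epi eP.hom, ← reassoc_of% h3, Iso.hom_inv_id_assoc, hk.1, Iso.hom_inv_id_assoc]
      · rw [Category.assoc, reassoc_of% hk.2, h2, Iso.inv_hom_id_assoc]

/-- Maps out of a normalization to an integral space over a space under the base. -/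
theorem existsUnique_hom (hn : IsRelNormalization π ν f') (hG : IsAlgSpace G) {Z H : Sp S}
    (hZ : IsAlgSpace Z) (hH : IsAlgSpace H) {πZ : Z ⟶ H} (hπZ : IsIntegralMor πZ) (k : G ⟶ H) (g : P ⟶ Z)
    (hg : g ≫ πZ = π ≫ k) : ∃! h : N ⟶ Z, f' ≫ h = g ∧ h ≫ πZ = ν ≫ k := by
  obtain ⟨h, ⟨h1, h2⟩, huniq⟩ := hn.2.2 (isAlgSpace_pullback hZ hG hH πZ k) (pullback.snd πZ k)
    (pullback.lift g π hg) (isIntegralMor_of_isPullback (IsPullback.of_hasPullback πZ k) hπZ)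
    (pullback.lift_snd _ _ _)
  refine ⟨h ≫ pullback.fst πZ k, ⟨?_, ?_⟩, fun h' hh' => ?_⟩
  · rw [reassoc_of% h1, pullback.lift_fst]
  · rw [Category.assoc, pullback.condition, reassoc_of% h2]
  · rw [← huniq (pullback.lift h' ν hh'.2) ⟨pullback.hom_ext ?_ ?_, pullback.lift_snd _ _ _⟩,
      pullback.lift_fst]
    · rw [Category.assoc, pullback.lift_fst, pullback.lift_fst, hh'.1]
    · rw [Category.assoc, pullback.lift_snd, pullback.lift_snd, hn.1]

/-- Maps out of a normalization agree when they agree on the source and over the base. -/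
theorem hom_ext (hn : IsRelNormalization π ν f') (hG : IsAlgSpace G) {Z H : Sp S}
    (hZ : IsAlgSpace Z) (hH : IsAlgSpace H) {πZ : Z ⟶ H} (hπZ : IsIntegralMor πZ) (k : G ⟶ H) (a b : N ⟶ Z)
    (ha : a ≫ πZ = ν ≫ k) (hb : b ≫ πZ = ν ≫ k) (hab : f' ≫ a = f' ≫ b) : a = b :=
  (existsUnique_hom hn hG hZ hH hπZ k (f' ≫ a) (by rw [Category.assoc, ha, reassoc_of% hn.1])).unique
    ⟨rfl, ha⟩ ⟨hab.symm, hb⟩

/-- The normalization is unique. -/
theorem exists_iso_of_isRelNormalization {N₂ : Sp S} {ν₂ : N₂ ⟶ G} {g' : P ⟶ N₂} (hN : IsAlgSpace N)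
    (hN₂ : IsAlgSpace N₂) (hn : IsRelNormalization π ν f') (hn₂ : IsRelNormalization π ν₂ g') :
    ∃ e : N ≅ N₂, f' ≫ e.hom = g' ∧ e.hom ≫ ν₂ = ν := by
  obtain ⟨a, ⟨ha1, ha2⟩, -⟩ := hn.2.2 hN₂ ν₂ g' hn₂.2.1 hn₂.1
  obtain ⟨b, ⟨hb1, hb2⟩, -⟩ := hn₂.2.2 hN ν f' hn.2.1 hn.1
  refine ⟨⟨a, b, ?_, ?_⟩, ha1, ha2⟩
  · exact (hn.2.2 hN ν f' hn.2.1 hn.1).unique ⟨by rw [reassoc_of% ha1, hb1], by rw [Category.assoc, hb2, ha2]⟩
      ⟨Category.comp_id _, Category.id_comp _⟩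
  · exact (hn₂.2.2 hN₂ ν₂ g' hn₂.2.1 hn₂.1).unique ⟨by rw [reassoc_of% hb1, ha1], by rw [Category.assoc, ha2, hb2]⟩
      ⟨Category.comp_id _, Category.id_comp _⟩

end Groth.Agent.AlgSpNorm
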