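import Mathlib.AlgebraicGeometry.ZariskisMainTheorem
import Mathlib.FieldTheory.IsAlgClosed.Basic
import Mathlib.FieldTheory.IsAlgClosed.AlgebraicClosure
import Mathlib.Topology.Spectral.Prespectral
import Mathlib.RingTheory.LocalRing.ResidueField.Ideal
import Groth.Agent.AlgSpDec.LqfScheme

/-!
# Products of algebraically closed fields and etale schemes over them
-/

set_option autoImplicit false
set_option backward.isDefEq.respectTransparency false
set_option backward.isDefEq.respectTransparency.types false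

universe u

open CategoryTheory CategoryTheory.Limits AlgebraicGeometry Polynomial

namespace Groth.Agent.AlgSpNorm

open Groth.Agent

variable {ι : Type u} (K : ι → Type u) [∀ i, Field (K i)]

theorem isMaximal_of_isPrime_pi (p : Ideal (∀ i, K i)) [p.IsPrime] : p.IsMaximal := by
  refine Ideal.Quotient.maximal_of_isField p ?_
  refine ⟨⟨0, 1, zero_ne_one⟩, fun x y => mul_comm x y, fun {a} ha => ?_⟩
  obtain ⟨x, rfl⟩ := Ideal.Quotient.mk_surjective a
  refine ⟨Ideal.Quotient.mk p fun i => (x i)⁻¹, ?_⟩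
  rw [← map_mul, ← map_one (Ideal.Quotient.mk p), Ideal.Quotient.eq]
  have h : x * (x * (fun i => (x i)⁻¹) - 1) = 0 := funext fun i => by
    by_cases hx : x i = 0
    · simp [hx]
    · simp [hx]
  exact ((‹p.IsPrime›).mem_or_mem (h ▸ p.zero_mem)).resolve_left fun hxp => ha (Ideal.Quotient.eq_zero_iff_mem.2 hxp)

theorem isAlgClosed_of_surjective_pi [∀ i, IsAlgClosed (K i)] {L : Type u} [Field L] (φ : (∀ i, K i) →+* L)
    (hφ : Function.Surjective φ) : IsAlgClosed L := by
  refine IsAlgClosed.of_exists_root _ fun p hp hirr => ?_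
  obtain ⟨q, hq, hqd, hqm⟩ := lifts_and_natDegree_eq_and_monic (f := φ) (p := p)
    ((mem_lifts p).2 (Polynomial.map_surjective φ hφ p)) hp
  have hd : 0 < q.natDegree := hqd ▸ hirr.natDegree_pos
  have hr : ∀ i, ∃ r : K i, (q.map (Pi.evalRingHom K i)).eval r = 0 := fun i => by
    refine IsAlgClosed.exists_root _ fun h => ?_
    have := hqm.natDegree_map (Pi.evalRingHom K i)
    rw [natDegree_eq_of_degree_eq_some (n := 0) h] at this
    omega
  choose r hr using hr
  refine ⟨φ r, ?_⟩
  have : q.eval r = 0 := funext fun i => by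
    change Pi.evalRingHom K i (q.eval r) = 0
    rw [← Polynomial.eval₂_at_apply]
    exact (Polynomial.eval_map _ _).symm.trans (hr i)
  rw [← hq, Polynomial.eval_map, Polynomial.eval₂_at_apply, this, map_zero]

/-- A spectrum all of whose points are closed is Hausdorff. -/
theorem t2Space_of_isMaximal {R : Type u} [CommRing R] (h : ∀ p : Ideal R, p.IsPrime → p.IsMaximal) :
    T2Space (PrimeSpectrum R) := by
  refine ⟨fun p q hpq => ?_⟩
  obtain ⟨x, hxp, hxq⟩ : ∃ x, x ∈ p.asIdeal ∧ x ∉ q.asIdeal := by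
    by_contra hc
    push_neg at hc
    exact hpq (PrimeSpectrum.ext ((h _ p.isPrime).eq_of_le q.isPrime.ne_top hc))
  obtain ⟨s, hs, n, hsn⟩ : ∃ s, s ∉ p.asIdeal ∧ ∃ n : ℕ, s * x ^ n = 0 := by
    by_contra hc
    push_neg at hc
    let M : Submonoid R := Submonoid.powers x ⊔ p.asIdeal.primeCompl
    have h0 : (0 : R) ∉ M := fun h0 => by
      obtain ⟨a, ⟨n, rfl⟩, b, hb, hab⟩ := Submonoid.mem_sup.1 h0
      exact hc b hb n (by rw [mul_comm]; exact hab)
    obtain ⟨P, hP, -, hdisj⟩ := Ideal.exists_le_prime_disjoint (⊥ : Ideal R) M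
      (Set.disjoint_left.2 fun a ha haM => h0 (by rw [show a = 0 from ha] at haM; exact haM))
    have hle : P ≤ p.asIdeal := fun a ha => by
      by_contra hap
      exact Set.disjoint_left.1 hdisj ha (Submonoid.mem_sup_right hap)
    have hxP : x ∈ P := (h P hP).eq_of_le p.isPrime.ne_top hle ▸ hxp
    exact Set.disjoint_left.1 hdisj hxP (Submonoid.mem_sup_left (Submonoid.mem_powers x))
  refine ⟨PrimeSpectrum.basicOpen s, PrimeSpectrum.basicOpen x, (PrimeSpectrum.basicOpen s).isOpen,
    (PrimeSpectrum.basicOpen x).isOpen, hs, hxq, Set.disjoint_left.2 fun r hr1 hr2 => ?_⟩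
  have : s * x ^ n ∈ r.asIdeal := hsn ▸ r.asIdeal.zero_mem
  exact (r.isPrime.mem_or_mem this).elim hr1 fun hn => hr2 (r.isPrime.mem_of_pow_mem n hn)

variable {K} [∀ i, IsAlgClosed (K i)] {W : Scheme.{u}}

/-- Quasi-compact separated etale schemes over a product of algebraically closed fields are totally separated,
and their points have the residue fields of the base. -/
theorem etale_pi {V : Scheme.{u}} (e : V ≅ Spec (CommRingCat.of (∀ i, K i))) (τ : W ⟶ V) [Etale τ]
    [IsSeparated τ] [QuasiCompact τ] :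
    TotallySeparatedSpace ↥W ∧ CompactSpace ↥W ∧
      ∀ (L : Type u) [Field L] (a b : Spec (CommRingCat.of L) ⟶ W), a ≫ τ = b ≫ τ →
        a (IsLocalRing.closedPoint L) = b (IsLocalRing.closedPoint L) → a = b := by
  let C : CommRingCat.{u} := CommRingCat.of (∀ i, K i)
  let τ' : W ⟶ Spec C := τ ≫ e.hom
  have hC : ∀ p : Ideal C, p.IsPrime → p.IsMaximal := fun p hp =>
    @isMaximal_of_isPrime_pi ι K _ p hp
  have : LocallyOfFiniteType τ' := inferInstanceAs (LocallyOfFiniteType (τ ≫ e.hom))
  have : IsSeparated τ' := inferInstanceAs (IsSeparated (τ ≫ e.hom))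
  have : QuasiCompact τ' := inferInstanceAs (QuasiCompact (τ ≫ e.hom))
  have : Etale τ' := inferInstanceAs (Etale (τ ≫ e.hom))
  have : LocallyQuasiFinite τ' := AlgSpLib.locallyQuasiFinite_of_formallyUnramified τ'
  let N := τ'.normalization
  have : IsAffine N := isAffine_of_isAffineHom τ'.fromNormalization
  have hN : T2Space ↥N := by
    let D := Γ(N, ⊤)
    obtain ⟨φ, hφ⟩ : ∃ φ : C ⟶ D, Spec.map φ = N.isoSpec.inv ≫ τ'.fromNormalization := ⟨_, Spec.map_preimage _⟩
    have : IsIntegralHom (Spec.map φ) := by rw [hφ]; infer_instance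
    have hint : φ.hom.IsIntegral := IsIntegralHom.SpecMap_iff.1 this
    have : T2Space (PrimeSpectrum D) := t2Space_of_isMaximal fun p hp => by
      algebraize [φ.hom]
      exact Ideal.isMaximal_of_isIntegral_of_isMaximal_comap p (hC _ (Ideal.IsPrime.comap _))
    have : T2Space ↥(Spec D) := this
    exact (Scheme.homeoOfIso N.isoSpec).symm.t2Space
  have hτ : T2Space ↥W := τ'.toNormalization.isOpenEmbedding.isEmbedding.t2Space
  have hc : CompactSpace ↥W := QuasiCompact.compactSpace_of_compactSpace τ'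
  refine ⟨inferInstance, hc, fun L _ a b hab hpt => ?_⟩
  have hab' : a ≫ τ' = b ≫ τ' := by rw [← Category.assoc, hab, Category.assoc]
  obtain ⟨v₁, hv₁⟩ : ∃ v, a (IsLocalRing.closedPoint L) = v := ⟨_, rfl⟩
  let v : PrimeSpectrum C := τ' v₁
  have : IsClosedImmersion (W.fromSpecResidueField v₁) :=
    (isClosed_singleton_iff_isClosedImmersion).1 isClosed_singleton
  have hfin : IsFinite (Spec.map (τ'.residueFieldMap v₁)) := by
    have h1 : Spec.map (τ'.residueFieldMap v₁) ≫ (Spec C).fromSpecResidueField v =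
        W.fromSpecResidueField v₁ ≫ τ' := Scheme.Hom.SpecMap_residueFieldMap_fromSpecResidueField _ _
    have : LocallyQuasiFinite (Spec.map (τ'.residueFieldMap v₁) ≫ (Spec C).fromSpecResidueField v) := by
      rw [h1]; infer_instance
    have : LocallyOfFiniteType (Spec.map (τ'.residueFieldMap v₁) ≫ (Spec C).fromSpecResidueField v) := by
      rw [h1]; infer_instance
    have := LocallyQuasiFinite.of_comp (Spec.map (τ'.residueFieldMap v₁)) ((Spec C).fromSpecResidueField v)
    have := locallyOfFiniteType_of_comp (Spec.map (τ'.residueFieldMap v₁)) ((Spec C).fromSpecResidueField v)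
    exact IsFinite.of_locallyQuasiFinite _
  have hbij : Function.Bijective (τ'.residueFieldMap v₁).hom := by
    have : IsAlgClosed ((Spec C).residueField v) := by
      have : v.asIdeal.IsMaximal := hC _ v.isPrime
      have : IsAlgClosed v.asIdeal.ResidueField :=
        isAlgClosed_of_surjective_pi K _ (Ideal.algebraMap_residueField_surjective v.asIdeal)
      exact IsAlgClosed.of_ringEquiv _ _ (Scheme.Spec.residueFieldIso C v).symm.commRingCatIsoToRingEquiv
    have hint : (τ'.residueFieldMap v₁).hom.IsIntegral :=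
      IsIntegralHom.SpecMap_iff.1 (inferInstanceAs (IsIntegralHom (Spec.map (τ'.residueFieldMap v₁))))
    algebraize [(τ'.residueFieldMap v₁).hom]
    exact IsAlgClosed.algebraMap_bijective_of_isIntegral
  have : IsIso (τ'.residueFieldMap v₁) := (ConcreteCategory.isIso_iff_bijective _).2 hbij
  have key : ∀ c : Spec (CommRingCat.of L) ⟶ W, c (IsLocalRing.closedPoint L) = v₁ →
      ∃ φ, Spec.map φ ≫ W.fromSpecResidueField v₁ = c := fun c hc => by
    subst hc
    exact ⟨_, Scheme.descResidueField_stalkClosedPointTo_fromSpecResidueField L W c⟩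
  obtain ⟨φ, hφ⟩ := key a hv₁
  obtain ⟨ψ, hψ⟩ := key b (hpt ▸ hv₁)
  have h3 : τ'.residueFieldMap v₁ ≫ φ = τ'.residueFieldMap v₁ ≫ ψ := by
    refine Spec.map_injective ((cancel_mono ((Spec C).fromSpecResidueField v)).1 ?_)
    simp only [Spec.map_comp, Category.assoc, v, Scheme.Hom.SpecMap_residueFieldMap_fromSpecResidueField]
    rw [reassoc_of% hφ, reassoc_of% hψ]
    exact hab'
  rw [← hφ, ← hψ, (cancel_epi (τ'.residueFieldMap v₁)).1 h3]

end Groth.Agent.AlgSpNorm
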