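import Groth.Agent.AlgSpNorm.DescRel
import Groth.Agent.AlgSpDec.LimOpen
import Groth.Agent.AlgSpDec.LqfScheme
import Groth.Agent.AlgSpPts.Univ
import Mathlib.AlgebraicGeometry.ZariskisMainTheorem

/-!
# A finite clopen piece of a space is a clopen piece of the normalization of the base
-/

set_option autoImplicit false
set_option backward.isDefEq.respectTransparency false
set_option backward.isDefEq.respectTransparency.types false

universe u

open CategoryTheory CategoryTheory.Limits AlgebraicGeometry Opposite AlgSp Groth.Agent.AlgSpLib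
  Groth.Agent.AlgSpDec TopologicalSpace

namespace Groth.Agent.AlgSpNorm

variable {S : Scheme.{u}}

/-- The complement of a closed open subscheme. -/
def complOpen {X : Scheme.{u}} (C : X.Opens) (hC : IsClosed (C : Set X)) : X.Opens :=
  ⟨(C : Set X)ᶜ, hC.isOpen_compl⟩

theorem exists_desc_clopen {T : Over S} {Z : Over S} (C : T.left.Opens) (hC : IsClosed (C : Set T.left))
    (l : Over.mk (C.ι ≫ T.hom) ⟶ Z)
    (r : Over.mk ((complOpen C hC).ι ≫ T.hom) ⟶ Z) :
    ∃ g : T ⟶ Z, C.ι ≫ g.left = l.left ∧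
      (complOpen C hC).ι ≫ g.left = r.left := by
  let D : T.left.Opens := complOpen C hC
  have hr : IsCompl C.ι.opensRange D.ι.opensRange := by
    simp only [isCompl_iff, disjoint_iff, codisjoint_iff, ← TopologicalSpace.Opens.coe_inj]
    simp [D, complOpen]
  obtain ⟨h⟩ := nonempty_isColimit_binaryCofanMk_of_isCompl C.ι D.ι hr
  obtain ⟨g, h₁, h₂⟩ := BinaryCofan.IsColimit.desc' h l.left r.left
  refine ⟨Over.homMk g (BinaryCofan.IsColimit.hom_ext h ?_ ?_), h₁, h₂⟩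
  · change C.ι ≫ g ≫ Z.hom = C.ι ≫ T.hom
    rw [← Category.assoc, show C.ι ≫ g = l.left from h₁]
    exact Over.w l
  · change D.ι ≫ g ≫ Z.hom = D.ι ≫ T.hom
    rw [← Category.assoc, show D.ι ≫ g = r.left from h₂]
    exact Over.w r

theorem hom_ext_clopen {T Z : Over S} (C : T.left.Opens) (hC : IsClosed (C : Set T.left)) (a b : T ⟶ Z)
    (h₁ : C.ι ≫ a.left = C.ι ≫ b.left)
    (h₂ : (complOpen C hC).ι ≫ a.left =
      (complOpen C hC).ι ≫ b.left) : a = b := by
  let D : T.left.Opens := complOpen C hC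
  have hr : IsCompl C.ι.opensRange D.ι.opensRange := by
    simp only [isCompl_iff, disjoint_iff, codisjoint_iff, ← TopologicalSpace.Opens.coe_inj]
    simp [D, complOpen]
  obtain ⟨h⟩ := nonempty_isColimit_binaryCofanMk_of_isCompl C.ι D.ι hr
  exact Over.OverMorphism.ext (BinaryCofan.IsColimit.hom_ext h h₁ h₂)

variable {P : Sp S} {W U NU : Over S}

/-- An open and closed piece of a space, finite over the base, maps isomorphically to an open and closed
piece of the normalization. -/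
theorem exists_clopen_piece (hP : IsAlgSpace P) {p : P ⟶ (yon S).obj U} {νU : NU ⟶ U} {fU : P ⟶ (yon S).obj NU}
    (hn : IsRelNormalization p ((yon S).map νU) fU)
    {jV : (yon S).obj W ⟶ P} (hjo : RepWith @IsOpenImmersion jV) (hjc : RepWith @IsClosedImmersion jV)
    {wU : W ⟶ U} (hwU : jV ≫ p = (yon S).map wU) [IsFinite wU.left] :
    ∃ (O : Over S) (ι : O ⟶ NU) (w₁ : W ⟶ O), IsOpenImmersion ι.left ∧ IsIso w₁ ∧
      IsPullback jV ((yon S).map w₁) fU ((yon S).map ι) := by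
  have hfU : fU ≫ (yon S).map νU = p := hn.1
  let C : Set (Points P) := Set.range (Points.map jV)
  have hCc : IsClosed C := by
    have h := (Groth.Agent.AlgSpPts.isClosedMap_map
      (repWith_mono (fun _ _ g (_ : IsClosedImmersion g) => (inferInstance : UniversallyClosed g)) _ hjc))
    exact h.isClosed_range
  have hCo : IsOpen C := by
    have hr : C = Set.range (Points.ofPt jV) := by
      ext x
      constructor
      · rintro ⟨z, rfl⟩
        exact ⟨Points.toScheme W z, by rw [Points.ofPt_eq_map_ofScheme, Points.ofScheme_toScheme]⟩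
      · rintro ⟨z, rfl⟩
        exact ⟨Points.ofScheme W z, (Points.ofPt_eq_map_ofScheme jV z).symm⟩
    rw [hr]
    exact (isOpenMap_ofPt (repWith_mono (fun _ _ g (_ : IsOpenImmersion g) => (inferInstance : Etale g)) _ hjo)).isOpen_range
  have hmem : ∀ {T : Over S} {t : (yon S).obj T ⟶ P}, (∀ s, Points.ofPt t s ∈ C) →
      ∃ w : T ⟶ W, (yon S).map w ≫ jV = t := fun {T} {t} h => by
    obtain ⟨a, ha⟩ := exists_factor_open hjo t h
    obtain ⟨w, hw⟩ := (yon S).map_surjective a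
    exact ⟨w, by rw [hw, ha]⟩
  have hCW : ∀ {T : Over S} (w : T ⟶ W) (s : T.left), Points.ofPt ((yon S).map w ≫ jV) s ∈ C := fun w s =>
    ⟨Points.ofScheme W (w.left s), by rw [ofPt_comp, Points.ofPt_eq_map_ofScheme]⟩
  haveI : Mono jV := mono_of_openImm hjo
  -- the test space
  let π₀ : (W.left ⨿ U.left) ⟶ U.left := coprod.desc wU.left (𝟙 U.left)
  let Zs : Over S := Over.mk (π₀ ≫ U.hom)
  let π : Zs ⟶ U := Over.homMk π₀ rfl
  let kW : W ⟶ Zs := Over.homMk coprod.inl (by simp [Zs, π₀])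
  let kU : U ⟶ Zs := Over.homMk coprod.inr (by simp [Zs, π₀])
  have hkW : kW ≫ π = wU := Over.OverMorphism.ext (by simp [kW, π, π₀])
  have hkU : kU ≫ π = 𝟙 U := Over.OverMorphism.ext (by simp [kU, π, π₀])
  haveI : IsOpenImmersion kW.left := inferInstanceAs (IsOpenImmersion (coprod.inl : W.left ⟶ W.left ⨿ U.left))
  haveI : Mono kW.left := inferInstance
  haveI : Mono kW := (Over.forget S).mono_of_mono_map ‹Mono kW.left›
  have hπ : IsIntegralMor ((yon S).map π) := by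
    have : IsIntegralHom π.left := inferInstanceAs (IsIntegralHom π₀)
    exact isIntegralMor_iff_repWith.2 ((repWith_yon_map_iff @IsIntegralHom π).2 this)
  let Φ : ∀ ⦃T : Over S⦄, ((yon S).obj T ⟶ P) → ((yon S).obj T ⟶ (yon S).obj Zs) → Prop := fun T t l =>
    ∃ lS : T ⟶ Zs, l = (yon S).map lS ∧
      (∀ ⦃T₁ : Over S⦄ (j : T₁ ⟶ T) (w : T₁ ⟶ W), (yon S).map j ≫ t = (yon S).map w ≫ jV → j ≫ lS = w ≫ kW) ∧
      ∀ ⦃T₁ : Over S⦄ (j : T₁ ⟶ T) (τ : T₁ ⟶ U), (yon S).map τ = (yon S).map j ≫ t ≫ p →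
        (∀ s, Points.ofPt t (j.left s) ∉ C) → j ≫ lS = τ ≫ kU
  have hpre : ∀ ⦃T T' : Over S⦄ (j : T' ⟶ T) (t : (yon S).obj T ⟶ P) (l : (yon S).obj T ⟶ (yon S).obj Zs),
      Φ t l → Φ ((yon S).map j ≫ t) ((yon S).map j ≫ l) := by
    rintro T T' j t l ⟨lS, rfl, h₁, h₂⟩
    refine ⟨j ≫ lS, ((yon S).map_comp _ _).symm, fun T₁ i w hw => ?_, fun T₁ i τ hτ hs => ?_⟩
    · rw [← Category.assoc]; exact h₁ (i ≫ j) w (by rw [Functor.map_comp, Category.assoc, hw])
    · rw [← Category.assoc]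
      refine h₂ (i ≫ j) τ (by rw [hτ, Functor.map_comp]; simp only [Category.assoc]) fun s => ?_
      have := hs s
      rwa [ofPt_comp] at this
  have hsplit : ∀ {T : Over S} (t : (yon S).obj T ⟶ P), ∃ (CT : T.left.Opens),
      IsClosed (CT : Set T.left) ∧ ∀ s, s ∈ CT ↔ Points.ofPt t s ∈ C := fun {T} t =>
    ⟨⟨Points.ofPt t ⁻¹' C, hCo.preimage (Points.continuous_ofPt t)⟩,
      hCc.preimage (Points.continuous_ofPt t), fun s => Iff.rfl⟩
  have hfun : ∀ ⦃T : Over S⦄ (t : (yon S).obj T ⟶ P) (l l' : (yon S).obj T ⟶ (yon S).obj Zs),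
      Φ t l → Φ t l' → l = l' := by
    rintro T t l l' ⟨a, rfl, a₁, a₂⟩ ⟨b, rfl, b₁, b₂⟩
    obtain ⟨CT, hCT, hCm⟩ := hsplit t
    congr 1
    refine hom_ext_clopen CT hCT a b ?_ ?_
    · let i : Over.mk (CT.ι ≫ T.hom) ⟶ T := Over.homMk CT.ι rfl
      obtain ⟨w, hw⟩ := hmem (t := (yon S).map i ≫ t) fun s => by
        rw [ofPt_comp]; exact (hCm _).1 s.2
      exact congrArg CommaMorphism.left ((a₁ i w hw.symm).trans (b₁ i w hw.symm).symm)
    · let i : Over.mk ((complOpen CT hCT).ι ≫ T.hom) ⟶ T :=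
        Over.homMk _ rfl
      obtain ⟨τ, hτ⟩ := (yon S).map_surjective ((yon S).map i ≫ t ≫ p)
      have hs : ∀ s, Points.ofPt t (i.left s) ∉ C := fun s h => s.2 ((hCm _).2 h)
      exact congrArg CommaMorphism.left ((a₂ i τ hτ hs).trans (b₂ i τ hτ hs).symm)
  have hex : ∀ ⦃T : Over S⦄ (t : (yon S).obj T ⟶ P), ∃ l, Φ t l := by
    intro T t
    obtain ⟨CT, hCT, hCm⟩ := hsplit t
    let D : T.left.Opens := complOpen CT hCT
    let i : Over.mk (CT.ι ≫ T.hom) ⟶ T := Over.homMk CT.ι rfl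
    let iD : Over.mk (D.ι ≫ T.hom) ⟶ T := Over.homMk D.ι rfl
    obtain ⟨w₀, hw₀⟩ := hmem (t := (yon S).map i ≫ t) fun s => by
      rw [ofPt_comp]; exact (hCm _).1 s.2
    obtain ⟨τ₀, hτ₀⟩ := (yon S).map_surjective ((yon S).map iD ≫ t ≫ p)
    obtain ⟨lS, hl₁, hl₂⟩ := exists_desc_clopen CT hCT (w₀ ≫ kW) (τ₀ ≫ kU)
    have hi : i ≫ lS = w₀ ≫ kW := Over.OverMorphism.ext hl₁
    have hiD : iD ≫ lS = τ₀ ≫ kU := Over.OverMorphism.ext hl₂
    refine ⟨_, lS, rfl, fun T₁ j w hw => ?_, fun T₁ j τ hτ hs => ?_⟩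
    · have hr : ∀ s, j.left s ∈ CT := fun s => by
        have := hCW w s
        rw [← hw, ofPt_comp] at this
        exact (hCm _).2 this
      obtain ⟨q, hq⟩ : ∃ q : T₁ ⟶ Over.mk (CT.ι ≫ T.hom), q ≫ i = j :=
        ⟨Over.homMk (IsOpenImmersion.lift CT.ι j.left fun x ⟨y, hy⟩ => ⟨⟨x, hy ▸ hr y⟩, rfl⟩)
          (by simp [IsOpenImmersion.lift_fac_assoc]), Over.OverMorphism.ext (IsOpenImmersion.lift_fac _ _ _)⟩
      have hqw : q ≫ w₀ = w := (yon S).map_injective ((cancel_mono jV).1 (by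
        rw [Functor.map_comp, Category.assoc, hw₀, ← hw, ← hq, Functor.map_comp, Category.assoc]))
      rw [← hq, Category.assoc, hi, ← Category.assoc, hqw]
    · have hr : ∀ s, j.left s ∈ D := fun s h => hs s ((hCm _).1 h)
      obtain ⟨q, hq⟩ : ∃ q : T₁ ⟶ Over.mk (D.ι ≫ T.hom), q ≫ iD = j :=
        ⟨Over.homMk (IsOpenImmersion.lift D.ι j.left fun x ⟨y, hy⟩ => ⟨⟨x, hy ▸ hr y⟩, rfl⟩)
          (by simp [IsOpenImmersion.lift_fac_assoc]), Over.OverMorphism.ext (IsOpenImmersion.lift_fac _ _ _)⟩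
      have hqτ : q ≫ τ₀ = τ := (yon S).map_injective (by
        rw [Functor.map_comp, hτ₀, hτ, ← hq, Functor.map_comp, Category.assoc])
      rw [← hq, Category.assoc, hiD, ← Category.assoc, hqτ]
  obtain ⟨g, hg⟩ := exists_desc_rel Φ hpre hfun fun T t =>
    ⟨⊤, (J S).top_mem T, fun T' j _ => hex _⟩
  have hgπ : g ≫ (yon S).map π = p := hom_ext_yon _ _ fun T t => by
    obtain ⟨l, hl⟩ := hex t
    rw [← Category.assoc, hg t l hl]
    obtain ⟨lS, rfl, h₁, h₂⟩ := hl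
    obtain ⟨τ, hτ⟩ := (yon S).map_surjective (t ≫ p)
    rw [← hτ, ← Functor.map_comp]
    congr 1
    obtain ⟨CT, hCT, hCm⟩ := hsplit t
    refine hom_ext_clopen CT hCT _ _ ?_ ?_
    · let i : Over.mk (CT.ι ≫ T.hom) ⟶ T := Over.homMk CT.ι rfl
      obtain ⟨w, hw⟩ := hmem (t := (yon S).map i ≫ t) fun s => by
        rw [ofPt_comp]; exact (hCm _).1 s.2
      refine congrArg CommaMorphism.left (show i ≫ lS ≫ π = i ≫ τ from (yon S).map_injective ?_)
      rw [← Category.assoc, h₁ i w hw.symm, Category.assoc, hkW, Functor.map_comp, Functor.map_comp, hτ, ← hwU,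
        ← Category.assoc, hw, Category.assoc]
    · let i : Over.mk ((complOpen CT hCT).ι ≫ T.hom) ⟶ T :=
        Over.homMk _ rfl
      refine congrArg CommaMorphism.left (show i ≫ lS ≫ π = i ≫ τ from ?_)
      rw [← Category.assoc, h₂ i (i ≫ τ) (by rw [Functor.map_comp, hτ]) (fun s h => s.2 ((hCm _).2 h)),
        Category.assoc, hkU, Category.comp_id]
  obtain ⟨h, ⟨hh₁, hh₂⟩, -⟩ := hn.2.2 (IsAlgSpace.yon_obj Zs) ((yon S).map π) g hπ hgπ
  obtain ⟨h₀, rfl⟩ := (yon S).map_surjective h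
  have hh₀ : h₀ ≫ π = νU := (yon S).map_injective (by rw [Functor.map_comp, hh₂])
  have hclW : IsClosed (Set.range (coprod.inl : W.left ⟶ W.left ⨿ U.left)) := by
    rw [← isOpen_compl_iff, (isCompl_range_inl_inr W.left U.left).compl_eq]
    exact IsOpenImmersion.isOpen_range _
  let Oo : NU.left.Opens := h₀.left ⁻¹ᵁ (coprod.inl : W.left ⟶ W.left ⨿ U.left).opensRange
  have hOo : IsClosed (Oo : Set NU.left) := hclW.preimage h₀.left.continuous
  let O : Over S := Over.mk (Oo.ι ≫ NU.hom)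
  let ι : O ⟶ NU := Over.homMk Oo.ι rfl
  haveI hιo : IsOpenImmersion ι.left := inferInstanceAs (IsOpenImmersion Oo.ι)
  haveI : Mono ι.left := inferInstance
  haveI : Mono ι := (Over.forget S).mono_of_mono_map ‹Mono ι.left›
  have hgl : ∀ {T : Over S} (t : (yon S).obj T ⟶ P) (a : T ⟶ NU), t ≫ fU = (yon S).map a →
      ∃ lS : T ⟶ Zs, lS = a ≫ h₀ ∧
      (∀ ⦃T₁ : Over S⦄ (j : T₁ ⟶ T) (w : T₁ ⟶ W), (yon S).map j ≫ t = (yon S).map w ≫ jV → j ≫ lS = w ≫ kW) ∧
      ∀ ⦃T₁ : Over S⦄ (j : T₁ ⟶ T) (τ : T₁ ⟶ U), (yon S).map τ = (yon S).map j ≫ t ≫ p →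
        (∀ s, Points.ofPt t (j.left s) ∉ C) → j ≫ lS = τ ≫ kU := by
    intro T t a ha
    obtain ⟨l, hl⟩ := hex t
    have hlt := hg t l hl
    obtain ⟨lS, rfl, h₁, h₂⟩ := hl
    refine ⟨lS, (yon S).map_injective ?_, h₁, h₂⟩
    rw [Functor.map_comp, ← ha, Category.assoc, hh₁, hlt]
  obtain ⟨w₀, hw₀⟩ := (yon S).map_surjective (jV ≫ fU)
  obtain ⟨lW, hlW, hlW₁, -⟩ := hgl jV w₀ hw₀.symm
  have hw₀h : w₀ ≫ h₀ = kW := by
    rw [← hlW, ← Category.id_comp lW, hlW₁ (𝟙 W) (𝟙 W) (by simp), Category.id_comp]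
  have hw₀O : ∀ x, w₀.left x ∈ Oo := fun x => ⟨x, by
    change kW.left x = _
    rw [← hw₀h, Over.comp_left, Scheme.Hom.comp_apply]⟩
  obtain ⟨w₁, hw₁⟩ : ∃ w₁ : W ⟶ O, w₁ ≫ ι = w₀ :=
    ⟨Over.homMk (IsOpenImmersion.lift Oo.ι w₀.left fun x ⟨y, hy⟩ => ⟨⟨x, hy ▸ hw₀O y⟩, rfl⟩)
      (by simp [O, IsOpenImmersion.lift_fac_assoc]), Over.OverMorphism.ext (IsOpenImmersion.lift_fac _ _ _)⟩
  obtain ⟨r, hr⟩ : ∃ r : O ⟶ W, r ≫ kW = ι ≫ h₀ :=
    ⟨Over.homMk (IsOpenImmersion.lift (coprod.inl : W.left ⟶ W.left ⨿ U.left) (ι.left ≫ h₀.left)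
        fun x ⟨y, hy⟩ => hy ▸ y.2) (by
          change _ = (Oo.ι ≫ NU.hom)
          rw [← Over.w kW]
          change _ ≫ coprod.inl ≫ Zs.hom = _
          rw [IsOpenImmersion.lift_fac_assoc, Category.assoc, Over.w h₀]; rfl),
      Over.OverMorphism.ext (IsOpenImmersion.lift_fac _ _ _)⟩
  have hwr : w₁ ≫ r = 𝟙 W := (cancel_mono kW).1 (by
    rw [Category.assoc, hr, ← Category.assoc, hw₁, hw₀h, Category.id_comp])
  -- points of `P` over `O` are the points of the piece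
  have hOC : ∀ {T : Over S} (t : (yon S).obj T ⟶ P) (a : T ⟶ NU), t ≫ fU = (yon S).map a →
      ∀ s, a.left s ∈ Oo ↔ Points.ofPt t s ∈ C := by
    intro T t a ha s
    obtain ⟨lS, hlS, h₁, h₂⟩ := hgl t a ha
    obtain ⟨CT, hCT, hCm⟩ := hsplit t
    by_cases hs : Points.ofPt t s ∈ C
    · refine ⟨fun _ => hs, fun _ => ?_⟩
      let i : Over.mk (CT.ι ≫ T.hom) ⟶ T := Over.homMk CT.ι rfl
      obtain ⟨w, hw⟩ := hmem (t := (yon S).map i ≫ t) fun s => by
        rw [ofPt_comp]; exact (hCm _).1 s.2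
      have h := congrArg (fun e => e.left ⟨s, (hCm s).2 hs⟩) (h₁ i w hw.symm)
      refine ⟨w.left ⟨s, (hCm s).2 hs⟩, ?_⟩
      rw [hlS] at h
      exact h.symm
    · refine ⟨fun ha' => absurd ?_ hs, fun h => absurd h hs⟩
      let i : Over.mk ((complOpen CT hCT).ι ≫ T.hom) ⟶ T :=
        Over.homMk _ rfl
      obtain ⟨τ, hτ⟩ := (yon S).map_surjective ((yon S).map i ≫ t ≫ p)
      have hns : s ∈ (CT : Set T.left)ᶜ := fun h => hs ((hCm s).1 h)
      have h := congrArg (fun e => e.left ⟨s, hns⟩) (h₂ i τ hτ fun s h => s.2 ((hCm _).2 h))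
      rw [hlS] at h
      exfalso
      exact Set.disjoint_left.1 (isCompl_range_inl_inr W.left U.left).disjoint ha' ⟨τ.left ⟨s, hns⟩, h.symm⟩
  -- the endomorphism of the normalization collapsing `O` onto the piece
  let i' : Over.mk ((complOpen Oo hOo).ι ≫ NU.hom) ⟶ NU :=
    Over.homMk _ rfl
  obtain ⟨e, he₁, he₂⟩ := exists_desc_clopen Oo hOo (r ≫ w₀) i'
  have heι : ι ≫ e = r ≫ w₀ := Over.OverMorphism.ext he₁
  have hei : i' ≫ e = i' := Over.OverMorphism.ext he₂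
  have hw₀ν : w₀ ≫ νU = wU := (yon S).map_injective (by
    rw [Functor.map_comp, hw₀, Category.assoc, hfU, hwU])
  have heν : e ≫ νU = νU := by
    refine hom_ext_clopen Oo hOo _ _ ?_ ?_
    · refine congrArg CommaMorphism.left (show ι ≫ e ≫ νU = ι ≫ νU from ?_)
      rw [← Category.assoc, heι, Category.assoc, hw₀ν, ← hkW, ← Category.assoc, hr, Category.assoc, hh₀]
    · exact congrArg CommaMorphism.left (show i' ≫ e ≫ νU = i' ≫ νU by rw [← Category.assoc, hei])
  have hefU : fU ≫ (yon S).map e = fU := hom_ext_yon _ _ fun T t => by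
    obtain ⟨a, ha⟩ := (yon S).map_surjective (t ≫ fU)
    rw [← Category.assoc, ← ha, ← Functor.map_comp]
    congr 1
    obtain ⟨CT, hCT, hCm⟩ := hsplit t
    refine hom_ext_clopen CT hCT _ _ ?_ ?_
    · let i : Over.mk (CT.ι ≫ T.hom) ⟶ T := Over.homMk CT.ι rfl
      obtain ⟨w, hw⟩ := hmem (t := (yon S).map i ≫ t) fun s => by
        rw [ofPt_comp]; exact (hCm _).1 s.2
      have hia : i ≫ a = w ≫ w₁ ≫ ι := (yon S).map_injective (by
        rw [Functor.map_comp, ha, ← Category.assoc, ← hw, hw₁, Functor.map_comp, hw₀, Category.assoc])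
      refine congrArg CommaMorphism.left (show i ≫ a ≫ e = i ≫ a from ?_)
      rw [← Category.assoc, hia]
      simp only [Category.assoc]
      rw [heι, ← hw₁, ← Category.assoc w₁ r, hwr, Category.id_comp]
    · let i : Over.mk ((complOpen CT hCT).ι ≫ T.hom) ⟶ T :=
        Over.homMk _ rfl
      have hr' : ∀ s, (i ≫ a).left s ∈ (complOpen Oo hOo) := fun s h =>
        s.2 ((hCm _).2 ((hOC t a ha.symm _).1 h))
      obtain ⟨q, hq⟩ : ∃ q, q ≫ i' = i ≫ a :=
        ⟨Over.homMk (IsOpenImmersion.lift (complOpen Oo hOo).ι (i ≫ a).left fun x ⟨y, hy⟩ => ⟨⟨x, hy ▸ hr' y⟩, rfl⟩)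
          (by change _ ≫ (complOpen Oo hOo).ι ≫ NU.hom = _; rw [IsOpenImmersion.lift_fac_assoc]; exact Over.w (i ≫ a)),
          Over.OverMorphism.ext (IsOpenImmersion.lift_fac _ _ _)⟩
      refine congrArg CommaMorphism.left (show i ≫ a ≫ e = i ≫ a from ?_)
      rw [← Category.assoc, ← hq, Category.assoc, hei]
  have he : e = 𝟙 NU := (yon S).map_injective (by
    obtain ⟨k, -, hk⟩ := hn.2.2 (IsAlgSpace.yon_obj NU) ((yon S).map νU) fU hn.2.1 hfU
    exact (hk _ ⟨hefU, by rw [← Functor.map_comp, heν]⟩).trans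
      (hk _ ⟨by simp, by simp⟩).symm)
  have hrw : r ≫ w₁ = 𝟙 O := (cancel_mono ι).1 (by
    rw [Category.assoc, hw₁, ← heι, he, Category.comp_id, Category.id_comp])
  haveI : IsIso w₁ := ⟨r, hwr, hrw⟩
  -- the base change of `O`
  have hιy : RepWith @IsOpenImmersion ((yon S).map ι) := (repWith_yon_map_iff _ ι).2 hιo
  have sqp := IsPullback.of_hasPullback fU ((yon S).map ι)
  have hp : RepWith @IsOpenImmersion (pullback.fst fU ((yon S).map ι)) :=
    repWith_of_isPullback sqp.flip hιy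
  haveI : Mono (pullback.fst fU ((yon S).map ι)) := mono_of_openImm hp
  obtain ⟨k, hk₁, hk₂⟩ := sqp.exists_lift jV ((yon S).map w₁) (by rw [← Functor.map_comp, hw₁, hw₀])
  obtain ⟨m, hm⟩ : ∃ m, m ≫ jV = pullback.fst fU ((yon S).map ι) := by
    let p' := pullback.fst fU ((yon S).map ι)
    haveI : IsIso (pullback.snd jV p') := by
      refine isIso_of_openImm_surjective ?_ (repWith_of_isPullback (IsPullback.of_hasPullback _ _) hjo) fun y => ?_
      · exact isAlgSpace_of_representable p' hp.rep hP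
      · obtain ⟨T, t, s, -, rfl⟩ := exists_ofPt_eq y
        obtain ⟨a, ha⟩ := (yon S).map_surjective (t ≫ pullback.snd fU ((yon S).map ι))
        have hta : (t ≫ p') ≫ fU = (yon S).map (a ≫ ι) := by
          rw [Functor.map_comp, ha, Category.assoc, Category.assoc, pullback.condition]
        have : (a ≫ ι).left s ∈ Oo := (a.left s).2
        obtain ⟨z, hz⟩ := (hOC _ _ hta s).1 this
        obtain ⟨v, -, hv⟩ := exists_point_of_isPullback (IsPullback.of_hasPullback jV p') (x := z)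
          (y := Points.ofPt t s) (by rw [hz, Points.map_ofPt])
        exact ⟨v, hv⟩
    exact ⟨inv (pullback.snd jV p') ≫ pullback.fst jV p', by
      rw [Category.assoc, pullback.condition, IsIso.inv_hom_id_assoc]⟩
  have hkm : k ≫ m = 𝟙 _ := (cancel_mono jV).1 (by rw [Category.assoc, hm, hk₁, Category.id_comp])
  have hmk : m ≫ k = 𝟙 _ := (cancel_mono (pullback.fst fU ((yon S).map ι))).1 (by
    rw [Category.assoc, hk₁, hm, Category.id_comp])
  exact ⟨O, ι, w₁, hιo, inferInstance, sqp.of_iso ⟨m, k, hmk, hkm⟩ (Iso.refl _) (Iso.refl _) (Iso.refl _)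
    (by simp [hm]) (by simp only [← hk₂]; simp [reassoc_of% hmk]) (by simp) (by simp)⟩

end Groth.Agent.AlgSpNorm
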