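import Groth.Agent.AlgSpNorm.Main
import Groth.Agent.AlgSpPts.Dim
import Groth.Agent.AlgSpNorm.Zmt

/-!
# Points of codimension zero of a normalization
-/

set_option autoImplicit false
set_option backward.isDefEq.respectTransparency false
set_option backward.isDefEq.respectTransparency.types false

universe u

open CategoryTheory CategoryTheory.Limits AlgebraicGeometry Opposite AlgSp Groth.Agent.AlgSpLib
  Groth.Agent.AlgSpDec Groth.Agent.AlgSpVal Order

namespace Groth.Agent.AlgSpNorm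

variable {S : Scheme.{u}}

theorem exists_generization_coheight_zero {X : Scheme.{u}} (u : X) : ∃ η : X, η ⤳ u ∧ coheight η = 0 := by
  obtain ⟨η, hη⟩ := QuasiSober.sober (isIrreducible_irreducibleComponent (x := u)) isClosed_irreducibleComponent
  refine ⟨η, hη.specializes mem_irreducibleComponent, coheight_eq_zero.2 fun w hw => ?_⟩
  have hw' : w ⤳ η := hw
  have hsub : irreducibleComponent u ⊆ closure {w} := by
    rw [← hη.def]
    exact closure_minimal (Set.singleton_subset_iff.2 (specializes_iff_mem_closure.1 hw')) isClosed_closure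
  have heq : closure {w} = irreducibleComponent u :=
    eq_irreducibleComponent isPreirreducible_singleton.closure hsub
  exact (IsGenericPoint.eq (S := irreducibleComponent u) (show IsGenericPoint w _ from heq) hη).le

theorem exists_prime_over_maximal {B C : CommRingCat.{u}} (ι : B ⟶ C) (hι : Function.Injective ι.hom)
    (v : ↥(Spec B)) (hv : coheight v = 0) : ∃ w : ↥(Spec C), Spec.map ι w = v := by
  have hmin : (v : PrimeSpectrum B).asIdeal ∈ minimalPrimes B := by
    refine ⟨⟨(v : PrimeSpectrum B).2, bot_le⟩, fun q hq hle => ?_⟩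
    let q' : ↥(Spec B) := (⟨q, hq.1⟩ : PrimeSpectrum B)
    have h1 : v ≤ q' := (PrimeSpectrum.le_iff_specializes (⟨q, hq.1⟩ : PrimeSpectrum B) v).1 hle
    have h2 : q' ≤ v := (coheight_eq_zero.1 hv) h1
    have h3 : q' = v := (Specializes.antisymm (h2 : v ⤳ q') (h1 : q' ⤳ v)).eq.symm
    exact (congrArg PrimeSpectrum.asIdeal h3).symm.le
  obtain ⟨p₀, hp₀, -, hpp⟩ := Ideal.exists_comap_eq_of_mem_minimalPrimes ι.hom (I := ⊥)
    (v : PrimeSpectrum B).asIdeal (by rwa [← RingHom.ker_eq_comap_bot, (RingHom.injective_iff_ker_eq_bot _).1 hι])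
  exact ⟨(⟨p₀, hp₀⟩ : PrimeSpectrum C), PrimeSpectrum.ext hpp⟩

/-- A point of codimension zero over a point of codimension zero of an affine target. -/
theorem exists_codimZero_over {P : Sp S} (hP : IsAlgSpace P) {B C : CommRingCat.{u}} (sB : Spec B ⟶ S)
    (sC : Spec C ⟶ S) (ι : B ⟶ C) (hι : Function.Injective ι.hom) (h : Over.mk sC ⟶ Over.mk sB)
    (hh : h.left = Spec.map ι) (g : P ⟶ (yon S).obj (Over.mk sB)) (c : (yon S).obj (Over.mk sC) ⟶ P)
    (hg : c ≫ g = (yon S).map h) (v : ↥(Over.mk sB).left) (hv : coheight v = 0) :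
    ∃ (U : Over S) (a : (yon S).obj U ⟶ P) (t₀ : ↥U.left), RepWith @Etale a ∧ coheight t₀ = 0 ∧
      Points.ofPt (a ≫ g) t₀ = Points.ofScheme (Over.mk sB) v := by
  obtain ⟨w, hw⟩ := exists_prime_over_maximal ι hι v hv
  obtain ⟨U, a, ha, ha'⟩ := hP.atlas
  obtain ⟨t, ht⟩ := surjective_ofPt ha' (Points.ofPt c (w : ↥(Over.mk sC).left))
  obtain ⟨t₀, ht₀, hz⟩ := exists_generization_coheight_zero t
  obtain ⟨m, hm⟩ := (yon S).map_surjective (a ≫ g)
  have hwl : h.left (w : ↥(Over.mk sC).left) = v := by rw [hh]; exact hw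
  have hmv : m.left t = v := (Points.schemeHomeo _).injective (by
    rw [← Points.map_yon_map_apply, hm, Points.map_comp]
    show Points.map g (Points.map a (Points.ofScheme U t)) = Points.ofScheme _ v
    rw [← Points.ofPt_eq_map_ofScheme, ht, Points.map_ofPt, hg, Points.ofPt_eq_map_ofScheme]
    exact (Points.map_yon_map_apply _ _).trans (congrArg _ hwl))
  have hmv₀ : m.left t₀ = v := by
    have hs : m.left t₀ ⤳ v := hmv ▸ ht₀.map m.left.continuous
    have h1 : v ≤ m.left t₀ := hs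
    exact (Specializes.antisymm hs ((coheight_eq_zero.1 hv) h1 : v ⤳ m.left t₀)).eq
  refine ⟨U, a, t₀, ha, hz, ?_⟩
  rw [← hm, Points.ofPt_eq_map_ofScheme]
  exact (Points.map_yon_map_apply _ _).trans (congrArg _ hmv₀)

theorem exists_codimZero_lift {Y X X' : Sp S} (hY : IsAlgSpace Y) (hX : IsAlgSpace X) {f : Y ⟶ X}
    (hqc : IsQuasiCompactMor f) (hqs : IsQuasiSeparatedMor f) {ν : X' ⟶ X} {f' : Y ⟶ X'}
    (hn : IsRelNormalization f ν f') (x' : Points X')
    (hx' : HasAt (fun U u => ringKrullDim ↥(U.presheaf.stalk u) = 0) X' x') :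
    ∃ y : Points Y, HasAt (fun U u => ringKrullDim ↥(U.presheaf.stalk u) = 0) Y y ∧ Points.map f' y = x' := by
  obtain ⟨κ, W, c, hW, hc, hsur, -⟩ := exists_etale_affine_cover hX
  obtain ⟨k, u, hu⟩ := hsur (Points.map ν x')
  have := hW k
  obtain ⟨A, str, ⟨eW⟩⟩ := exists_spec_iso (W k)
  let φ : (yon S).obj (Over.mk str) ⟶ X := (yon S).map eW.hom ≫ c k
  have hφe : RepWith @Etale φ := repWith_comp (repWith_of_isIso _ _) (hc k)
  have hφ : LocP @Smooth φ := locP_smooth_of_etale hφe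
  let u' : ↥(Over.mk str).left := eW.inv.left u
  have hu' : Points.ofPt φ u' = Points.map ν x' := by
    rw [← hu, ofPt_comp]
    congr 1
    show (eW.inv.left ≫ eW.hom.left) u = u
    rw [← Over.comp_left, eW.inv_hom_id]
    rfl
  have sqP := IsPullback.of_hasPullback f φ
  have sqN := IsPullback.of_hasPullback ν φ
  have hT : IsAlgSpace ((yon S).obj (Over.mk str)) := IsAlgSpace.yon_obj _
  have hX' : IsAlgSpace X' := isAlgSpace_of_isIntegralMor hn.2.1 hX
  have hP : IsAlgSpace (pullback f φ) := isAlgSpace_pullback hY hT hX _ _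
  have hN : IsAlgSpace (pullback ν φ) := isAlgSpace_pullback hX' hT hX _ _
  let f₂ : pullback f φ ⟶ pullback ν φ := pullback.map f φ ν φ f' (𝟙 _) (𝟙 X) (by simp [hn.1]) (by simp)
  have hn₂ : IsRelNormalization (pullback.snd f φ) (pullback.snd ν φ) f₂ :=
    isRelNormalization_of_isPullback hY hX hqc hqs hn hT hφ sqP sqN (by simp [f₂]) (by simp [f₂])
  obtain ⟨p⟩ := nonempty_pres hP (pullback.snd f φ) (AlgSpPts.isQuasiCompactMor_of_isPullback sqP hqc)
    (AlgSpPts.isQuasiSeparatedMor_of_isPullback sqP hqs)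
  let _ : Algebra A p.C := p.γ.hom.toAlgebra
  let _ : Algebra A p.R := (p.γ ≫ p.g₁).hom.toAlgebra
  let g₁ : p.C →ₐ[A] p.R := { p.g₁.hom with commutes' := fun x => rfl }
  let g₂ : p.C →ₐ[A] p.R :=
    { p.g₂.hom with commutes' := fun x => (RingHom.congr_fun (congrArg CommRingCat.Hom.hom p.hg) x).symm }
  let E := AlgHom.equalizer g₁ g₂
  let B₀ := integralClosure A E
  let ι₀ : B₀ →ₐ[A] p.C := E.val.comp B₀.val
  let b : A ⟶ CommRingCat.of B₀ := CommRingCat.ofHom (algebraMap A B₀)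
  let ι : CommRingCat.of B₀ ⟶ p.C := CommRingCat.ofHom ι₀.toRingHom
  have hι : b ≫ ι = p.γ := CommRingCat.hom_ext (RingHom.ext fun x => ι₀.commutes x)
  have hιinj : Function.Injective ι.hom := Subtype.val_injective.comp Subtype.val_injective
  have hrange : ∀ x, x ∈ ι.hom.range ↔ p.g₁.hom x = p.g₂.hom x ∧ p.γ.hom.IsIntegralElem x := by
    intro x
    constructor
    · rintro ⟨z, rfl⟩
      exact ⟨(z : E).2, z.2.map E.val⟩
    · rintro ⟨h1, h2⟩
      exact ⟨⟨⟨x, h1⟩, (isIntegral_algHom_iff E.val Subtype.val_injective).1 h2⟩, rfl⟩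
  obtain ⟨g, hg, hnB⟩ := p.isRelNormalization b ι hι hιinj hrange
  obtain ⟨e, he₁, -⟩ := exists_iso_of_isRelNormalization hN (IsAlgSpace.yon_obj _) hn₂ hnB
  obtain ⟨z, hz, -⟩ := exists_point_of_isPullback sqN
    (x := x') (y := Points.ofScheme _ u') (by rw [← hu', Points.ofPt_eq_map_ofScheme])
  obtain ⟨v, hv⟩ := (Points.schemeHomeo _).surjective (Points.map e.hom z)
  let q : (yon S).obj (Over.mk (Spec.map b ≫ str)) ⟶ X' := e.inv ≫ pullback.fst ν φ
  have hq : RepWith @Etale q := repWith_comp (repWith_of_isIso _ _) (repWith_fst ν hφe)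
  have hvx : Points.ofPt q v = x' := by
    rw [Points.ofPt_eq_map_ofScheme, show Points.ofScheme _ v = Points.map e.hom z from hv, ← Points.map_comp,
      e.hom_inv_id_assoc, hz]
  have hcv : coheight v = 0 := by
    obtain ⟨U₀, a₀, u₀, ha₀, hu₀, h0⟩ := hx'
    rw [ringKrullDim_stalk_eq_coheight] at h0
    rw [AlgSpPts.coheight_eq_of_charts hq ha₀ (hvx.trans hu₀.symm)]
    exact_mod_cast h0
  obtain ⟨U, a, t₀, ha, hh, hav⟩ := exists_codimZero_over hP _ _ ι hιinj (specHom b ι p.γ hι) rfl g p.a hg v hcv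
  refine ⟨Points.ofPt (a ≫ pullback.fst f φ) t₀,
    ⟨U, a ≫ pullback.fst f φ, t₀, repWith_comp ha (repWith_fst f hφe), rfl, ?_⟩, ?_⟩
  · show ringKrullDim ↥(U.left.presheaf.stalk t₀) = 0
    rw [ringKrullDim_stalk_eq_coheight, hh]
    rfl
  · have hfq : g ≫ q = pullback.fst f φ ≫ f' := by
      rw [← he₁, Category.assoc, e.hom_inv_id_assoc, pullback.lift_fst]
    rw [Points.map_ofPt, Category.assoc, ← hfq, ← Category.assoc, ← Points.map_ofPt, hav,
      ← Points.ofPt_eq_map_ofScheme, hvx]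

end Groth.Agent.AlgSpNorm
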