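import Groth.Agent.AlgSpLib.Sheaf
import Groth.Agent.AlgSpNorm.Basic

/-!
# Defining a morphism of sheaves by a local functional relation on points
-/

set_option autoImplicit false
set_option backward.isDefEq.respectTransparency false
set_option backward.isDefEq.respectTransparency.types false

universe u

open CategoryTheory CategoryTheory.Limits AlgebraicGeometry Opposite AlgSp Groth.Agent.AlgSpLib

namespace Groth.Agent.AlgSpNorm

variable {S : Scheme.{u}}

/-- A functional relation between points, stable under pullback and defined locally, is a morphism. -/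
theorem exists_desc_rel {P Z : Sp S}
    (Φ : ∀ ⦃T : Over S⦄, ((yon S).obj T ⟶ P) → ((yon S).obj T ⟶ Z) → Prop)
    (hpre : ∀ ⦃T T' : Over S⦄ (j : T' ⟶ T) (t : (yon S).obj T ⟶ P) (l : (yon S).obj T ⟶ Z),
      Φ t l → Φ ((yon S).map j ≫ t) ((yon S).map j ≫ l))
    (hfun : ∀ ⦃T : Over S⦄ (t : (yon S).obj T ⟶ P) (l l' : (yon S).obj T ⟶ Z), Φ t l → Φ t l' → l = l')
    (hloc : ∀ ⦃T : Over S⦄ (t : (yon S).obj T ⟶ P), ∃ R ∈ J S T, ∀ ⦃T' : Over S⦄ (j : T' ⟶ T), R j →
      ∃ l, Φ ((yon S).map j ≫ t) l) :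
    ∃ L : P ⟶ Z, ∀ ⦃T : Over S⦄ (t : (yon S).obj T ⟶ P) (l : (yon S).obj T ⟶ Z), Φ t l → t ≫ L = l := by
  have hval : ∀ ⦃T : Over S⦄ (t : (yon S).obj T ⟶ P), ∃ l : (yon S).obj T ⟶ Z,
      ∀ ⦃T' : Over S⦄ (j : T' ⟶ T) (l' : (yon S).obj T' ⟶ Z), Φ ((yon S).map j ≫ t) l' → (yon S).map j ≫ l = l' := by
    intro T t
    obtain ⟨R, hR, hl⟩ := hloc t
    choose l hlΦ using hl
    have hs : Presieve.IsSheafFor Z.obj R.arrows := ((isSheaf_iff_isSheaf_of_type _ _).1 Z.property) _ hR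
    let x : Presieve.FamilyOfElements Z.obj R.arrows := fun T' j hj => (J S).uliftYonedaEquiv.{u + 1} (l j hj)
    have hx : x.Compatible := fun T₁ T₂ W g₁ g₂ j₁ j₂ h₁ h₂ hw => by
      simp only [x]
      rw [uliftYonedaEquiv_precomp, uliftYonedaEquiv_precomp]
      congr 1
      refine hfun _ _ _ (hpre g₁ _ _ (hlΦ j₁ h₁)) ?_
      have := hpre g₂ _ _ (hlΦ j₂ h₂)
      rw [← Category.assoc, ← Functor.map_comp] at this ⊢
      rwa [hw]
    refine ⟨(J S).uliftYonedaEquiv.{u + 1}.symm (hs.amalgamate x hx), fun T' j l' hl' => ?_⟩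
    refine hom_ext_of_covering _ _ ((J S).pullback_stable j hR) fun T'' k hk => ?_
    have h1 := hs.valid_glue hx (k ≫ j) hk
    have h2 : (yon S).map (k ≫ j) ≫ (J S).uliftYonedaEquiv.{u + 1}.symm (hs.amalgamate x hx) = l (k ≫ j) hk := by
      apply (J S).uliftYonedaEquiv.{u + 1}.injective
      rw [← uliftYonedaEquiv_precomp, Equiv.apply_symm_apply]
      exact h1
    rw [← Category.assoc, ← Functor.map_comp, h2]
    refine hfun _ _ _ (hlΦ _ hk) ?_
    have := hpre k _ _ hl'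
    rwa [← Category.assoc, ← Functor.map_comp] at this
  choose v hv using hval
  have hnat : ∀ ⦃T T' : Over S⦄ (j : T' ⟶ T) (t : (yon S).obj T ⟶ P),
      v ((yon S).map j ≫ t) = (yon S).map j ≫ v t := by
    intro T T' j t
    obtain ⟨R, hR, hl⟩ := hloc ((yon S).map j ≫ t)
    refine hom_ext_of_covering _ _ hR fun T'' k hk => ?_
    obtain ⟨l, hl⟩ := hl k hk
    rw [hv _ k l hl]
    rw [← Category.assoc, ← Functor.map_comp] at hl ⊢
    exact (hv t _ l hl).symm
  let η : P.obj ⟶ Z.obj :=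
    { app := fun T => ↾fun s => (J S).uliftYonedaEquiv.{u + 1} (v ((J S).uliftYonedaEquiv.{u + 1}.symm s))
      naturality := fun T T' j => by
        ext s
        change (J S).uliftYonedaEquiv.{u + 1} (v ((J S).uliftYonedaEquiv.{u + 1}.symm (P.obj.map j s))) =
          Z.obj.map j ((J S).uliftYonedaEquiv.{u + 1} (v ((J S).uliftYonedaEquiv.{u + 1}.symm s)))
        obtain ⟨t, rfl⟩ := (J S).uliftYonedaEquiv.{u + 1}.surjective s
        obtain ⟨j, rfl⟩ : ∃ j' : T'.unop ⟶ T.unop, j = j'.op := ⟨j.unop, rfl⟩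
        erw [uliftYonedaEquiv_precomp j t, Equiv.symm_apply_apply, Equiv.symm_apply_apply, hnat]
        exact (uliftYonedaEquiv_precomp j _).symm }
  refine ⟨⟨η⟩, fun T t l hl => ?_⟩
  have h1 : v t = l := by
    have := hv t (𝟙 T) l (by rwa [CategoryTheory.Functor.map_id, Category.id_comp])
    rwa [CategoryTheory.Functor.map_id, Category.id_comp] at this
  apply (J S).uliftYonedaEquiv.{u + 1}.injective
  rw [GrothendieckTopology.uliftYonedaEquiv_comp]
  change (J S).uliftYonedaEquiv.{u + 1} (v ((J S).uliftYonedaEquiv.{u + 1}.symm ((J S).uliftYonedaEquiv.{u + 1} t))) = _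
  rw [Equiv.symm_apply_apply, h1]

end Groth.Agent.AlgSpNorm
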