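import Groth.Agent.AlgSpDec.EtCompact
import Groth.Agent.AlgSpDec.LimQuasiFiniteScheme
import Groth.Agent.AlgSpDec.LimQuasiFinite
import Mathlib.AlgebraicGeometry.ZariskisMainTheorem

/-!
# Etale over integral and locally of finite type is locally quasi-finite
-/

set_option autoImplicit false
set_option backward.isDefEq.respectTransparency false
set_option backward.isDefEq.respectTransparency.types false

universe u

open CategoryTheory CategoryTheory.Limits AlgebraicGeometry TopologicalSpace Groth.Agent.AlgSpDec

namespace Groth.Agent.AlgSpNorm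

theorem locallyQuasiFinite_etale_comp_integral {A N V : Scheme.{u}} (g : A ⟶ N) (ν : N ⟶ V) [Etale g]
    [IsIntegralHom ν] [LocallyOfFiniteType (g ≫ ν)] : LocallyQuasiFinite (g ≫ ν) := by
  let h := g ≫ ν
  refine locallyQuasiFinite_iff_isDiscrete_preimage_singleton.2 fun v => ?_
  have hspec : ∀ a b : A, h a = v → h b = v → a ⤳ b → a = b := fun a b ha hb hab => by
    have h₁ : g a = g b := eq_of_specializes_of_isIntegralHom ν (hab.map g.continuous)
      (by rw [← Scheme.Hom.comp_apply, ← Scheme.Hom.comp_apply]; exact ha.trans hb.symm)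
    exact eq_of_specializes_of_etale g h₁.symm hab
  let F := h.fiber v
  let q : F ⟶ _ := h.fiberToSpecResidueField v
  have hval : ∀ x : F, h (h.fiberι v x) = v := fun x => by
    have : h.fiberι v x ∈ Set.range (h.fiberι v) := ⟨x, rfl⟩
    rw [h.range_fiberι v] at this
    exact this
  have : LocallyOfFiniteType q := MorphismProperty.pullback_snd _ _ ‹_›
  have : IsLocallyNoetherian F := LocallyOfFiniteType.isLocallyNoetherian q
  suffices DiscreteTopology F by
    rw [isDiscrete_iff_discreteTopology]
    exact (h.fiberHomeo v).discreteTopology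
  refine discreteTopology_iff_isOpen_singleton.2 fun x => ?_
  obtain ⟨_, ⟨O : F.Opens, hO, rfl⟩, hx, -⟩ := F.isBasis_affineOpens.exists_subset_of_mem_open (Set.mem_univ x) isOpen_univ
  haveI : IsAffine O.toScheme := hO
  haveI : IsNoetherian O.toScheme := {}
  have hsp : ∀ a b : O.toScheme, a ⤳ b → a = b := fun a b hab => by
    refine O.ι.isOpenEmbedding.injective ((h.fiberι v).isEmbedding.injective ?_)
    exact hspec _ _ (hval _) (hval _) ((hab.map O.ι.continuous).map (h.fiberι v).continuous)
  have hfin : (Set.univ : Set ↥O.toScheme).Finite :=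
    finite_of_isClosed_of_specializes (⊤ : Closeds ↥O.toScheme) fun a _ b _ => hsp a b
  have : Finite ↥O.toScheme := Set.finite_univ_iff.1 hfin
  have : T1Space ↥O.toScheme := t1Space_iff_specializes_imp_eq.2 fun a b hab => hsp a b hab
  have hd : DiscreteTopology ↥O.toScheme := inferInstance
  have := O.ι.isOpenEmbedding.isOpenMap _ (@isOpen_discrete ↥O.toScheme _ hd {(⟨x, hx⟩ : O.toScheme)})
  rwa [Set.image_singleton] at this

end Groth.Agent.AlgSpNorm
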