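import Groth.Agent.AlgSpNorm.Sigma
import Groth.Agent.AlgSpDec.SpQuot
import Groth.Agent.AlgSpLib.AffineDescProps

/-!
# Existence of relative normalization of algebraic spaces
-/

set_option autoImplicit false
set_option backward.isDefEq.respectTransparency false
set_option backward.isDefEq.respectTransparency.types false

universe u

open CategoryTheory CategoryTheory.Limits AlgebraicGeometry Opposite AlgSp Groth.Agent.AlgSpLib
  Groth.Agent.AlgSpDec

namespace Groth.Agent.AlgSpNorm

variable {S : Scheme.{u}} {X Y : Sp S} {f : Y ⟶ X} {U : Over S} {q : (yon S).obj U ⟶ X}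
  {N : Over S} {ν₀ : N ⟶ U} {fU : pullback f q ⟶ (yon S).obj N}

section

variable (hN : NormOn (pullback.snd f q) ((yon S).map ν₀) fU)

include hN in
/-- Maps from an etale base change of the normalization to itself are determined on the source. -/
theorem nhom_ext {T Q : Over S} (u : T ⟶ U) [Etale u.left] {x : Q ⟶ N} {ρ : Q ⟶ T}
    (sq : IsPullback x ρ ν₀ u) (w : T ⟶ U) (a b : Q ⟶ N) (ha : a ≫ ν₀ = ρ ≫ w) (hb : b ≫ ν₀ = ρ ≫ w)
    (hab : ∀ (K : Sp S) (z : K ⟶ Y) (u' : K ⟶ (yon S).obj T) (hz : z ≫ f = (u' ≫ (yon S).map u) ≫ q)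
      (r : K ⟶ (yon S).obj Q), r ≫ (yon S).map x = pullback.lift z (u' ≫ (yon S).map u) hz ≫ fU →
      r ≫ (yon S).map ρ = u' → r ≫ (yon S).map a = r ≫ (yon S).map b) : a = b := by
  let sqY := sq.map (yon S)
  let PT := pullback (pullback.snd f q) ((yon S).map u)
  obtain ⟨g, hg1, hg2⟩ : ∃ g : PT ⟶ (yon S).obj Q, g ≫ (yon S).map x = pullback.fst _ _ ≫ fU ∧
      g ≫ (yon S).map ρ = pullback.snd _ _ :=
    ⟨sqY.lift (pullback.fst _ _ ≫ fU) (pullback.snd _ _) (by rw [Category.assoc, hN.1, pullback.condition]),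
      sqY.lift_fst _ _ _, sqY.lift_snd _ _ _⟩
  have hn := isRelNormalization_of_normOn
    (normOn_of_isPullback hN (IsAlgSpace.yon_obj U) (IsAlgSpace.yon_obj T) (locP_smooth_yon u)
      (IsPullback.of_hasPullback (pullback.snd f q) ((yon S).map u)) sqY hg2 hg1) (IsAlgSpace.yon_obj T)
  refine (yon S).map_injective (hom_ext hn (IsAlgSpace.yon_obj T) (IsAlgSpace.yon_obj N) (IsAlgSpace.yon_obj U)
    hN.2.1 ((yon S).map w) _ _ (by rw [← Functor.map_comp, ← Functor.map_comp, ha])
    (by rw [← Functor.map_comp, ← Functor.map_comp, hb]) ?_)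
  refine hab PT (pullback.fst _ _ ≫ pullback.fst f q) (pullback.snd _ _) (by
    rw [Category.assoc, pullback.condition, pullback.condition_assoc, Category.assoc]) g ?_ hg2
  rw [hg1]
  congr 1
  exact pullback.hom_ext (by simp) (by simp [pullback.condition])

include hN in
/-- The transport of the normalization along the relation of a chart. -/
theorem exists_transport (hqe : RepWith @Etale q) :
    ∃ (A : Over S) (a : A ⟶ N) (ρ : A ⟶ hqe.rep.pullback q) (sN : A ⟶ N),
      IsPullback a ρ ν₀ (hqe.rep.fst' q) ∧ sN ≫ ν₀ = ρ ≫ hqe.rep.snd q ∧ Etale a.left ∧ Etale sN.left ∧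
      ∀ (K : Sp S) (z : K ⟶ Y) (u v : K ⟶ (yon S).obj U) (hu : z ≫ f = u ≫ q) (hv : z ≫ f = v ≫ q)
        (r : K ⟶ (yon S).obj A), r ≫ (yon S).map a = pullback.lift z u hu ≫ fU →
        (r ≫ (yon S).map ρ) ≫ (yon S).map (hqe.rep.fst' q) = u →
        (r ≫ (yon S).map ρ) ≫ (yon S).map (hqe.rep.snd q) = v →
        r ≫ (yon S).map sN = pullback.lift z v hv ≫ fU := by
  let R := hqe.rep.pullback q
  obtain ⟨t, ht⟩ : ∃ t : R ⟶ U, t = hqe.rep.fst' q := ⟨_, rfl⟩
  obtain ⟨s, hs⟩ : ∃ s : R ⟶ U, s = hqe.rep.snd q := ⟨_, rfl⟩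
  have sqR : IsPullback ((yon S).map t) ((yon S).map s) q q := by rw [ht, hs]; exact hqe.rep.isPullback' q
  have hte : Etale t.left := hqe.property _ _ _ sqR.flip
  have hse : Etale s.left := by rw [hs]; exact hqe.property_snd q
  rw [← ht, ← hs]
  have sA : IsPullback (pullback.fst ν₀ t) (pullback.snd ν₀ t) ν₀ t := IsPullback.of_hasPullback _ _
  have sB : IsPullback (pullback.fst ν₀ s) (pullback.snd ν₀ s) ν₀ s := IsPullback.of_hasPullback _ _
  let sAY := sA.map (yon S)
  let sBY := sB.map (yon S)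
  have hw : (yon S).map t ≫ q = (yon S).map s ≫ q := sqR.w
  obtain ⟨c, hc1, hc2⟩ : ∃ c, (yon S).map t ≫ q = c ∧ (yon S).map s ≫ q = c := ⟨_, rfl, hw.symm⟩
  let PR := pullback f c
  obtain ⟨lt, hlt1, hlt2⟩ : ∃ l : PR ⟶ pullback f q, l ≫ pullback.fst f q = pullback.fst _ _ ∧
      l ≫ pullback.snd f q = pullback.snd _ _ ≫ (yon S).map t :=
    ⟨pullback.lift (pullback.fst _ _) (pullback.snd _ _ ≫ (yon S).map t)
      (by rw [pullback.condition, Category.assoc, hc1]), pullback.lift_fst _ _ _, pullback.lift_snd _ _ _⟩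
  obtain ⟨ls, hls1, hls2⟩ : ∃ l : PR ⟶ pullback f q, l ≫ pullback.fst f q = pullback.fst _ _ ∧
      l ≫ pullback.snd f q = pullback.snd _ _ ≫ (yon S).map s :=
    ⟨pullback.lift (pullback.fst _ _) (pullback.snd _ _ ≫ (yon S).map s)
      (by rw [pullback.condition, Category.assoc, hc2]), pullback.lift_fst _ _ _, pullback.lift_snd _ _ _⟩
  have Pt : IsPullback lt (pullback.snd _ _) (pullback.snd f q) ((yon S).map t) :=
    IsPullback.of_right (by rw [hlt1, hc1]; exact IsPullback.of_hasPullback _ _) hlt2 (IsPullback.of_hasPullback f q)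
  have Ps : IsPullback ls (pullback.snd f c) (pullback.snd f q) ((yon S).map s) :=
    IsPullback.of_right (by rw [hls1, hc2]; exact IsPullback.of_hasPullback _ _) hls2
      (IsPullback.of_hasPullback f q)
  obtain ⟨fA, hfA1, hfA2⟩ : ∃ g : PR ⟶ (yon S).obj (pullback ν₀ t), g ≫ (yon S).map (pullback.fst ν₀ t) = lt ≫ fU ∧
      g ≫ (yon S).map (pullback.snd ν₀ t) = pullback.snd _ _ :=
    ⟨sAY.lift (lt ≫ fU) (pullback.snd _ _) (by rw [Category.assoc, hN.1, hlt2]), sAY.lift_fst _ _ _,
      sAY.lift_snd _ _ _⟩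
  obtain ⟨fB, hfB1, hfB2⟩ : ∃ g : PR ⟶ (yon S).obj (pullback ν₀ s), g ≫ (yon S).map (pullback.fst ν₀ s) = ls ≫ fU ∧
      g ≫ (yon S).map (pullback.snd ν₀ s) = pullback.snd _ _ :=
    ⟨sBY.lift (ls ≫ fU) (pullback.snd _ _) (by rw [Category.assoc, hN.1, hls2]), sBY.lift_fst _ _ _,
      sBY.lift_snd _ _ _⟩
  have hR := IsAlgSpace.yon_obj R
  have hnA := isRelNormalization_of_normOn
    (normOn_of_isPullback hN (IsAlgSpace.yon_obj U) hR (locP_smooth_yon t) Pt sAY hfA2 hfA1) hR
  have hnB := isRelNormalization_of_normOn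
    (normOn_of_isPullback hN (IsAlgSpace.yon_obj U) hR (locP_smooth_yon s) Ps sBY hfB2 hfB1) hR
  obtain ⟨e, he1, he2⟩ := exists_iso_of_isRelNormalization (IsAlgSpace.yon_obj _) (IsAlgSpace.yon_obj _) hnA hnB
  obtain ⟨φ, rfl⟩ : ∃ φ : pullback ν₀ t ≅ pullback ν₀ s, (yon S).mapIso φ = e :=
    ⟨(yon S).preimageIso e, Iso.ext (by simp)⟩
  have hφ : φ.hom ≫ pullback.snd ν₀ s = pullback.snd ν₀ t := (yon S).map_injective (by
    rw [Functor.map_comp]; exact he2)
  refine ⟨pullback ν₀ t, pullback.fst ν₀ t, pullback.snd ν₀ t, φ.hom ≫ pullback.fst ν₀ s, sA, ?_, ?_, ?_,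
    fun K z u v hu hv r hr hru hrv => ?_⟩
  · rw [Category.assoc, sB.w, ← Category.assoc, hφ]
  · exact MorphismProperty.of_isPullback (P := @Etale) (sA.map (Over.forget S)).flip hte
  · have h1 : Etale (pullback.fst ν₀ s).left :=
      MorphismProperty.of_isPullback (P := @Etale) (sB.map (Over.forget S)).flip hse
    have : IsIso φ.hom.left := inferInstanceAs (IsIso ((Over.forget S).map φ.hom))
    show Etale (φ.hom.left ≫ (pullback.fst ν₀ s).left)
    infer_instance
  · obtain ⟨m, hm1, hm2⟩ : ∃ m : K ⟶ PR, m ≫ pullback.fst _ _ = z ∧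
        m ≫ pullback.snd _ _ = r ≫ (yon S).map (pullback.snd ν₀ t) :=
      ⟨pullback.lift z (r ≫ (yon S).map (pullback.snd ν₀ t)) (by rw [hu, ← hru, ← hc1]; simp only [Category.assoc]),
        pullback.lift_fst _ _ _, pullback.lift_snd _ _ _⟩
    have hmt : m ≫ lt = pullback.lift z u hu :=
      pullback.hom_ext (by rw [Category.assoc, hlt1, hm1, pullback.lift_fst])
        (by rw [Category.assoc, hlt2, reassoc_of% hm2, pullback.lift_snd, ← hru, Category.assoc])
    have hms : m ≫ ls = pullback.lift z v hv :=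
      pullback.hom_ext (by rw [Category.assoc, hls1, hm1, pullback.lift_fst])
        (by rw [Category.assoc, hls2, reassoc_of% hm2, pullback.lift_snd, ← hrv, Category.assoc])
    have hr' : r = m ≫ fA := sAY.hom_ext (by rw [hr, Category.assoc, hfA1, ← Category.assoc, hmt])
      (by rw [Category.assoc, hfA2, hm2])
    rw [hr', Functor.map_comp]
    simp only [Category.assoc]
    rw [show fA ≫ (yon S).map φ.hom ≫ (yon S).map (pullback.fst ν₀ s) = ls ≫ fU by
      rw [← Category.assoc]; erw [he1]; rw [hfB1], ← Category.assoc, hms]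

end

/-- A normalization compatible with smooth base change exists. -/
theorem exists_normOn (hY : IsAlgSpace Y) (hX : IsAlgSpace X) (hqc : IsQuasiCompactMor f)
    (hqs : IsQuasiSeparatedMor f) :
    ∃ (X' : Sp S) (ν : X' ⟶ X) (f' : Y ⟶ X'), IsAlgSpace X' ∧ NormOn f ν f' := by
  obtain ⟨U₀, q₀, hq₀, hq₀s⟩ := hX.atlas
  let T : U₀.left.affineOpens → Over S := fun V => Over.mk (V.1.ι ≫ U₀.hom)
  have hT : ∀ V, IsAffine (T V).left := fun V => V.2
  let U := sigmaOver T
  let d : U ⟶ U₀ := CategoryTheory.Over.homMk (Sigma.desc fun V => V.1.ι) (by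
    apply Sigma.hom_ext
    intro i
    change Sigma.ι _ i ≫ Sigma.desc _ ≫ U₀.hom = Sigma.ι _ i ≫ Sigma.desc _
    rw [Sigma.ι_desc_assoc, Sigma.ι_desc]
    rfl)
  have hde : Etale d.left := by
    refine IsZariskiLocalAtSource.of_openCover (sigmaOpenCover fun V => (T V).left) fun V => ?_
    change Etale (Sigma.ι (fun V => (T V).left) V ≫ Sigma.desc _)
    rw [Sigma.ι_desc]
    exact inferInstanceAs (Etale V.1.ι)
  have hds : Surjective d.left := ⟨fun y => by
    obtain ⟨V, hV, hyV, -⟩ := exists_isAffineOpen_mem_and_subset (U := (⊤ : U₀.left.Opens)) (x := y) trivial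
    refine ⟨(sigmaι T ⟨V, hV⟩).left ⟨y, hyV⟩, ?_⟩
    change (Limits.Sigma.desc fun V : U₀.left.affineOpens => V.1.ι) (Sigma.ι (fun V => (T V).left) ⟨V, hV⟩ ⟨y, hyV⟩) = y
    erw [← Scheme.Hom.comp_apply, Sigma.ι_desc]
    rfl⟩
  obtain ⟨q, hq⟩ : ∃ q : (yon S).obj U ⟶ X, q = (yon S).map d ≫ q₀ := ⟨_, rfl⟩
  have hqe : RepWith @Etale q := by rw [hq]; exact repWith_comp ((repWith_yon_map_iff _ _).2 hde) hq₀
  have hqsur : RepWith @Surjective q := by rw [hq]; exact repWith_comp ((repWith_yon_map_iff _ _).2 hds) hq₀s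
  have hU := IsAlgSpace.yon_obj U
  have sqP : IsPullback (pullback.fst f q) (pullback.snd f q) f q := IsPullback.of_hasPullback f q
  obtain ⟨N, νU, fU, hN⟩ := exists_normOn_sigma T (isAlgSpace_of_isPullback sqP hY hU hX) (pullback.snd f q)
    (AlgSpPts.isQuasiCompactMor_of_isPullback sqP hqc) (AlgSpPts.isQuasiSeparatedMor_of_isPullback sqP hqs)
  obtain ⟨ν₀, rfl⟩ := (yon S).map_surjective νU
  obtain ⟨A, a, ρ, sN, sA, hsν, hae, hse, htr⟩ := exists_transport hN hqe
  obtain ⟨t, ht⟩ : ∃ t : hqe.rep.pullback q ⟶ U, t = hqe.rep.fst' q := ⟨_, rfl⟩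
  obtain ⟨s, hs⟩ : ∃ s : hqe.rep.pullback q ⟶ U, s = hqe.rep.snd q := ⟨_, rfl⟩
  have sqR : IsPullback ((yon S).map t) ((yon S).map s) q q := by rw [ht, hs]; exact hqe.rep.isPullback' q
  rw [← ht] at sA
  rw [← hs] at hsν
  simp only [← ht, ← hs] at htr
  have hte : Etale t.left := hqe.property _ _ _ sqR.flip
  have hsse : Etale s.left := by rw [hs]; exact hqe.property_snd q
  have haν : a ≫ ν₀ = ρ ≫ t := sA.w
  let sAY := sA.map (yon S)
  have hw : (yon S).map t ≫ q = (yon S).map s ≫ q := sqR.w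
  -- lifts into the kernel pair
  have rlift : ∀ {T : Over S} (x y : T ⟶ U), (yon S).map x ≫ q = (yon S).map y ≫ q →
      ∃ p : T ⟶ hqe.rep.pullback q, p ≫ t = x ∧ p ≫ s = y := fun x y h => by
    obtain ⟨p, hp⟩ := (yon S).map_surjective (sqR.lift ((yon S).map x) ((yon S).map y) h)
    exact ⟨p, (yon S).map_injective (by rw [Functor.map_comp, hp, sqR.lift_fst]),
      (yon S).map_injective (by rw [Functor.map_comp, hp, sqR.lift_snd])⟩
  have rext : ∀ {T : Over S} (p p' : T ⟶ hqe.rep.pullback q), p ≫ t = p' ≫ t → p ≫ s = p' ≫ s → p = p' :=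
    fun p p' h1 h2 => (yon S).map_injective (sqR.hom_ext (by rw [← Functor.map_comp, ← Functor.map_comp, h1])
      (by rw [← Functor.map_comp, ← Functor.map_comp, h2]))
  -- the transport is the identity on the diagonal, involutive and transitive
  obtain ⟨e, het, hes⟩ := rlift (𝟙 U) (𝟙 U) rfl
  let eN : N ⟶ A := sA.lift (𝟙 N) (ν₀ ≫ e) (by rw [Category.id_comp, Category.assoc, het, Category.comp_id])
  have heN : eN ≫ sN = 𝟙 N := by
    refine nhom_ext hN (𝟙 U) (x := 𝟙 N) (ρ := ν₀) (IsPullback.of_horiz_isIso ⟨by simp⟩) (𝟙 U) _ _ ?_ (by simp) ?_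
    · rw [Category.assoc, hsν, sA.lift_snd_assoc, Category.assoc, hes]
    · intro K z u' hz r hr hru
      rw [CategoryTheory.Functor.map_id, Category.comp_id] at hr
      rw [CategoryTheory.Functor.map_id, Category.comp_id, Functor.map_comp, ← Category.assoc]
      rw [htr K z (u' ≫ (yon S).map (𝟙 U)) (u' ≫ (yon S).map (𝟙 U)) hz hz (r ≫ (yon S).map eN) ?_ ?_ ?_, ← hr]
      · rw [Category.assoc, ← Functor.map_comp, sA.lift_fst, CategoryTheory.Functor.map_id, Category.comp_id, hr]
      · simp only [Category.assoc, ← Functor.map_comp, eN, sA.lift_snd_assoc, het]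
        rw [← hru, Category.comp_id, CategoryTheory.Functor.map_id, Category.comp_id]
      · simp only [Category.assoc, ← Functor.map_comp, eN, sA.lift_snd_assoc, hes]
        rw [← hru, Category.comp_id, CategoryTheory.Functor.map_id, Category.comp_id]
  obtain ⟨w, hwt, hws⟩ := rlift s t hw.symm
  let iA : A ⟶ A := sA.lift sN (ρ ≫ w) (by rw [hsν, Category.assoc, hwt])
  have hiA : iA ≫ sN = a := by
    refine nhom_ext hN t sA t _ _ ?_ haν ?_
    · rw [Category.assoc, hsν, sA.lift_snd_assoc, Category.assoc, hws]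
    · intro K z u' hz r hr hru
      have hz' : z ≫ f = (u' ≫ (yon S).map s) ≫ q := by rw [hz, Category.assoc, Category.assoc, hw]
      have h1 := htr K z _ (u' ≫ (yon S).map s) hz hz' r hr (by rw [hru]) (by rw [hru])
      rw [Functor.map_comp, ← Category.assoc]
      rw [htr K z (u' ≫ (yon S).map s) (u' ≫ (yon S).map t) hz' hz (r ≫ (yon S).map iA) ?_ ?_ ?_, hr]
      · rw [Category.assoc, ← Functor.map_comp, sA.lift_fst, h1]
      · simp only [Category.assoc, ← Functor.map_comp, iA, sA.lift_snd_assoc, hwt]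
        rw [← hru]; simp
      · simp only [Category.assoc, ← Functor.map_comp, iA, sA.lift_snd_assoc, hws]
        rw [← hru]; simp
  let R₂ := pullback s t
  let p₁ : R₂ ⟶ hqe.rep.pullback q := pullback.fst s t
  let p₂ : R₂ ⟶ hqe.rep.pullback q := pullback.snd s t
  obtain ⟨c, hct, hcs⟩ := rlift (p₁ ≫ t) (p₂ ≫ s) (by
    rw [Functor.map_comp, Functor.map_comp, Category.assoc, Category.assoc, hw, ← Category.assoc, ← Category.assoc,
      ← Functor.map_comp, ← Functor.map_comp, pullback.condition, Functor.map_comp, Functor.map_comp, Category.assoc,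
      Category.assoc, hw])
  let A₂ := pullback ρ p₁
  let x₂ : A₂ ⟶ A := pullback.fst ρ p₁
  let y₂ : A₂ ⟶ R₂ := pullback.snd ρ p₁
  have sA₂ : IsPullback (x₂ ≫ a) y₂ ν₀ (p₁ ≫ t) := (IsPullback.of_hasPullback ρ p₁).paste_horiz sA
  let bA : A₂ ⟶ A := sA.lift (x₂ ≫ sN) (y₂ ≫ p₂) (by
    rw [Category.assoc, hsν, ← Category.assoc, pullback.condition, Category.assoc, Category.assoc, pullback.condition])
  let cA : A₂ ⟶ A := sA.lift (x₂ ≫ a) (y₂ ≫ c) (by
    rw [Category.assoc, haν, ← Category.assoc, pullback.condition, Category.assoc, Category.assoc, hct])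
  have hbc : bA ≫ sN = cA ≫ sN := by
    have : Etale (p₁ ≫ t).left := by
      have : Etale p₁.left := MorphismProperty.of_isPullback (P := @Etale)
        ((IsPullback.of_hasPullback s t).map (Over.forget S)).flip hte
      show Etale (p₁.left ≫ t.left); infer_instance
    refine nhom_ext hN (p₁ ≫ t) sA₂ (p₂ ≫ s) _ _ ?_ ?_ ?_
    · rw [Category.assoc, hsν, sA.lift_snd_assoc, Category.assoc]
    · rw [Category.assoc, hsν, sA.lift_snd_assoc, Category.assoc, hcs]
    · intro K z u' hz r hr hru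
      have hz1 : z ≫ f = (u' ≫ (yon S).map (p₁ ≫ s)) ≫ q := by
        rw [hz]; simp only [Functor.map_comp, Category.assoc, hw]
      have hz2 : z ≫ f = (u' ≫ (yon S).map (p₂ ≫ s)) ≫ q := by
        rw [hz1, pullback.condition]; simp only [Functor.map_comp, Category.assoc, hw]; rfl
      have hρx : ∀ v : hqe.rep.pullback q ⟶ U, (r ≫ (yon S).map x₂) ≫ (yon S).map ρ ≫ (yon S).map v =
          u' ≫ (yon S).map (p₁ ≫ v) := fun v => by
        rw [← hru]
        simp only [Category.assoc, ← Functor.map_comp]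
        rw [pullback.condition_assoc]
      have h1 := htr K z _ _ hz hz1 (r ≫ (yon S).map x₂)
        (by rw [Category.assoc, ← Functor.map_comp, hr]) (by rw [Category.assoc, hρx]) (by rw [Category.assoc, hρx])
      rw [Functor.map_comp, ← Category.assoc, Functor.map_comp, ← Category.assoc]
      rw [htr K z (u' ≫ (yon S).map (p₁ ≫ s)) (u' ≫ (yon S).map (p₂ ≫ s)) hz1 hz2 (r ≫ (yon S).map bA) ?_ ?_ ?_,
        htr K z _ (u' ≫ (yon S).map (p₂ ≫ s)) hz hz2 (r ≫ (yon S).map cA) ?_ ?_ ?_]
      · rw [Category.assoc, ← Functor.map_comp, sA.lift_fst, hr]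
      · rw [← hru]; simp only [Category.assoc, ← Functor.map_comp, cA, sA.lift_snd_assoc, hct]
      · rw [← hru]; simp only [Category.assoc, ← Functor.map_comp, cA, sA.lift_snd_assoc, hcs]
      · rw [Category.assoc, ← Functor.map_comp, sA.lift_fst, Functor.map_comp, ← Category.assoc, h1]
      · rw [← hru]; simp only [Category.assoc, ← Functor.map_comp, bA, sA.lift_snd_assoc]; rw [show p₁ ≫ s = p₂ ≫ t from pullback.condition]
      · rw [← hru]; simp only [Category.assoc, ← Functor.map_comp, bA, sA.lift_snd_assoc]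
  -- the equivalence relation and its quotient
  have hrel : IsEqvRelSp ((yon S).map sN) ((yon S).map a) := by
    refine ⟨fun T r r' h1 h2 => ?_, fun T => ⟨?_, ?_, ?_⟩⟩
    · obtain ⟨r, rfl⟩ := (yon S).map_surjective r
      obtain ⟨r', rfl⟩ := (yon S).map_surjective r'
      rw [← Functor.map_comp, ← Functor.map_comp] at h1 h2
      replace h1 := (yon S).map_injective h1
      replace h2 := (yon S).map_injective h2
      congr 1
      refine sA.hom_ext h1 (rext _ _ ?_ ?_)
      · simp only [Category.assoc, ← haν, reassoc_of% h1]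
      · simp only [Category.assoc, ← hsν, reassoc_of% h2]
    · intro x
      obtain ⟨x, rfl⟩ := (yon S).map_surjective x
      exact ⟨(yon S).map (x ≫ eN), by rw [← Functor.map_comp, Category.assoc, sA.lift_fst, Category.comp_id],
        by rw [← Functor.map_comp, Category.assoc, heN, Category.comp_id]⟩
    · rintro x y ⟨r, rfl, rfl⟩
      exact ⟨r ≫ (yon S).map iA, by rw [Category.assoc, ← Functor.map_comp, sA.lift_fst],
        by rw [Category.assoc, ← Functor.map_comp, hiA]⟩
    · rintro x y z ⟨r, rfl, rfl⟩ ⟨r', hr', rfl⟩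
      obtain ⟨r, rfl⟩ := (yon S).map_surjective r
      obtain ⟨r', rfl⟩ := (yon S).map_surjective r'
      rw [← Functor.map_comp, ← Functor.map_comp] at hr'
      replace hr' := (yon S).map_injective hr'
      let l₂ : T ⟶ R₂ := pullback.lift (r ≫ ρ) (r' ≫ ρ) (by
        simp only [Category.assoc, ← haν, ← hsν, reassoc_of% hr'])
      let l : T ⟶ A₂ := pullback.lift r l₂ (by rw [pullback.lift_fst])
      refine ⟨(yon S).map (l ≫ cA), ?_, ?_⟩
      · rw [← Functor.map_comp, ← Functor.map_comp, Category.assoc, sA.lift_fst, pullback.lift_fst_assoc]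
      · rw [← Functor.map_comp, ← Functor.map_comp, Category.assoc, ← hbc, ← Category.assoc]
        congr 2
        refine sA.hom_ext ?_ ?_
        · rw [Category.assoc, sA.lift_fst, pullback.lift_fst_assoc, hr']
        · rw [Category.assoc, sA.lift_snd, pullback.lift_snd_assoc, pullback.lift_snd]
  have hA := IsAlgSpace.yon_obj A
  have hNs := IsAlgSpace.yon_obj N
  have hfl : ∀ g : A ⟶ N, Etale g.left → LocP @Flat ((yon S).map g) ∧
      LocP @LocallyOfFinitePresentation ((yon S).map g) := fun g hg =>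
    have h' : RepWith @Etale ((yon S).map g) := (repWith_yon_map_iff _ _).2 hg
    ⟨locP_mono (P := @Etale) (fun _ _ g (_ : Etale g) => (inferInstance : Flat g)) (locP_of_repWith h'),
      locP_mono (P := @Etale) (fun _ _ g (_ : Etale g) => (inferInstance : LocallyOfFinitePresentation g))
        (locP_of_repWith h')⟩
  have hX' := isAlgSpace_quotSp hA hNs hrel (hfl _ hse) (hfl _ hae)
  have sqX' := isPullback_quotSpπ hA hNs hrel (hfl _ hse) (hfl _ hae)
  obtain ⟨m, hm⟩ : ∃ m : (yon S).obj N ⟶ quotSp ((yon S).map sN) ((yon S).map a),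
      m = quotSpπ ((yon S).map sN) ((yon S).map a) := ⟨_, rfl⟩
  rw [← hm] at sqX'
  have hν' : (yon S).map sN ≫ (yon S).map ν₀ ≫ q = (yon S).map a ≫ (yon S).map ν₀ ≫ q := by
    rw [← Functor.map_comp_assoc, ← Functor.map_comp_assoc, hsν, haν, Functor.map_comp, Functor.map_comp,
      Category.assoc, Category.assoc, hw]
  let ν' := quotSpDesc ((yon S).map ν₀ ≫ q) hν'
  have hmν : m ≫ ν' = (yon S).map ν₀ ≫ q := by rw [hm]; exact coequalizer.π_desc _ _
  have hmepi : Epi m := by rw [hm]; exact coequalizer.π_epi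
  have hmls : Sheaf.IsLocallySurjective m := (Sheaf.isLocallySurjective_iff_epi m).2 hmepi
  have sqN : IsPullback m ((yon S).map ν₀) ν' q := by
    let c : (yon S).obj N ⟶ pullback ν' q := pullback.lift m ((yon S).map ν₀) hmν
    have : Mono c := mono_of_yon_injective fun T x y hxy => by
      have h1 : x ≫ m = y ≫ m := by
        simpa [c] using congrArg (· ≫ pullback.fst ν' q) hxy
      have h2 : x ≫ (yon S).map ν₀ = y ≫ (yon S).map ν₀ := by
        simpa [c] using congrArg (· ≫ pullback.snd ν' q) hxy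
      obtain ⟨x, rfl⟩ := (yon S).map_surjective x
      obtain ⟨y, rfl⟩ := (yon S).map_surjective y
      obtain ⟨r, hr⟩ := (yon S).map_surjective (sqX'.lift _ _ h1)
      have hr1 : r ≫ a = x := (yon S).map_injective (by rw [Functor.map_comp, hr, sqX'.lift_fst])
      have hr2 : r ≫ sN = y := (yon S).map_injective (by rw [Functor.map_comp, hr, sqX'.lift_snd])
      rw [← Functor.map_comp, ← Functor.map_comp] at h2
      replace h2 := (yon S).map_injective h2
      have hρ : r ≫ ρ = x ≫ ν₀ ≫ e := rext _ _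
        (by rw [Category.assoc, ← haν, reassoc_of% hr1, Category.assoc, Category.assoc, het, Category.comp_id])
        (by rw [Category.assoc, ← hsν, reassoc_of% hr2, Category.assoc, Category.assoc, hes, Category.comp_id, h2])
      have : r = x ≫ eN := sA.hom_ext (by rw [hr1, Category.assoc, sA.lift_fst, Category.comp_id])
        (by rw [hρ, Category.assoc, sA.lift_snd])
      rw [← hr2, this, Category.assoc, heN, Category.comp_id]
    have : Sheaf.IsLocallySurjective c := isLocallySurjective_of_lifts c fun T ξ => by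
      obtain ⟨T', k, n, hk, hn⟩ := exists_fppf_lift_of_locallySurjective m (ξ ≫ pullback.fst ν' q)
      obtain ⟨n, rfl⟩ := (yon S).map_surjective n
      obtain ⟨v, hv⟩ := (yon S).map_surjective ((yon S).map k ≫ ξ ≫ pullback.snd ν' q)
      obtain ⟨p, hp1, hp2⟩ := rlift (n ≫ ν₀) v (by
        rw [Functor.map_comp, Category.assoc, ← hmν, reassoc_of% hn, hv, Category.assoc, Category.assoc,
          pullback.condition])
      let r : T' ⟶ A := sA.lift n p hp1.symm
      refine ⟨T', k, (yon S).map (r ≫ sN), hk, pullback.hom_ext ?_ ?_⟩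
      · rw [Category.assoc, Category.assoc, pullback.lift_fst, Functor.map_comp, Category.assoc, ← sqX'.w,
          ← Category.assoc, ← Functor.map_comp, sA.lift_fst, hn]
      · rw [Category.assoc, Category.assoc, pullback.lift_snd, ← Functor.map_comp, Category.assoc, hsν,
          sA.lift_snd_assoc, hp2, hv]
    have : IsIso c := isIso_of_mono_of_locallySurjective c
    exact (IsPullback.of_hasPullback ν' q).of_iso (asIso c).symm (Iso.refl _) (Iso.refl _) (Iso.refl _)
      (by simp [c]) (by simp [c]) (by simp) (by simp)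
  -- the map from the source
  let Φ : ∀ ⦃T : Over S⦄, ((yon S).obj T ⟶ Y) → ((yon S).obj T ⟶ quotSp ((yon S).map sN) ((yon S).map a)) → Prop :=
    fun T z l => ∃ (v : (yon S).obj T ⟶ (yon S).obj U) (hv : z ≫ f = v ≫ q), l = pullback.lift z v hv ≫ fU ≫ m
  obtain ⟨f', hf'⟩ := exists_desc_rel Φ
    (fun T T' j z l ⟨v, hv, hl⟩ => ⟨(yon S).map j ≫ v, by rw [Category.assoc, hv, Category.assoc], by
      rw [hl, ← Category.assoc ((yon S).map j)]
      congr 1
      exact pullback.hom_ext (by simp) (by simp)⟩)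
    (fun T z l l' ⟨v, hv, hl⟩ ⟨v', hv', hl'⟩ => by
      obtain ⟨v₀, hv₀⟩ := (yon S).map_surjective v
      obtain ⟨v₁, hv₁⟩ := (yon S).map_surjective v'
      obtain ⟨p, hp1, hp2⟩ := rlift v₀ v₁ (by rw [hv₀, hv₁, ← hv, ← hv'])
      obtain ⟨x, hx⟩ := (yon S).map_surjective (pullback.lift z v hv ≫ fU)
      let r : T ⟶ A := sA.lift x p ((yon S).map_injective (by
        rw [Functor.map_comp, hx, Category.assoc, hN.1, pullback.lift_snd, hp1, hv₀]))
      have h1 := htr _ z v v' hv hv' ((yon S).map r) (by rw [← Functor.map_comp, sA.lift_fst, hx])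
        (by rw [← Functor.map_comp, ← Functor.map_comp, sA.lift_snd, hp1, hv₀])
        (by rw [← Functor.map_comp, ← Functor.map_comp, sA.lift_snd, hp2, hv₁])
      rw [hl, hl', ← Category.assoc, ← Category.assoc, ← h1, ← hx, Category.assoc, ← sqX'.w,
        ← Functor.map_comp_assoc, sA.lift_fst])
    (fun T z => by
      obtain ⟨k, v, hk, hv⟩ : ∃ (k : hqe.rep.pullback (z ≫ f) ⟶ T) (v : hqe.rep.pullback (z ≫ f) ⟶ U),
          fppf k.left ∧ (yon S).map v ≫ q = (yon S).map k ≫ z ≫ f := by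
        have : Etale (hqe.rep.snd (z ≫ f)).left := hqe.property_snd _
        have : Surjective (hqe.rep.snd (z ≫ f)).left := hqsur.property _ _ _ (hqe.rep.isPullback _)
        exact ⟨hqe.rep.snd (z ≫ f), hqe.rep.fst' (z ≫ f), fppf_of_etale _, (hqe.rep.isPullback' (z ≫ f)).w⟩
      refine ⟨Sieve.generate (Presieve.singleton k),
        mem_J_of_fppf k hk _ ⟨_, 𝟙 _, k, Presieve.singleton_self k, Category.id_comp _⟩, ?_⟩
      rintro T'' _ ⟨_, ψ, _, ⟨⟩, rfl⟩
      exact ⟨_, (yon S).map (ψ ≫ v), by rw [Functor.map_comp, Functor.map_comp, Category.assoc, Category.assoc,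
        Category.assoc, hv], rfl⟩)
  have hfst : fU ≫ m = pullback.fst f q ≫ f' := hom_ext_yon _ _ fun T p => by
    have h2 : (p ≫ pullback.fst f q) ≫ f = (p ≫ pullback.snd f q) ≫ q := by
      rw [Category.assoc, Category.assoc, pullback.condition]
    rw [← Category.assoc p (pullback.fst f q), hf' _ _ ⟨p ≫ pullback.snd f q, h2, rfl⟩]
    congr 1
    exact pullback.hom_ext (by simp) (by simp)
  have hfν : f' ≫ ν' = f := by
    have : Sheaf.IsLocallySurjective (pullback.fst f q) := isLocallySurjective_of_etale_surjective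
      (repWith_fst f hqe) (repWith_fst f hqsur)
    have : Epi (pullback.fst f q) := Sheaf.epi_of_isLocallySurjective _
    rw [← cancel_epi (pullback.fst f q), ← Category.assoc, ← hfst, Category.assoc, hmν, ← Category.assoc, hN.1,
      pullback.condition]
  have hνi : IsIntegralMor ν' := AlgSpPts.descend_chart isLocalOnBase_fpqc_isIntegralMor hX' hX hqe hqsur sqN hN.2.1
  exact ⟨_, ν', f', hX', normOn_of_cover (κ := PUnit) (U := fun _ => U) (q := fun _ => q) hY hX hqc hqs hfν hνi
    (fun _ => hqe) (fun x => ⟨⟨⟩, surjective_ofPt hqsur x⟩) (fun _ => sqP) (fun _ => sqN) (fun _ => hN)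
    (fun _ => hfst)⟩

end Groth.Agent.AlgSpNorm
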