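import Groth.Agent.AlgSpDec.DecentDense
import Groth.Agent.AlgSpDec.LqfSplitShrink
import Groth.Agent.AlgSpLib.LocalBaseTop
import Groth.Agent.AlgSpDec.PointsSpectral
import Groth.Agent.AlgSpDec.LimAffineBase
import Groth.Agent.AlgSpDec.Basic

/-!
# Dense quasi-compact opens over which a chart is finite etale
-/

set_option autoImplicit false
set_option linter.style.haveILetI false
set_option backward.isDefEq.respectTransparency false
set_option backward.isDefEq.respectTransparency.types false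

universe u

open CategoryTheory CategoryTheory.Limits AlgebraicGeometry AlgSp Groth.Agent.AlgSpLib Groth.Agent.AlgSpPts
  Groth.Agent.AlgSpDec TopologicalSpace
open Groth.Agent.EtCount (Lifts)

namespace Groth.Agent.AlgSpNorm

variable {S : Scheme.{u}} {X : Sp S} {U : Over S} {a : (yon S).obj U ⟶ X}

/-- A chart is finite etale over a saturated open on which the geometric fibre count is locally constant. -/
theorem exists_finite_etale_of_locallyConst (hA : IsAlgSpace X) (ha : RepWith @Etale a) [IsAffine U.left]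
    {O : Set (Points X)} (hO : IsOpen O) (hOa : O ⊆ Set.range (Points.ofPt a))
    (hn : ∀ w, Points.ofPt a w ∈ O → ∃ (G : U.left.Opens) (k : ℕ), w ∈ G ∧
      ∀ v ∈ G, ENat.card ↥(MoreMor.geomFiber (ha.rep.snd a).left v) = k) :
    ∃ (X' : Sp S) (j : X' ⟶ X) (V : Over S) (b : (yon S).obj V ⟶ X') (ι' : V ⟶ U), IsAlgSpace X' ∧
      RepWith @IsOpenImmersion j ∧ Set.range (Points.map j) = O ∧ IsOpenImmersion ι'.left ∧
      IsPullback ((yon S).map ι') b a j ∧
      RepWith @IsFinite b ∧ RepWith @Etale b ∧ RepWith @Surjective b := by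
  let s := (ha.rep.snd a).left
  let t := (ha.rep.fst' a).left
  haveI : Etale s := ha.property_snd a
  haveI : IsSeparated s := isSeparated_snd_of_isAffine ha
  obtain ⟨X', j, hX', hj, hrange⟩ := exists_open_subspace hA hO
  let G' : U.left.Opens := ⟨Points.ofPt a ⁻¹' O, hO.preimage (Points.continuous_ofPt a)⟩
  let ι' : Over.mk (G'.ι ≫ U.hom) ⟶ U := Over.homMk G'.ι rfl
  haveI : IsOpenImmersion ι'.left := inferInstanceAs (IsOpenImmersion G'.ι)
  have haι : RepWith @Etale ((yon S).map ι' ≫ a) := repWith_comp ((repWith_yon_map_iff _ ι').2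
    (inferInstanceAs (Etale G'.ι))) ha
  obtain ⟨b, hb⟩ := exists_factor_open hj ((yon S).map ι' ≫ a) (fun v => by
    rw [hrange, ofPt_comp]; exact (v : ↥G'.toScheme).2)
  haveI : Mono j := mono_of_openImmersion hj
  haveI := isIso_diagonal_of_mono j
  have hbe : RepWith @Etale b := repWith_of_postcomp (repWith_of_isIso _ _) (by rw [hb]; exact haι)
  have hinj : Function.Injective (Points.map j) := injective_map
    ⟨hj.rep, fun _ _ g fst snd sq => by
      have : IsOpenImmersion snd.left := hj.property g fst snd sq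
      exact snd.left.isOpenEmbedding.injective⟩
  have hbs : RepWith @Surjective b := repWith_surjective_of_surjective hbe.rep fun p => by
    have hp : Points.map j p ∈ O := by rw [← hrange]; exact ⟨p, rfl⟩
    obtain ⟨g, he⟩ := hOa hp
    refine ⟨Points.ofScheme _ (⟨g, show Points.ofPt a g ∈ O by rw [he]; exact hp⟩ : ↥G'.toScheme), hinj ?_⟩
    rw [← Points.map_comp, hb, ← Points.ofPt_eq_map_ofScheme, ofPt_comp]
    exact he
  have hsat : ∀ r : (s ⁻¹ᵁ G').toScheme, t ((s ⁻¹ᵁ G').ι r) ∈ G' := fun r => by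
    show Points.ofPt a (t r.1) ∈ O
    rw [ofPt_fst_eq_snd ha r.1]
    exact r.2
  let R' : Over S := Over.mk ((s ⁻¹ᵁ G').ι ≫ (ha.rep.pullback a).hom)
  let ιR : R' ⟶ ha.rep.pullback a := Over.homMk (s ⁻¹ᵁ G').ι rfl
  let s' : R' ⟶ Over.mk (G'.ι ≫ U.hom) := Over.homMk (s ∣_ G') (by
    show (s ∣_ G') ≫ G'.ι ≫ U.hom = (s ⁻¹ᵁ G').ι ≫ (ha.rep.pullback a).hom
    rw [morphismRestrict_ι_assoc, Over.w])
  have hrt : Set.range ((s ⁻¹ᵁ G').ι ≫ t) ⊆ Set.range G'.ι := by
    rintro _ ⟨r, rfl⟩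
    rw [Scheme.Opens.range_ι]
    exact hsat r
  let t' : R' ⟶ Over.mk (G'.ι ≫ U.hom) := Over.homMk (IsOpenImmersion.lift G'.ι ((s ⁻¹ᵁ G').ι ≫ t) hrt) (by
    show IsOpenImmersion.lift G'.ι _ hrt ≫ G'.ι ≫ U.hom = _
    rw [IsOpenImmersion.lift_fac_assoc, Category.assoc, Over.w]
    rfl)
  have ht' : t' ≫ ι' = ιR ≫ ha.rep.fst' a := Over.OverMorphism.ext (IsOpenImmersion.lift_fac _ _ _)
  have sq₀ : IsPullback ιR s' (ha.rep.snd a) ι' :=
    IsPullback.of_map (Over.forget S) (Over.OverMorphism.ext (morphismRestrict_ι s G').symm)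
      (isPullback_morphismRestrict s G').flip
  haveI : Mono ((yon S).map ι') :=
    mono_of_openImmersion ((repWith_yon_map_iff _ _).2 (inferInstanceAs (IsOpenImmersion ι'.left)))
  have sq₁ : IsPullback ((yon S).map t' ≫ (yon S).map ι') ((yon S).map s') a (b ≫ j) := by
    rw [hb, ← Functor.map_comp, ht', Functor.map_comp]
    exact (sq₀.map (yon S)).paste_horiz (ha.rep.isPullback' a)
  have sqb : IsPullback ((yon S).map t') ((yon S).map s') b b :=
    isPullback_of_mono ((cancel_mono j).1 (by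
      rw [Category.assoc, Category.assoc, hb, ← Functor.map_comp_assoc, ← Functor.map_comp_assoc, ht', ← sq₀.w,
        Functor.map_comp_assoc, Functor.map_comp_assoc, (ha.rep.isPullback' a).w]))
      hb sq₁
  haveI hfin' : IsFinite (s ∣_ G') := by
    have hloc : ∀ v : G'.toScheme, ∃ (W : G'.toScheme.Opens), v ∈ W ∧ IsFinite ((s ∣_ G') ∣_ W) := fun v => by
      obtain ⟨G, k, hv, hG⟩ := hn _ v.2
      have hcard : ∀ w : (G'.ι ⁻¹ᵁ G).toScheme,
          ENat.card ↥(MoreMor.geomFiber ((s ∣_ G') ∣_ (G'.ι ⁻¹ᵁ G)) w) = k := fun w => by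
        rw [card_geomFiber_restrict, card_geomFiber_restrict]
        exact hG _ w.2
      haveI : QuasiCompact ((s ∣_ G') ∣_ (G'.ι ⁻¹ᵁ G)) := quasiCompact_of_card_eq _ _ hcard
      exact ⟨_, hv, EtCount.isFinite_of_card_eq _ _ hcard⟩
    choose W hW hWf using hloc
    exact IsZariskiLocalAtTarget.of_iSup_eq_top W (top_le_iff.1 fun v _ => Opens.mem_iSup.2 ⟨v, hW v⟩) hWf
  have hbfin : RepWith @IsFinite b := by
    haveI := EtFound.fpqc_isFinite
    exact repWith_of_etale_cover (fun _ _ e (_ : IsFinite e) => inferInstanceAs (IsAffineHom e)) hbe hbs sqb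
      ((repWith_yon_map_iff _ _).2 hfin')
  refine ⟨X', j, _, b, ι', hX', hj, hrange, inferInstance, ?_, hbfin, hbe, hbs⟩
  let P := hj.rep.pullback a
  have sqP : IsPullback (hj.rep.fst a) ((yon S).map (hj.rep.snd a)) j a := hj.rep.isPullback a
  let p : P ⟶ U := hj.rep.snd a
  have : IsOpenImmersion p.left := hj.property_snd a
  obtain ⟨l, hl₁, hl₂⟩ := sqP.exists_lift b ((yon S).map ι') hb
  obtain ⟨l, rfl⟩ := (yon S).map_surjective l
  have hl : l ≫ p = ι' := (yon S).map_injective (by rw [Functor.map_comp, hl₂])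
  have hrP : Set.range p.left ⊆ Set.range ι'.left := by
    rintro _ ⟨z, rfl⟩
    refine ⟨⟨p.left z, ?_⟩, rfl⟩
    show Points.ofPt a (p.left z) ∈ O
    rw [← ofPt_comp, ← sqP.w, ← Points.map_ofPt, ← hrange]
    exact ⟨_, rfl⟩
  obtain ⟨k, hk⟩ := exists_factor_openImm ι' p fun z => hrP ⟨z, rfl⟩
  have : Mono p := (Over.forget S).mono_of_mono_map (inferInstanceAs (Mono p.left))
  have : Mono ι' := (Over.forget S).mono_of_mono_map (inferInstanceAs (Mono ι'.left))
  let e : Over.mk (G'.ι ≫ U.hom) ≅ P := ⟨l, k, (cancel_mono ι').1 (by rw [Category.assoc, hk, hl, Category.id_comp]),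
    (cancel_mono p).1 (by rw [Category.assoc, hl, hk, Category.id_comp])⟩
  refine (sqP.flip.of_iso ((yon S).mapIso e.symm) (Iso.refl _) (Iso.refl _) (Iso.refl _) ?_ ?_ (by simp) (by simp))
  · rw [Iso.refl_hom, Category.comp_id, Functor.mapIso_hom, ← Functor.map_comp]
    exact congrArg (yon S).map hk.symm
  · rw [Iso.refl_hom, Category.comp_id, ← cancel_mono j, Category.assoc, hb, sqP.w, Functor.mapIso_hom,
      ← Functor.map_comp_assoc]
    exact congrArg (fun m => (yon S).map m ≫ a) hk.symm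

/-- An open set on which a chart has bounded fibre count contains one on which the count is constant. -/
theorem exists_open_const (n : ↥U.left → ℕ∞) (hn : ∀ k : ℕ, IsOpen {w | (k : ℕ∞) ≤ n w}) :
    ∀ (m : ℕ) (G₀ : Set ↥U.left), IsOpen G₀ → G₀.Nonempty → (∀ w ∈ G₀, n w ≤ m) →
      ∃ (G : Set ↥U.left) (k : ℕ), IsOpen G ∧ G.Nonempty ∧ G ⊆ G₀ ∧ ∀ w ∈ G, n w = k := by
  intro m
  induction m with
  | zero => exact fun G₀ h1 h2 h3 => ⟨G₀, 0, h1, h2, subset_rfl, fun w hw => le_antisymm (h3 w hw) bot_le⟩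
  | succ m ih =>
    intro G₀ h1 h2 h3
    by_cases hw : ∃ w ∈ G₀, ((m + 1 : ℕ) : ℕ∞) ≤ n w
    · obtain ⟨w, hw1, hw2⟩ := hw
      exact ⟨G₀ ∩ {w | ((m + 1 : ℕ) : ℕ∞) ≤ n w}, m + 1, h1.inter (hn _), ⟨w, hw1, hw2⟩, Set.inter_subset_left,
        fun v hv => le_antisymm (h3 v hv.1) hv.2⟩
    · push_neg at hw
      refine ih G₀ h1 h2 fun v hv => ?_
      obtain ⟨k, hk⟩ := ENat.ne_top_iff_exists.1 (ne_top_of_lt (hw v hv))
      have := hw v hv
      rw [← hk] at this ⊢
      have hlt : k < m + 1 := by exact_mod_cast this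
      exact_mod_cast (by omega : k ≤ m)

/-- A space with finitely many components has a dense quasi-compact open over which a given affine chart is
finite etale. -/
theorem exists_dense_finite_open (hA : IsAlgSpace X) (hd : IsDecent X)
    (hirr : (irreducibleComponents (Points X)).Finite) (ha : RepWith @Etale a) (has : RepWith @Surjective a)
    [IsAffine U.left] :
    ∃ (X' : Sp S) (j : X' ⟶ X) (V : Over S) (b : (yon S).obj V ⟶ X') (ι' : V ⟶ U), IsAlgSpace X' ∧
      RepWith @IsOpenImmersion j ∧ Dense (Set.range (Points.map j)) ∧ IsQuasiCompactSp X' ∧ CompactSpace ↥V.left ∧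
      IsPullback ((yon S).map ι') b a j ∧
      RepWith @IsFinite b ∧ RepWith @Etale b ∧ RepWith @Surjective b := by
  classical
  obtain ⟨s, hs⟩ : ∃ s, s = (ha.rep.snd a).left := ⟨_, rfl⟩
  haveI : Etale s := by rw [hs]; exact ha.property_snd a
  haveI : IsSeparated s := by rw [hs]; exact isSeparated_snd_of_isAffine ha
  let n : U.left → ℕ∞ := fun w => ENat.card ↥(MoreMor.geomFiber s w)
  have hfin : ∀ w, ∃ m : ℕ, n w ≤ m := fun w => by
    haveI := finite_geomFiber_of_finite_preimage s (by rw [hs]; exact finite_preimage_snd hd ha w)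
    exact ⟨Nat.card ↥(MoreMor.geomFiber s w), (ENat.card_eq_coe_natCard _).le⟩
  have hclosed : ∀ m : ℕ, IsClosed {w | n w ≤ m} := fun m => by
    have hh := (EtCount.isOpen_le_card (m + 1) s).isClosed_compl
    convert hh using 1
    ext w
    simp [n, ENat.add_one_le_iff]
  have hA' : ∀ Z : irreducibleComponents (Points X), ∃ (A : U.left.Opens) (k : ℕ), IsAffineOpen A ∧
      (∀ w ∈ A, n w = k) ∧ (A : Set ↥U.left).Nonempty ∧ Points.ofPt a '' A ⊆ Z.1 := fun Z => by
    let C : Set (Points X) := ⋃ W ∈ hirr.toFinset.erase Z.1, W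
    have hC : IsClosed C := isClosed_biUnion_finset fun W hW =>
      isClosed_of_mem_irreducibleComponents W (hirr.mem_toFinset.1 (Finset.mem_of_mem_erase hW))
    have hCZ : ¬ Z.1 ⊆ C := fun h => by
      obtain ⟨W, hW, hZW⟩ := isIrreducible_iff_sUnion_isClosed.1 Z.2.1 (hirr.toFinset.erase Z.1)
        (fun W hW => isClosed_of_mem_irreducibleComponents W (hirr.mem_toFinset.1 (Finset.mem_of_mem_erase hW)))
        (by rw [Set.sUnion_eq_biUnion]; exact h)
      exact Finset.ne_of_mem_erase hW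
        (Z.2.eq_of_ge (hirr.mem_toFinset.1 (Finset.mem_of_mem_erase hW)).1 hZW)
    have hsub : Cᶜ ⊆ Z.1 := fun x hx => by
      by_contra hxZ
      exact hx (Set.mem_biUnion (Finset.mem_erase.2 ⟨fun e => hxZ (e ▸ mem_irreducibleComponent),
        hirr.mem_toFinset.2 (irreducibleComponent_mem_irreducibleComponents x)⟩) mem_irreducibleComponent)
    obtain ⟨z, hz, hzC⟩ := Set.not_subset.1 hCZ
    obtain ⟨u, rfl⟩ := surjective_ofPt has z
    obtain ⟨m, G₀, hG₀, hG₀ne, hG₀O, hG₀m⟩ := exists_interior_of_iUnion_closed_scheme (fun m : ℕ => {w | n w ≤ m})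
      hclosed hfin (hC.isOpen_compl.preimage (Points.continuous_ofPt a)) ⟨u, hzC⟩
    obtain ⟨G, k, hG, ⟨g, hg⟩, hGG, hGk⟩ := exists_open_const n (fun k => EtCount.isOpen_le_card k s) m G₀ hG₀
      hG₀ne fun w hw => hG₀m hw
    obtain ⟨A, hA, hgA, hAG⟩ := exists_isAffineOpen_mem_and_subset (U := (⟨G, hG⟩ : U.left.Opens)) hg
    exact ⟨A, k, hA, fun w hw => hGk w (hAG hw), ⟨g, hgA⟩,
      (Set.image_mono (fun w hw => hG₀O (hGG (hAG hw)))).trans
        ((Set.image_preimage_subset _ _).trans hsub)⟩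
  choose A k hAaff hAn hAne hAZ using hA'
  haveI : Fintype (irreducibleComponents (Points X)) := hirr.fintype
  let O : Set (Points X) := ⋃ Z, Points.ofPt a '' (A Z : Set ↥U.left)
  have hO : IsOpen O := isOpen_iUnion fun Z => isOpenMap_ofPt ha _ (A Z).2
  obtain ⟨X', j, V, b, ι', hX', hj, hrange, -, sq, hbf, hbe, hbs⟩ :=
    exists_finite_etale_of_locallyConst hA ha hO (fun x _ => surjective_ofPt has x) fun w hw => by
      obtain ⟨Z, v, hv, hvw⟩ := Set.mem_iUnion.1 hw
      refine ⟨⟨Points.ofPt a ⁻¹' (Points.ofPt a '' (A Z : Set ↥U.left)),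
        (isOpenMap_ofPt ha _ (A Z).2).preimage (Points.continuous_ofPt a)⟩, k Z, ⟨v, hv, hvw⟩, ?_⟩
      rintro w' ⟨g, hg, he⟩
      obtain ⟨r, hr₁, hr₂⟩ := exists_ofPt_of_eq (ha.rep.isPullback' a) he
      rw [← hAn Z g hg, ← hr₂, ← hr₁]
      subst hs
      exact card_geomFiber_snd_invariant ha r
  have hdense : Dense (Set.range (Points.map j)) := by
    rw [hrange]
    intro x
    let Z : irreducibleComponents (Points X) := ⟨_, irreducibleComponent_mem_irreducibleComponents x⟩
    have h1 : (Points.ofPt a '' (A Z : Set ↥U.left)).Nonempty := (hAne Z).image _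
    have h2 : Z.1 ⊆ closure (Z.1 ∩ Points.ofPt a '' (A Z : Set ↥U.left)) :=
      subset_closure_inter_of_isPreirreducible_of_isOpen Z.2.1.2 (isOpenMap_ofPt ha _ (A Z).2)
        (h1.mono fun y hy => ⟨hAZ Z hy, hy⟩)
    exact closure_mono (fun y hy => Set.mem_iUnion.2 ⟨Z, hy.2⟩) (h2 mem_irreducibleComponent)
  have hOc : IsCompact O := isCompact_iUnion fun Z =>
    (hAaff Z).isCompact.image (Points.continuous_ofPt a)
  haveI : CompactSpace (Points X') := ⟨(isOpenEmbedding_map' hA hj).isEmbedding.isInducing.isCompact_iff.2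
    (by rw [Set.image_univ, hrange]; exact hOc)⟩
  have hqc : IsQuasiCompactSp X' := isQuasiCompactSp_of_compactSpace hX'
  have hbqc : IsQuasiCompactMor b := AlgSpPts.isQuasiCompactMor_of_repWith
    (repWith_mono (fun _ _ g (_ : IsFinite g) => (inferInstance : QuasiCompact g)) _ hbf)
  exact ⟨X', j, V, b, ι', hX', hj, hdense, hqc,
    (isQuasiCompactSp_yon_iff V).1 (isQuasiCompactSp_of_mor hX' hbqc hqc), sq, hbf, hbe, hbs⟩

end Groth.Agent.AlgSpNorm
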