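import Groth.Agent.AlgSpNorm.Exists
import Groth.Agent.AlgSpLib.EtaleSmoothLocal

/-!
# Every normalization is compatible with smooth base change
-/

set_option autoImplicit false
set_option backward.isDefEq.respectTransparency false
set_option backward.isDefEq.respectTransparency.types false

universe u

open CategoryTheory CategoryTheory.Limits AlgebraicGeometry Opposite AlgSp Groth.Agent.AlgSpLib
  Groth.Agent.AlgSpDec

namespace Groth.Agent.AlgSpNorm

variable {S : Scheme.{u}} {X Y X' : Sp S} {f : Y ⟶ X} {ν : X' ⟶ X} {f' : Y ⟶ X'}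

theorem normOn_of_isRelNormalization (hY : IsAlgSpace Y) (hX : IsAlgSpace X) (hqc : IsQuasiCompactMor f)
    (hqs : IsQuasiSeparatedMor f) (hn : IsRelNormalization f ν f') : NormOn f ν f' := by
  obtain ⟨Z, ν', g, hZ, hon⟩ := exists_normOn hY hX hqc hqs
  have hX' : IsAlgSpace X' := isAlgSpace_of_isIntegralMor hn.2.1 hX
  obtain ⟨e, he1, he2⟩ := exists_iso_of_isRelNormalization hX' hZ hn (isRelNormalization_of_normOn hon hX)
  exact normOn_of_iso (Iso.refl _) e (Iso.refl _) hX hX (by simp) (by simp [he2]) (by simp [he1]) hon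

/-- Normalization commutes with smooth base change. -/
theorem isRelNormalization_of_isPullback (hY : IsAlgSpace Y) (hX : IsAlgSpace X) (hqc : IsQuasiCompactMor f)
    (hqs : IsQuasiSeparatedMor f) (hn : IsRelNormalization f ν f') {X₂ Y₂ P : Sp S} (hX₂ : IsAlgSpace X₂)
    {φ : X₂ ⟶ X} (hφ : LocP @Smooth φ) {ψ : Y₂ ⟶ Y} {f₂ : Y₂ ⟶ X₂} (sq : IsPullback ψ f₂ f φ)
    {ρ : P ⟶ X'} {ν₂ : P ⟶ X₂} (sqP : IsPullback ρ ν₂ ν φ) {f₂' : Y₂ ⟶ P} (w₁ : f₂' ≫ ν₂ = f₂)
    (w₂ : f₂' ≫ ρ = ψ ≫ f') : IsRelNormalization f₂ ν₂ f₂' :=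
  isRelNormalization_of_normOn
    (normOn_of_isPullback (normOn_of_isRelNormalization hY hX hqc hqs hn) hX hX₂ hφ sq sqP w₁ w₂) hX₂

end Groth.Agent.AlgSpNorm
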