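import Groth.Agent.AlgSpNorm.SepCover
import Groth.Agent.AlgSpNorm.FinOpen
import Groth.Agent.AlgSpNorm.Main
import Groth.Agent.AlgSpPts.Univ

/-!
# Integral coverings by schemes, finite etale over a dense open
-/

set_option autoImplicit false
set_option backward.isDefEq.respectTransparency false
set_option backward.isDefEq.respectTransparency.types false

universe u

open CategoryTheory CategoryTheory.Limits AlgebraicGeometry Opposite AlgSp Groth.Agent.AlgSpLib
  Groth.Agent.AlgSpDec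

namespace Groth.Agent.AlgSpNorm

variable {S : Scheme.{u}}

theorem exists_finite_cover [QuasiSeparatedSpace ↥S] {X : Sp S} (hX : IsAlgSpace X) (hqc : IsQuasiCompactSp X)
    (hqs : IsQuasiSeparatedSp X) (hirr : (irreducibleComponents (Points X)).Finite)
    {U : Over S} (b : (yon S).obj U ⟶ X) (hb : RepWith @Etale b) (hbs : RepWith @Surjective b) :
    ∃ (Y : Over S) (g : (yon S).obj Y ⟶ X) (X' : Sp S) (j : X' ⟶ X),
      RepWith @IsIntegralHom g ∧ RepWith @Surjective g ∧ IsAlgSpace X' ∧ RepWith @IsOpenImmersion j ∧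
      IsQuasiCompactSp X' ∧ Dense (Set.range (Points.map j)) ∧
      (∀ (P : Sp S) (fst : P ⟶ (yon S).obj Y) (snd : P ⟶ X'), IsPullback fst snd g j →
        RepWith @IsFinite snd ∧ RepWith @Etale snd) ∧
      ∀ y : ↥Y.left, ∃ (W : Y.left.Opens) (c : Over.mk (W.ι ≫ Y.hom) ⟶ U), y ∈ W ∧
        (yon S).map c ≫ b = (yon S).map (Over.homMk W.ι rfl : Over.mk (W.ι ≫ Y.hom) ⟶ Y) ≫ g := by
  obtain ⟨U₀, a₀, hU₀, ha₀, ha₀s⟩ := (Groth.Agent.S10180.result ⟨X, hX⟩).1 hqc
  let V₁ := hb.rep.pullback a₀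
  obtain ⟨v₁, hv₁⟩ : ∃ v : V₁ ⟶ U₀, v = hb.rep.snd a₀ := ⟨_, rfl⟩
  have : Etale v₁.left := by rw [hv₁]; exact hb.property_snd a₀
  have : Surjective v₁.left := by rw [hv₁]; exact hbs.property _ _ _ (hb.rep.isPullback a₀)
  obtain ⟨U₁, w₁, hU₁, hw₁, hw₁s⟩ := exists_affine_refinement_etale v₁
  obtain ⟨q, hq⟩ : ∃ q : (yon S).obj U₁ ⟶ X, q = (yon S).map (w₁ ≫ v₁) ≫ a₀ := ⟨_, rfl⟩
  have hqe : RepWith @Etale q := by
    rw [hq]; exact repWith_comp ((repWith_yon_map_iff _ _).2 (show Etale (w₁.left ≫ v₁.left) by infer_instance)) ha₀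
  have hqsur : RepWith @Surjective q := by
    rw [hq]; exact repWith_comp ((repWith_yon_map_iff _ _).2 hw₁s) ha₀s
  have hc₁ : (yon S).map (w₁ ≫ hb.rep.fst' a₀) ≫ b = q := by
    rw [hq, hv₁, Functor.map_comp, Functor.map_comp, Category.assoc, Category.assoc, (hb.rep.isPullback' a₀).w]
  obtain ⟨X', j, V₀, b₀, ι', hX', hj, hdense, hX'qc, hV₀c, sq, hbf, hbe, hb₀s⟩ :=
    exists_dense_finite_open hX (isDecent_of_isQuasiSeparatedSp hX hqs) hirr hqe hqsur
  -- the splitting cover of the chart over the open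
  obtain ⟨t₀, ht₀⟩ : ∃ h : hbe.rep.pullback b₀ ⟶ V₀, h = hbe.rep.snd b₀ := ⟨_, rfl⟩
  obtain ⟨r₀, hr₀⟩ : ∃ h : hbe.rep.pullback b₀ ⟶ V₀, h = hbe.rep.fst' b₀ := ⟨_, rfl⟩
  have sqR : IsPullback ((yon S).map r₀) ((yon S).map t₀) b₀ b₀ := by
    rw [hr₀, ht₀]; exact hbe.rep.isPullback' b₀
  have : Etale t₀.left := (repWith_yon_map_iff @Etale t₀).1 (repWith_of_isPullback sqR hbe)
  have : IsFinite t₀.left := (repWith_yon_map_iff @IsFinite t₀).1 (repWith_of_isPullback sqR hbf)
  obtain ⟨B', β, hβf, hβe, hβs, hsplit⟩ := exists_split t₀.left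
  let W : Over S := Over.mk (β ≫ V₀.hom)
  let w : W ⟶ V₀ := Over.homMk β rfl
  have hwf : RepWith @IsFinite ((yon S).map w) := (repWith_yon_map_iff _ w).2 hβf
  have hwe : RepWith @Etale ((yon S).map w) := (repWith_yon_map_iff _ w).2 hβe
  have hws : RepWith @Surjective ((yon S).map w) := (repWith_yon_map_iff _ w).2 hβs
  have : CompactSpace ↥W.left := QuasiCompact.compactSpace_of_compactSpace β
  obtain ⟨f₀, hf₀⟩ : ∃ f₀ : (yon S).obj W ⟶ X', f₀ = (yon S).map w ≫ b₀ := ⟨_, rfl⟩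
  have hf₀f : RepWith @IsFinite f₀ := by rw [hf₀]; exact repWith_comp hwf hbf
  have hf₀e : RepWith @Etale f₀ := by rw [hf₀]; exact repWith_comp hwe hbe
  have hf₀s : RepWith @Surjective f₀ := by rw [hf₀]; exact repWith_comp hws hb₀s
  have hmono : Mono j := mono_of_openImmersion hj
  have hfsep : IsSeparatedMor (f₀ ≫ j) := AlgSpPts.isSeparatedMor_comp (isSeparatedMor_of_repWith_affine
    (repWith_mono (fun _ _ g (_ : IsFinite g) => (inferInstance : IsAffineHom g)) _ hf₀f)) (isSeparatedMor_of_mono j)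
  have hfqc : IsQuasiCompactMor (f₀ ≫ j) := Groth.Agent.S9920.result (X := ⟨_, IsAlgSpace.yon_obj W⟩) (Y := ⟨X, hX⟩)
    (ObjectProperty.homMk (f₀ ≫ j)) ((AlgSpPts.isQuasiCompactSp_yon_iff W).2 inferInstance) hqs
  have hsep : ∀ {VU : Over S} (t : VU ⟶ U₁) (τ : VU ⟶ W),
      IsPullback ((yon S).map t) ((yon S).map τ) q (f₀ ≫ j) → ClopenSep τ.left := fun {VU} t τ sqV => by
    obtain ⟨s, hs₁, hs₂⟩ := sq.exists_lift ((yon S).map t) ((yon S).map τ ≫ f₀)
      (by rw [sqV.w, Category.assoc])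
    obtain ⟨s, rfl⟩ := (yon S).map_surjective s
    obtain ⟨r, hr₁, hr₂⟩ := sqR.exists_lift ((yon S).map s) ((yon S).map (τ ≫ w))
      (by rw [hs₂, hf₀, Functor.map_comp, Category.assoc])
    obtain ⟨r, rfl⟩ := (yon S).map_surjective r
    have e₁ : r ≫ r₀ = s := (yon S).map_injective (by rw [Functor.map_comp, hr₁])
    have e₂ : r ≫ t₀ = τ ≫ w := (yon S).map_injective (by rw [Functor.map_comp, hr₂])
    have e₃ : s ≫ ι' = t := (yon S).map_injective (by rw [Functor.map_comp, hs₁])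
    let m : VU.left ⟶ pullback t₀.left β := pullback.lift r.left τ.left (congrArg (fun x => x.left) e₂)
    intro L _ a a' haa hC
    have hm : a ≫ m = a' ≫ m := hsplit L _ _ (by simp only [m, Category.assoc, pullback.lift_snd, haa]) fun C hC' => by
      rw [Scheme.Hom.comp_apply, Scheme.Hom.comp_apply]
      exact hC _ (hC'.preimage m.continuous)
    have hr : a ≫ r.left = a' ≫ r.left := by
      have := congrArg (· ≫ pullback.fst t₀.left β) hm
      simpa only [m, Category.assoc, pullback.lift_fst] using this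
    have ht : a ≫ t.left = a' ≫ t.left := by
      rw [← e₃, ← e₁, Over.comp_left, Over.comp_left, Category.assoc, reassoc_of% hr]
    have hstr : a' ≫ VU.hom = a ≫ VU.hom := by
      rw [← Over.w τ, ← Category.assoc, ← haa, Category.assoc]
    let T : Over S := Over.mk (a ≫ VU.hom)
    let A : T ⟶ VU := Over.homMk a rfl
    let A' : T ⟶ VU := Over.homMk a' hstr
    have : A = A' := (yon S).map_injective (sqV.hom_ext
      (by rw [← Functor.map_comp, ← Functor.map_comp]; exact congrArg _ (Over.OverMorphism.ext ht))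
      (by rw [← Functor.map_comp, ← Functor.map_comp]; exact congrArg _ (Over.OverMorphism.ext haa)))
    exact congrArg (fun x => x.left) this
  obtain ⟨Y, ν, g, hon, hloc⟩ := exists_scheme_normalization hX hqs hqe hqsur (f₀ ≫ j) hfsep hfqc hsep
  have hν := isIntegralMor_iff_repWith.1 hon.2.1
  have hsur : RepWith @Surjective ν := repWith_surjective_of_surjective hν.rep fun x => by
    have hcl : IsClosed (Set.range (Points.map ν)) := (AlgSpPts.isClosedMap_map (repWith_mono
      (fun _ _ g (_ : IsIntegralHom g) => (inferInstance : UniversallyClosed g)) _ hν)).isClosed_range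
    have hsub : Set.range (Points.map j) ⊆ Set.range (Points.map ν) := by
      rintro _ ⟨p, rfl⟩
      obtain ⟨p₀, rfl⟩ := surjective_map_of_repWith hf₀s p
      exact ⟨Points.map g p₀, by rw [← Points.map_comp, hon.1, Points.map_comp]⟩
    exact hcl.closure_eq.subset ((hdense.mono hsub) x)
  refine ⟨Y, ν, X', j, hν, hsur, hX', hj, hX'qc, hdense, fun P fst snd sqP => ?_, fun y => ?_⟩
  · have hjs : LocP @Smooth j := locP_of_repWith (repWith_mono
      (fun _ _ g (_ : IsOpenImmersion g) => (inferInstance : Smooth g)) _ hj)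
    have sq' : IsPullback (𝟙 ((yon S).obj W)) f₀ (f₀ ≫ j) j := by
      refine IsPullback.of_isLimit' ⟨by simp⟩ (PullbackCone.IsLimit.mk _ (fun s => s.fst) (fun s => Category.comp_id _)
        (fun s => (cancel_mono j).1 (by rw [Category.assoc]; exact s.condition)) fun s m h₁ _ => by
          simpa using h₁)
    obtain ⟨g', hg'₁, hg'₂⟩ := sqP.exists_lift g f₀ hon.1
    have hP : IsAlgSpace P := isAlgSpace_of_isPullback sqP (IsAlgSpace.yon_obj Y) hX' hX
    have hn := isRelNormalization_of_normOn (normOn_of_isPullback hon hX hX' hjs sq' sqP hg'₂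
      (by rw [hg'₁, Category.id_comp])) hX'
    have hf₀i : IsIntegralMor f₀ := isIntegralMor_iff_repWith.2
      (repWith_mono (fun _ _ g (_ : IsFinite g) => (inferInstance : IsIntegralHom g)) _ hf₀f)
    have hn' : IsRelNormalization f₀ f₀ (𝟙 ((yon S).obj W)) :=
      ⟨Category.id_comp _, hf₀i, fun Z _ πZ h _ hh => ⟨h, ⟨Category.id_comp _, hh⟩, fun k hk => by simpa using hk.1⟩⟩
    obtain ⟨e, -, he⟩ := exists_iso_of_isRelNormalization (IsAlgSpace.yon_obj W) hP hn' hn
    have hsnd : snd = e.inv ≫ f₀ := by rw [← he, Iso.inv_hom_id_assoc]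
    rw [hsnd]
    exact ⟨repWith_comp (repWith_of_isIso _ _) hf₀f, repWith_comp (repWith_of_isIso _ _) hf₀e⟩
  · obtain ⟨W', c, hy, hc⟩ := hloc y
    exact ⟨W', c ≫ w₁ ≫ hb.rep.fst' a₀, hy, by rw [Functor.map_comp, Category.assoc, hc₁, hc]⟩

end Groth.Agent.AlgSpNorm
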