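import Groth.Agent.AlgSpNorm.Local
import Groth.Agent.AlgSpPts.Sep
import Groth.Agent.AlgSpLib.EtLocalInst

/-!
# Normalizations compatible with smooth base change
-/

set_option autoImplicit false
set_option backward.isDefEq.respectTransparency false
set_option backward.isDefEq.respectTransparency.types false

universe u

open CategoryTheory CategoryTheory.Limits AlgebraicGeometry Opposite AlgSp Groth.Agent.AlgSpLib
  Groth.Agent.AlgSpDec Groth.Agent.AlgSpVal

namespace Groth.Agent.AlgSpNorm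

variable {S : Scheme.{u}}

/-- A factorisation is the normalization on every affine scheme smooth over the target. -/
def NormOn {P G N : Sp S} (π : P ⟶ G) (ν : N ⟶ G) (f' : P ⟶ N) : Prop :=
  f' ≫ ν = π ∧ IsIntegralMor ν ∧ ∀ ⦃W : Over S⦄, IsAffine W.left → ∀ (c : (yon S).obj W ⟶ G), LocP @Smooth c →
    ∀ {P' N' : Sp S} (pst : P' ⟶ P) (π' : P' ⟶ (yon S).obj W) (nst : N' ⟶ N) (ν' : N' ⟶ (yon S).obj W),
      IsPullback pst π' π c → IsPullback nst ν' ν c →
      ∀ f'' : P' ⟶ N', f'' ≫ ν' = π' → f'' ≫ nst = pst ≫ f' → IsRelNormalization π' ν' f''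

theorem smooth_left {U V : Over S} {k : U ⟶ V} (h : LocP @Smooth ((yon S).map k)) : Smooth k.left :=
  h (𝟙 _) (𝟙 _) k (repWith_id _ U) (repWith_id _ V) (by simp)

theorem locP_smooth_yon {U V : Over S} (k : U ⟶ V) [Smooth k.left] : LocP @Smooth ((yon S).map k) :=
  locP_of_repWith ((repWith_yon_map_iff @Smooth k).2 ‹_›)

theorem locP_smooth_of_etale {F G : Sp S} {f : F ⟶ G} (hf : RepWith @Etale f) : LocP @Smooth f :=
  locP_mono (P := @Etale) (fun _ _ g (_ : Etale g) => inferInstanceAs (Smooth g)) (locP_of_repWith hf)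

/-- Over an affine scheme the normalization exists and commutes with smooth base change. -/
theorem exists_normOn_affine {T : Over S} [IsAffine T.left] {P : Sp S} (hP : IsAlgSpace P)
    (π : P ⟶ (yon S).obj T) (hqc : IsQuasiCompactMor π) (hqs : IsQuasiSeparatedMor π) :
    ∃ (N : Over S) (ν : (yon S).obj N ⟶ (yon S).obj T) (f' : P ⟶ (yon S).obj N),
      IsRelNormalization π ν f' ∧ NormOn π ν f' := by
  obtain ⟨A, str, ⟨eT⟩⟩ := exists_spec_iso T
  let E : (yon S).obj (Over.mk str) ≅ (yon S).obj T := (yon S).mapIso eT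
  have sqE : IsPullback (𝟙 P) (π ≫ E.inv) π E.hom := IsPullback.of_horiz_isIso ⟨by simp⟩
  obtain ⟨p⟩ := nonempty_pres hP (π ≫ E.inv) (AlgSpPts.isQuasiCompactMor_of_isPullback sqE hqc)
    (AlgSpPts.isQuasiSeparatedMor_of_isPullback sqE hqs)
  obtain ⟨B, b, f', hn, hbc⟩ := exists_normalization p
  refine ⟨_, (yon S).map (specToBase b) ≫ E.hom, f', isRelNormalization_of_iso (Iso.refl _) (Iso.refl _) E.symm
    (by simp) (by simp) (by simp) hn, ⟨by rw [reassoc_of% hn.1]; simp, isIntegralMor_comp hn.2.1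
      (isIntegralMor_of_isIso _), fun W hW c hc P' N' pst π' nst ν' sqP sqN f'' hf1 hf2 => ?_⟩⟩
  obtain ⟨A', strW, ⟨eW⟩⟩ := exists_spec_iso W
  obtain ⟨k, hk⟩ := (yon S).map_surjective ((yon S).map eW.hom ≫ c ≫ E.inv)
  obtain ⟨φ, hφ⟩ : ∃ φ : A ⟶ A', Spec.map φ = k.left := ⟨_, Spec.map_preimage _⟩
  have hstr : Spec.map φ ≫ str = strW := hφ ▸ Over.w k
  subst hstr
  have hkφ : k = specToBase φ := Over.OverMorphism.ext hφ.symm
  subst hkφ
  have hsm : φ.hom.Smooth := by
    obtain ⟨c₀, rfl⟩ := (yon S).map_surjective c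
    have := smooth_left hc
    have h1 : specToBase φ = eW.hom ≫ c₀ ≫ eT.inv := (yon S).map_injective (by
      rw [hk, Functor.map_comp, Functor.map_comp]; rfl)
    have h2 : Smooth (specToBase (str := str) φ).left := by
      rw [h1, Over.comp_left, Over.comp_left]
      have : IsIso eW.hom.left := inferInstanceAs (IsIso ((Over.forget S).map eW.hom))
      have : IsIso eT.inv.left := inferInstanceAs (IsIso ((Over.forget S).map eT.inv))
      infer_instance
    exact (HasRingHomProperty.Spec_iff (P := @Smooth)).1 h2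
  let EW : (yon S).obj (Over.mk (Spec.map φ ≫ str)) ≅ (yon S).obj W := (yon S).mapIso eW
  have sqP' : IsPullback pst (π' ≫ EW.inv) (π ≫ E.inv) ((yon S).map (specToBase φ)) := by
    refine sqP.of_iso (Iso.refl _) (Iso.refl _) EW.symm E.symm (by simp) (by simp) (by simp) ?_
    simp only [EW, E, Iso.symm_hom, hk, Functor.mapIso_inv, Iso.map_inv_hom_id_assoc]
  have sqN' : IsPullback nst (ν' ≫ EW.inv) ((yon S).map (specToBase b)) ((yon S).map (specToBase φ)) := by
    refine sqN.of_iso (Iso.refl _) (Iso.refl _) EW.symm E.symm (by simp) (by simp) (by simp) ?_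
    simp only [EW, E, Iso.symm_hom, hk, Functor.mapIso_inv, Iso.map_inv_hom_id_assoc]
  have := hbc A' φ hsm (π' ≫ EW.inv) pst (ν' ≫ EW.inv) nst sqP' sqN' f'' (by rw [reassoc_of% hf1]) hf2
  exact isRelNormalization_of_iso (Iso.refl _) (Iso.refl _) EW.symm (by simp) (by simp) (by simp) this

variable {P G N : Sp S} {π : P ⟶ G} {ν : N ⟶ G} {f' : P ⟶ N}

/-- `NormOn` is stable under smooth base change. -/
theorem normOn_of_isPullback (h : NormOn π ν f') (hG : IsAlgSpace G) {G' P' N' : Sp S} (hG' : IsAlgSpace G')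
    {φ : G' ⟶ G} (hφ : LocP @Smooth φ) {pst : P' ⟶ P} {π' : P' ⟶ G'} {nst : N' ⟶ N} {ν' : N' ⟶ G'}
    (sqP : IsPullback pst π' π φ) (sqN : IsPullback nst ν' ν φ) {f'' : P' ⟶ N'}
    (h1 : f'' ≫ ν' = π') (h2 : f'' ≫ nst = pst ≫ f') : NormOn π' ν' f'' := by
  refine ⟨h1, isIntegralMor_of_isPullback sqN h.2.1, fun W hW c hc P'' N'' p2 π'' n2 ν'' sqP2 sqN2 g hg1 hg2 => ?_⟩
  exact h.2.2 hW (c ≫ φ) (locP_comp (IsAlgSpace.yon_obj W) hG' hG hc hφ) (p2 ≫ pst) π'' (n2 ≫ nst) ν''
    (sqP2.paste_horiz sqP) (sqN2.paste_horiz sqN) g hg1 (by rw [reassoc_of% hg2, h2, Category.assoc])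

/-- The comparison map of two pullbacks induced by a map over the base. -/
theorem normOn_hom (h : NormOn π ν f') {W : Over S} (hW : IsAffine W.left) (c : (yon S).obj W ⟶ G)
    (hc : LocP @Smooth c) {Z H : Sp S} (hZ : IsAlgSpace Z) (hH : IsAlgSpace H) {πZ : Z ⟶ H}
    (hπZ : IsIntegralMor πZ) (k : (yon S).obj W ⟶ H) (g : pullback π c ⟶ Z) (hg : g ≫ πZ = pullback.snd π c ≫ k) :
    ∃! l : pullback ν c ⟶ Z, pullback.map π c ν c f' (𝟙 _) (𝟙 G) (by simp [h.1]) (by simp) ≫ l = g ∧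
      l ≫ πZ = pullback.snd ν c ≫ k :=
  existsUnique_hom (h.2.2 hW c hc (pullback.fst π c) (pullback.snd π c) (pullback.fst ν c) (pullback.snd ν c)
    (IsPullback.of_hasPullback π c) (IsPullback.of_hasPullback ν c) _ (by simp) (by simp))
    (IsAlgSpace.yon_obj W) hZ hH hπZ k g hg

/-- Lifts of a map to a space through the affine opens of an etale atlas, locally in the etale topology. -/
theorem exists_cover_lift {U : Over S} {q : (yon S).obj U ⟶ G} (hqe : RepWith @Etale q)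
    (hqs : RepWith @Surjective q) {T : Over S} (s : (yon S).obj T ⟶ G) :
    ∃ (κ : Type u) (T₁ : κ → Over S) (d : sigmaOver T₁ ⟶ T), fppf d.left ∧
      ∀ i, ∃ (V : U.left.affineOpens) (z : T₁ i ⟶ Over.mk (V.1.ι ≫ U.hom)),
        (yon S).map z ≫ (yon S).map (CategoryTheory.Over.homMk V.1.ι rfl : Over.mk (V.1.ι ≫ U.hom) ⟶ U) ≫ q =
          (yon S).map (sigmaι T₁ i ≫ d) ≫ s := by
  let T' := hqe.rep.pullback s
  obtain ⟨e, he⟩ : ∃ e : T' ⟶ T, e = hqe.rep.snd s := ⟨_, rfl⟩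
  obtain ⟨x, hx⟩ : ∃ x : T' ⟶ U, x = hqe.rep.fst' s := ⟨_, rfl⟩
  have hxe : (yon S).map x ≫ q = (yon S).map e ≫ s := by
    rw [hx, he]; exact (hqe.rep.isPullback' s).w
  have : Etale e.left := by rw [he]; exact hqe.property_snd s
  have : Surjective e.left := by rw [he]; exact hqs.property _ _ _ (hqe.rep.isPullback s)
  let κ := U.left.affineOpens
  let O : κ → T'.left.Opens := fun V => x.left ⁻¹ᵁ V.1
  let T₁ : κ → Over S := fun V => Over.mk ((O V).ι ≫ T'.hom)
  let d₁ : sigmaOver T₁ ⟶ T' := CategoryTheory.Over.homMk (Sigma.desc fun V => (O V).ι) (by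
    apply Sigma.hom_ext
    intro i
    change Sigma.ι _ i ≫ Sigma.desc _ ≫ T'.hom = Sigma.ι _ i ≫ Sigma.desc _
    rw [Sigma.ι_desc_assoc, Sigma.ι_desc]
    rfl)
  have hd₁ : ∀ V, sigmaι T₁ V ≫ d₁ = CategoryTheory.Over.homMk (O V).ι rfl := fun V =>
    Over.OverMorphism.ext (Sigma.ι_desc _ V)
  refine ⟨κ, T₁, d₁ ≫ e, ?_, fun V => ?_⟩
  · have : Etale d₁.left := by
      refine IsZariskiLocalAtSource.of_openCover (sigmaOpenCover fun V => (O V).toScheme) fun V => ?_
      change Etale (Sigma.ι (fun V => (O V).toScheme) V ≫ Sigma.desc _)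
      rw [Sigma.ι_desc]
      infer_instance
    have : Surjective d₁.left := ⟨fun y => by
      obtain ⟨V, hV, hyV, -⟩ := exists_isAffineOpen_mem_and_subset (U := (⊤ : U.left.Opens)) (x := x.left y) trivial
      refine ⟨Sigma.ι (fun V => (O V).toScheme) ⟨V, hV⟩ ⟨y, hyV⟩, ?_⟩
      change Sigma.desc (fun V => (O V).ι) _ = y
      rw [← Scheme.Hom.comp_apply, Sigma.ι_desc]
      rfl⟩
    show fppf (d₁.left ≫ e.left)
    exact MorphismProperty.comp_mem _ _ _ (fppf_of_etale _) (fppf_of_etale _)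
  · refine ⟨V, CategoryTheory.Over.homMk (x.left ∣_ V.1) ?_, ?_⟩
    · change (x.left ∣_ V.1) ≫ V.1.ι ≫ U.hom = (O V).ι ≫ T'.hom
      rw [morphismRestrict_ι_assoc, Over.w]
    · rw [← Category.assoc (sigmaι T₁ V), hd₁]
      have h1 : (CategoryTheory.Over.homMk (x.left ∣_ V.1) (by
            change (x.left ∣_ V.1) ≫ V.1.ι ≫ U.hom = (O V).ι ≫ T'.hom
            rw [morphismRestrict_ι_assoc, Over.w]) : T₁ V ⟶ Over.mk (V.1.ι ≫ U.hom)) ≫
          CategoryTheory.Over.homMk V.1.ι rfl = (CategoryTheory.Over.homMk (O V).ι rfl : T₁ V ⟶ T') ≫ x :=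
        Over.OverMorphism.ext (morphismRestrict_ι _ _)
      rw [← Functor.map_comp_assoc, h1, Functor.map_comp, Category.assoc, hxe, Functor.map_comp, Category.assoc]

/-- Descend a family of maps along a family of maps which is jointly locally surjective. -/
theorem exists_desc_family {ι : Type u} {N Z : Sp S} {M : ι → Over S} (m : ∀ i, (yon S).obj (M i) ⟶ N)
    (hsurj : ∀ ⦃T : Over S⦄ (t : (yon S).obj T ⟶ N), ∃ (κ : Type u) (T₁ : κ → Over S) (d : sigmaOver T₁ ⟶ T),
      fppf d.left ∧ ∀ i, ∃ (V : ι) (z : T₁ i ⟶ M V), (yon S).map z ≫ m V = (yon S).map (sigmaι T₁ i ≫ d) ≫ t)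
    (h : ∀ i, (yon S).obj (M i) ⟶ Z)
    (hh : ∀ i i' {T : Over S} (x : T ⟶ M i) (y : T ⟶ M i'), (yon S).map x ≫ m i = (yon S).map y ≫ m i' →
      (yon S).map x ≫ h i = (yon S).map y ≫ h i') :
    ∃ l : N ⟶ Z, (∀ i, m i ≫ l = h i) ∧ ∀ l', (∀ i, m i ≫ l' = h i) → l' = l := by
  obtain ⟨m₀, hm₀⟩ := exists_hom_sigma M m
  obtain ⟨h₀, hh₀⟩ := exists_hom_sigma M h
  let 𝒱 := sigmaOpenCover fun i => (M i).left
  have hsplit : ∀ {T : Over S} (x : T ⟶ sigmaOver M) (j : (𝒱.pullback₁ x.left).I₀),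
      ∃ (y : Over.mk ((𝒱.pullback₁ x.left).f j ≫ T.hom) ⟶ M j),
        y ≫ sigmaι M j = CategoryTheory.Over.homMk ((𝒱.pullback₁ x.left).f j) rfl ≫ x := fun {T} x j => by
    refine ⟨CategoryTheory.Over.homMk (pullback.snd x.left (Sigma.ι (fun i => (M i).left) j)) ?_, ?_⟩
    · change _ = pullback.fst x.left (Sigma.ι (fun i => (M i).left) j) ≫ T.hom
      rw [← Over.w x]
      erw [pullback.condition_assoc]
      exact congrArg (pullback.snd _ _ ≫ ·) (Sigma.ι_desc (fun i => (M i).hom) j).symm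
    · exact Over.OverMorphism.ext pullback.condition.symm
  have : Sheaf.IsLocallySurjective m₀ := isLocallySurjective_of_lifts m₀ fun T t => by
    obtain ⟨κ, T₁, d, hd, hz⟩ := hsurj t
    choose V z hz using hz
    obtain ⟨Y, hY⟩ := exists_hom_sigma T₁ (F := (yon S).obj (sigmaOver M))
      fun i => (yon S).map (z i ≫ sigmaι M (V i))
    refine ⟨_, d, Y, hd, hom_ext_sigma T₁ fun i => ?_⟩
    rw [reassoc_of% hY, Functor.map_comp, Category.assoc, hm₀, hz, Functor.map_comp_assoc]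
  have : Epi m₀ := Sheaf.epi_of_isLocallySurjective m₀
  have : EffectiveEpi m₀ := by
    have := IsRegularEpiCategory.regularEpiOfEpi m₀
    infer_instance
  refine ⟨EffectiveEpi.desc m₀ h₀ fun {K} b₁ b₂ hb => hom_ext_yon _ _ fun T t => ?_, fun i => ?_, fun l' hl' => ?_⟩
  · obtain ⟨x, hx⟩ := (yon S).map_surjective (t ≫ b₁)
    obtain ⟨y, hy⟩ := (yon S).map_surjective (t ≫ b₂)
    have hxy : (yon S).map x ≫ m₀ = (yon S).map y ≫ m₀ := by rw [hx, hy, Category.assoc, Category.assoc, hb]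
    rw [← Category.assoc, ← Category.assoc, ← hx, ← hy]
    refine hom_ext_of_openCover (𝒱.pullback₁ x.left) _ _ fun j => ?_
    obtain ⟨x', hx'⟩ := hsplit x j
    rw [← Functor.map_comp_assoc, ← Functor.map_comp_assoc, ← hx']
    let y₁ := CategoryTheory.Over.homMk (U := Over.mk ((𝒱.pullback₁ x.left).f j ≫ T.hom))
      ((𝒱.pullback₁ x.left).f j) rfl ≫ y
    refine hom_ext_of_openCover (𝒱.pullback₁ y₁.left) _ _ fun j' => ?_
    obtain ⟨y', hy'⟩ := hsplit y₁ j'
    rw [← Functor.map_comp_assoc, ← Functor.map_comp_assoc, ← hy', ← Category.assoc, Functor.map_comp,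
      Functor.map_comp _ _ (sigmaι M j'), Category.assoc, Category.assoc, hh₀, hh₀]
    refine hh _ _ _ _ ?_
    rw [← hm₀ j, ← hm₀ j', ← Functor.map_comp_assoc, ← Functor.map_comp_assoc, hy', Category.assoc, hx']
    simp only [y₁, Functor.map_comp, Category.assoc, hxy]
  · rw [← hm₀, Category.assoc, EffectiveEpi.fac, hh₀]
  · rw [← cancel_epi m₀, EffectiveEpi.fac]
    exact hom_ext_sigma M fun i => by rw [reassoc_of% hm₀, hl', hh₀]

/-- The local maps out of the pieces of a normalization agree on overlaps. -/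
theorem normOn_agree (h : NormOn π ν f') {Z H : Sp S} (hZ : IsAlgSpace Z) (hH : IsAlgSpace H) {πZ : Z ⟶ H}
    (hπZ : IsIntegralMor πZ) (k : G ⟶ H) (g : P ⟶ Z) {W W' T : Over S} {c : (yon S).obj W ⟶ G}
    {c' : (yon S).obj W' ⟶ G} (hc : RepWith @Etale c) (hc' : RepWith @Etale c')
    (l : pullback ν c ⟶ Z) (l' : pullback ν c' ⟶ Z)
    (hl₁ : pullback.map π c ν c f' (𝟙 _) (𝟙 G) (by simp [h.1]) (by simp) ≫ l = pullback.fst π c ≫ g)
    (hl₂ : l ≫ πZ = pullback.snd ν c ≫ c ≫ k)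
    (hl'₁ : pullback.map π c' ν c' f' (𝟙 _) (𝟙 G) (by simp [h.1]) (by simp) ≫ l' = pullback.fst π c' ≫ g)
    (hl'₂ : l' ≫ πZ = pullback.snd ν c' ≫ c' ≫ k)
    (hg : g ≫ πZ = π ≫ k)
    (a : (yon S).obj T ⟶ pullback ν c) (b : (yon S).obj T ⟶ pullback ν c')
    (hab : a ≫ pullback.fst ν c = b ≫ pullback.fst ν c') : a ≫ l = b ≫ l' := by
  obtain ⟨x, hx⟩ := (yon S).map_surjective (a ≫ pullback.snd ν c)
  obtain ⟨y, hy⟩ := (yon S).map_surjective (b ≫ pullback.snd ν c')
  have hxy : (yon S).map x ≫ c = (yon S).map y ≫ c' := by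
    rw [hx, hy, Category.assoc, Category.assoc, ← pullback.condition, ← pullback.condition, reassoc_of% hab]
  let R := hc.rep.pullback c'
  obtain ⟨r₁, hr₁⟩ : ∃ r : R ⟶ W, r = hc.rep.fst' c' := ⟨_, rfl⟩
  obtain ⟨r₂, hr₂⟩ : ∃ r : R ⟶ W', r = hc.rep.snd c' := ⟨_, rfl⟩
  have hr : (yon S).map r₁ ≫ c = (yon S).map r₂ ≫ c' := by
    rw [hr₁, hr₂]; exact (hc.rep.isPullback' c').w
  let ρ : T ⟶ R := hc.rep.lift' x y hxy
  refine hom_ext_of_openCover (R.left.affineCover.pullback₁ ρ.left) _ _ fun i => ?_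
  let W₁ : Over S := Over.mk (R.left.affineCover.f i ≫ R.hom)
  let iW : W₁ ⟶ R := CategoryTheory.Over.homMk (R.left.affineCover.f i) rfl
  let T₂ : Over S := Over.mk ((R.left.affineCover.pullback₁ ρ.left).f i ≫ T.hom)
  let j₂ : T₂ ⟶ T := CategoryTheory.Over.homMk ((R.left.affineCover.pullback₁ ρ.left).f i) rfl
  let ρ₂ : T₂ ⟶ W₁ := CategoryTheory.Over.homMk (pullback.snd ρ.left (R.left.affineCover.f i)) (by
    change _ = pullback.fst ρ.left (R.left.affineCover.f i) ≫ T.hom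
    rw [← Over.w ρ, ← Category.assoc, pullback.condition, Category.assoc]
    rfl)
  have hρ₂ : ρ₂ ≫ iW = j₂ ≫ ρ := Over.OverMorphism.ext pullback.condition.symm
  change (yon S).map j₂ ≫ _ = (yon S).map j₂ ≫ _
  have hW₁ : IsAffine W₁.left := inferInstanceAs (IsAffine (R.left.affineCover.X i))
  obtain ⟨cW, hcW₁⟩ : ∃ cW : (yon S).obj W₁ ⟶ G, cW = (yon S).map (iW ≫ r₁) ≫ c := ⟨_, rfl⟩
  have hcW₂ : cW = (yon S).map (iW ≫ r₂) ≫ c' := by
    simp only [hcW₁, Functor.map_comp, Category.assoc, hr]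
  have hcWe : RepWith @Etale cW := by
    rw [hcW₁]
    refine repWith_comp ((repWith_yon_map_iff _ _).2 ?_) hc
    show Etale (iW.left ≫ r₁.left)
    have : Etale r₁.left := by rw [hr₁]; exact hc'.property _ _ _ (hc.rep.isPullback' c').flip
    have : IsOpenImmersion iW.left := inferInstanceAs (IsOpenImmersion (R.left.affineCover.f i))
    infer_instance
  let toV : pullback ν cW ⟶ pullback ν c := pullback.map ν cW ν c (𝟙 _) ((yon S).map (iW ≫ r₁)) (𝟙 _)
    (by simp) (by simp [hcW₁])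
  let toV' : pullback ν cW ⟶ pullback ν c' := pullback.map ν cW ν c' (𝟙 _) ((yon S).map (iW ≫ r₂)) (𝟙 _)
    (by simp) (by simp [hcW₂])
  have key : toV ≫ l = toV' ≫ l' := by
    refine (normOn_hom h hW₁ cW (locP_smooth_of_etale hcWe) hZ hH hπZ (cW ≫ k) (pullback.fst π cW ≫ g)
      (by rw [Category.assoc, hg, pullback.condition_assoc])).unique ⟨?_, ?_⟩ ⟨?_, ?_⟩
    · rw [← Category.assoc, show pullback.map π cW ν cW f' (𝟙 _) (𝟙 G) (by simp [h.1]) (by simp) ≫ toV =
        pullback.map π cW π c (𝟙 _) ((yon S).map (iW ≫ r₁)) (𝟙 _) (by simp) (by simp [hcW₁]) ≫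
          pullback.map π c ν c f' (𝟙 _) (𝟙 G) (by simp [h.1]) (by simp) by
        apply pullback.hom_ext <;> simp [toV], Category.assoc, hl₁, ← Category.assoc, pullback.lift_fst,
        Category.comp_id]
    · simp only [toV, Category.assoc, hl₂, pullback.lift_snd_assoc, hcW₁]
    · rw [← Category.assoc, show pullback.map π cW ν cW f' (𝟙 _) (𝟙 G) (by simp [h.1]) (by simp) ≫ toV' =
        pullback.map π cW π c' (𝟙 _) ((yon S).map (iW ≫ r₂)) (𝟙 _) (by simp) (by simp [hcW₂]) ≫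
          pullback.map π c' ν c' f' (𝟙 _) (𝟙 G) (by simp [h.1]) (by simp) by
        apply pullback.hom_ext <;> simp [toV'], Category.assoc, hl'₁, ← Category.assoc, pullback.lift_fst,
        Category.comp_id]
    · simp only [toV', Category.assoc, hl'₂, pullback.lift_snd_assoc, hcW₂]
  have e₁ : ρ₂ ≫ iW ≫ r₁ = j₂ ≫ x := by
    rw [← Category.assoc, hρ₂, Category.assoc, hr₁, hc.rep.lift'_fst]
  have e₂ : ρ₂ ≫ iW ≫ r₂ = j₂ ≫ y := by
    rw [← Category.assoc, hρ₂, Category.assoc, hr₂, hc.rep.lift'_snd]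
  let τ : (yon S).obj T₂ ⟶ pullback ν cW := pullback.lift ((yon S).map j₂ ≫ a ≫ pullback.fst ν c)
    ((yon S).map ρ₂) (by
      rw [hcW₁, ← Functor.map_comp_assoc, e₁, Functor.map_comp, hx]
      simp only [Category.assoc, pullback.condition])
  have hτ₁ : τ ≫ toV = (yon S).map j₂ ≫ a := by
    apply pullback.hom_ext
    · simp only [τ, toV, Category.assoc, pullback.lift_fst, pullback.lift_fst_assoc, Category.comp_id]
    · simp only [τ, toV, Category.assoc, pullback.lift_snd, pullback.lift_snd_assoc, ← Functor.map_comp, e₁]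
      rw [Functor.map_comp, hx]
  have hτ₂ : τ ≫ toV' = (yon S).map j₂ ≫ b := by
    apply pullback.hom_ext
    · simp only [τ, toV', Category.assoc, pullback.lift_fst, pullback.lift_fst_assoc, Category.comp_id, hab]
    · simp only [τ, toV', Category.assoc, pullback.lift_snd, pullback.lift_snd_assoc, ← Functor.map_comp, e₂]
      rw [Functor.map_comp, hy]
  rw [← reassoc_of% hτ₁, ← reassoc_of% hτ₂, key]

/-- A factorisation which is the normalization on all affine schemes smooth over the target is the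
normalization. -/
theorem isRelNormalization_of_normOn (h : NormOn π ν f') (hG : IsAlgSpace G) :
    IsRelNormalization π ν f' := by
  refine ⟨h.1, h.2.1, fun Z hZ πZ g hπZ hg => ?_⟩
  obtain ⟨U, q, hqe, hqs⟩ := hG.atlas
  let c : ∀ V : U.left.affineOpens, (yon S).obj (Over.mk (V.1.ι ≫ U.hom)) ⟶ G := fun V =>
    (yon S).map (CategoryTheory.Over.homMk V.1.ι rfl : Over.mk (V.1.ι ≫ U.hom) ⟶ U) ≫ q
  have hce : ∀ V, RepWith @Etale (c V) := fun V =>
    repWith_comp ((repWith_yon_map_iff _ _).2 (inferInstanceAs (Etale V.1.ι))) hqe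
  have hν := isIntegralMor_iff_repWith.1 h.2.1
  have hex := fun V => (normOn_hom h V.2 (c V) (locP_smooth_of_etale (hce V)) hZ hG hπZ (c V)
    (pullback.fst π (c V) ≫ g) (by rw [Category.assoc, hg, pullback.condition]))
  choose l hl using fun V => (hex V).exists
  let e : ∀ V, (yon S).obj (hν.rep.pullback (c V)) ≅ pullback ν (c V) := fun V =>
    (hν.rep.isPullback (c V)).isoPullback
  obtain ⟨L, hL, hLu⟩ := exists_desc_family (fun V => (e V).hom ≫ pullback.fst ν (c V)) (fun T t => by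
      obtain ⟨κ, T₁, d, hd, hz⟩ := exists_cover_lift hqe hqs (t ≫ ν)
      refine ⟨κ, T₁, d, hd, fun i => ?_⟩
      obtain ⟨V, z, hz⟩ := hz i
      obtain ⟨w, hw⟩ := (yon S).map_surjective
        (pullback.lift (f := ν) (g := c V) ((yon S).map (sigmaι T₁ i ≫ d) ≫ t) ((yon S).map z) (by
          rw [Category.assoc]; exact hz.symm) ≫ (e V).inv)
      refine ⟨V, w, ?_⟩
      rw [hw, Category.assoc, Iso.inv_hom_id_assoc, pullback.lift_fst])
    (fun V => (e V).hom ≫ l V) fun V V' T x y hxy => by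
      rw [← Category.assoc, ← Category.assoc]
      exact normOn_agree h hZ hG hπZ (𝟙 G) g (hce V) (hce V') (l V) (l V')
        (by simpa using (hl V).1) (by simpa using (hl V).2) (by simpa using (hl V').1) (by simpa using (hl V').2)
        (by simpa using hg) _ _ (by simpa using hxy)
  have hlV : ∀ V, pullback.fst ν (c V) ≫ L = l V := fun V => by
    rw [← cancel_epi (e V).hom]; simpa using hL V
  refine ⟨L, ⟨?_, ?_⟩, fun L' hL' => hLu L' fun V => ?_⟩
  · refine hom_ext_yon _ _ fun T t => ?_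
    obtain ⟨κ, T₁, d, hd, hz⟩ := exists_cover_lift hqe hqs (t ≫ π)
    refine hom_ext_of_fppf d hd _ _ (hom_ext_sigma T₁ fun i => ?_)
    obtain ⟨V, z, hz⟩ := hz i
    let u : (yon S).obj (T₁ i) ⟶ pullback π (c V) :=
      pullback.lift ((yon S).map (sigmaι T₁ i ≫ d) ≫ t) ((yon S).map z) (by rw [Category.assoc]; exact hz.symm)
    have h2 := congrArg (u ≫ ·) (hl V).1
    simp only [← hlV V, pullback.lift_fst_assoc, u, Category.assoc, Category.comp_id, Category.id_comp,
      Functor.map_comp] at h2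
    simpa using h2
  · have h1 : ∀ V, ((e V).hom ≫ pullback.fst ν (c V)) ≫ L ≫ πZ = ((e V).hom ≫ pullback.fst ν (c V)) ≫ ν := by
      intro V
      rw [Category.assoc, Category.assoc, reassoc_of% (hlV V), (hl V).2, pullback.condition]
    refine hom_ext_yon _ _ fun T t => ?_
    obtain ⟨κ, T₁, d, hd, hz⟩ := exists_cover_lift hqe hqs (t ≫ ν)
    refine hom_ext_of_fppf d hd _ _ (hom_ext_sigma T₁ fun i => ?_)
    obtain ⟨V, z, hz⟩ := hz i
    have h2 := congrArg ((pullback.lift (f := ν) (g := c V) ((yon S).map (sigmaι T₁ i ≫ d) ≫ t) ((yon S).map z)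
      (by rw [Category.assoc]; exact hz.symm) ≫ (e V).inv) ≫ ·) (h1 V)
    simpa using h2
  · change ((e V).hom ≫ _) ≫ L' = (e V).hom ≫ l V
    rw [Category.assoc]
    congr 1
    exact (hex V).unique ⟨by simp [hL'.1], by rw [Category.assoc, hL'.2, pullback.condition]⟩ (hl V)

end Groth.Agent.AlgSpNorm
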