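import Groth.Agent.AlgSpNorm.PresExists

/-!
# Normalization of an affine scheme in an algebraic space and smooth affine base change
-/

set_option autoImplicit false
set_option backward.isDefEq.respectTransparency false
set_option backward.isDefEq.respectTransparency.types false

universe u

open CategoryTheory CategoryTheory.Limits AlgebraicGeometry Opposite AlgSp Groth.Agent.AlgSpLib
  Groth.Agent.AlgSpDec Groth.Agent.AlgSpVal
open scoped TensorProduct

namespace Groth.Agent.AlgSpNorm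

variable {S : Scheme.{u}} {A : CommRingCat.{u}} {str : Spec A ⟶ S} {P : Sp S}

/-- The elements of the base change of the integral closure in an equalizer. -/
theorem range_map_integralClosure {A A' C R : Type u} [CommRing A] [CommRing A'] [CommRing C] [CommRing R]
    [Algebra A A'] [Algebra A C] [Algebra A R] [Algebra.Smooth A A'] (g₁ g₂ : C →ₐ[A] R) :
    Function.Injective (Algebra.TensorProduct.map (AlgHom.id A' A')
      ((AlgHom.equalizer g₁ g₂).val.comp (integralClosure A (AlgHom.equalizer g₁ g₂)).val)) ∧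
    ∀ x : A' ⊗[A] C, x ∈ (Algebra.TensorProduct.map (AlgHom.id A' A')
      ((AlgHom.equalizer g₁ g₂).val.comp (integralClosure A (AlgHom.equalizer g₁ g₂)).val)).range ↔
      Algebra.TensorProduct.map (AlgHom.id A' A') g₁ x = Algebra.TensorProduct.map (AlgHom.id A' A') g₂ x ∧
        IsIntegral A' x := by
  let E := AlgHom.equalizer g₁ g₂
  let B := integralClosure A E
  let ve : A' ⊗[A] E →ₐ[A'] A' ⊗[A] C := Algebra.TensorProduct.map (AlgHom.id A' A') E.val
  let vb : A' ⊗[A] B →ₐ[A'] A' ⊗[A] E := Algebra.TensorProduct.map (AlgHom.id A' A') B.val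
  have hve : Function.Injective ve :=
    Module.Flat.lTensor_preserves_injective_linearMap (M := A') E.val.toLinearMap Subtype.val_injective
  have hvb : Function.Injective vb :=
    Module.Flat.lTensor_preserves_injective_linearMap (M := A') B.val.toLinearMap Subtype.val_injective
  have hcomp : ∀ z, Algebra.TensorProduct.map (AlgHom.id A' A') (E.val.comp B.val) z = ve (vb z) := by
    intro z
    have : Algebra.TensorProduct.map (AlgHom.id A' A') (E.val.comp B.val) = ve.comp vb := by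
      ext; rfl
    rw [this]; rfl
  refine ⟨fun z w h => hvb (hve (by rw [← hcomp, ← hcomp]; exact h)), fun x => ⟨?_, ?_⟩⟩
  · rintro ⟨z, rfl⟩
    refine ⟨?_, ?_⟩
    · change (_ : A' ⊗[A] R) = _
      have : (Algebra.TensorProduct.map (AlgHom.id A' A') g₁).comp
          (Algebra.TensorProduct.map (AlgHom.id A' A') (E.val.comp B.val)) =
          (Algebra.TensorProduct.map (AlgHom.id A' A') g₂).comp
          (Algebra.TensorProduct.map (AlgHom.id A' A') (E.val.comp B.val)) := by
        ext b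
        change (1 : A') ⊗ₜ[A] g₁ ((b : E) : C) = (1 : A') ⊗ₜ[A] g₂ ((b : E) : C)
        rw [show g₁ ((b : E) : C) = g₂ ((b : E) : C) from (b : E).2]
      exact AlgHom.congr_fun this z
    · change IsIntegral A' (Algebra.TensorProduct.map (AlgHom.id A' A') (E.val.comp B.val) z)
      rw [hcomp]
      exact ((TensorProduct.toIntegralClosure A A' E z).2).map ve
  · rintro ⟨heq, hint⟩
    let y := (AlgHom.tensorEqualizerEquiv A' A' g₁ g₂).symm ⟨x, heq⟩
    have hy : ve y = x := by
      have h := congrArg Subtype.val ((AlgHom.tensorEqualizerEquiv A' A' g₁ g₂).apply_symm_apply ⟨x, heq⟩)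
      rw [AlgHom.tensorEqualizerEquiv_apply] at h
      refine Eq.trans ?_ h
      exact (AlgHom.coe_tensorEqualizer A' A' g₁ g₂ y).symm
    have hyi : IsIntegral A' y := (isIntegral_algHom_iff ve hve).1 (hy.symm ▸ hint)
    obtain ⟨z, hz⟩ := (TensorProduct.toIntegralClosure_bijective_of_smooth (R := A) (S := A') (B := E)).2 ⟨y, hyi⟩
    exact ⟨z, by
      change Algebra.TensorProduct.map (AlgHom.id A' A') (E.val.comp B.val) z = x
      rw [hcomp, ← hy]
      exact congrArg ve (congrArg Subtype.val hz)⟩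

/-- The normalization of an affine scheme in a space with a presentation, and its smooth base change. -/
theorem exists_normalization {π : P ⟶ (yon S).obj (Over.mk str)} (p : Pres π) :
    ∃ (B : CommRingCat.{u}) (b : A ⟶ B) (f' : P ⟶ (yon S).obj (Over.mk (Spec.map b ≫ str))),
      IsRelNormalization π ((yon S).map (specToBase b)) f' ∧
      ∀ (A' : CommRingCat.{u}) (φ : A ⟶ A'), φ.hom.Smooth →
      ∀ {P' N' : Sp S} (π' : P' ⟶ (yon S).obj (Over.mk (Spec.map φ ≫ str))) (fst : P' ⟶ P)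
        (ν' : N' ⟶ (yon S).obj (Over.mk (Spec.map φ ≫ str))) (nst : N' ⟶ (yon S).obj (Over.mk (Spec.map b ≫ str))),
        IsPullback fst π' π ((yon S).map (specToBase φ)) →
        IsPullback nst ν' ((yon S).map (specToBase b)) ((yon S).map (specToBase φ)) →
        ∀ f'' : P' ⟶ N', f'' ≫ ν' = π' → f'' ≫ nst = fst ≫ f' → IsRelNormalization π' ν' f'' := by
  let _ : Algebra A p.C := p.γ.hom.toAlgebra
  let _ : Algebra A p.R := (p.γ ≫ p.g₁).hom.toAlgebra
  let g₁ : p.C →ₐ[A] p.R := { p.g₁.hom with commutes' := fun x => rfl }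
  let g₂ : p.C →ₐ[A] p.R :=
    { p.g₂.hom with commutes' := fun x => (RingHom.congr_fun (congrArg CommRingCat.Hom.hom p.hg) x).symm }
  let E := AlgHom.equalizer g₁ g₂
  let B₀ := integralClosure A E
  let B : CommRingCat.{u} := CommRingCat.of B₀
  let b : A ⟶ B := CommRingCat.ofHom (algebraMap A B₀)
  let ι₀ : B₀ →ₐ[A] p.C := E.val.comp B₀.val
  let ι : B ⟶ p.C := CommRingCat.ofHom ι₀.toRingHom
  have hι : b ≫ ι = p.γ := CommRingCat.hom_ext (RingHom.ext fun x => ι₀.commutes x)
  have hιinj : Function.Injective ι.hom := Subtype.val_injective.comp Subtype.val_injective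
  have hrange : ∀ x, x ∈ ι.hom.range ↔ p.g₁.hom x = p.g₂.hom x ∧ p.γ.hom.IsIntegralElem x := by
    intro x
    constructor
    · rintro ⟨z, rfl⟩
      exact ⟨(z : E).2, z.2.map E.val⟩
    · rintro ⟨h1, h2⟩
      exact ⟨⟨⟨x, h1⟩, (isIntegral_algHom_iff E.val Subtype.val_injective).1 h2⟩, rfl⟩
  obtain ⟨f', hf', hn⟩ := p.isRelNormalization b ι hι hιinj hrange
  refine ⟨B, b, f', hn, fun A' φ hφ P' N' π' fst ν' nst sqP sqN f'' hf1 hf2 => ?_⟩
  let _ : Algebra A A' := φ.hom.toAlgebra
  have : Algebra.Smooth A A' := hφ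
  -- the presentation of the base change
  let γ' : A' ⟶ CommRingCat.of (A' ⊗[A] p.C) := CommRingCat.ofHom (algebraMap A' (A' ⊗[A] p.C))
  let inC : p.C ⟶ CommRingCat.of (A' ⊗[A] p.C) :=
    CommRingCat.ofHom (Algebra.TensorProduct.includeRight (R := A) (A := A') (B := p.C)).toRingHom
  let inR : p.R ⟶ CommRingCat.of (A' ⊗[A] p.R) :=
    CommRingCat.ofHom (Algebra.TensorProduct.includeRight (R := A) (A := A') (B := p.R)).toRingHom
  let G₁ := Algebra.TensorProduct.map (AlgHom.id A' A') g₁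
  let G₂ := Algebra.TensorProduct.map (AlgHom.id A' A') g₂
  let g₁' : CommRingCat.of (A' ⊗[A] p.C) ⟶ CommRingCat.of (A' ⊗[A] p.R) := CommRingCat.ofHom G₁.toRingHom
  let g₂' : CommRingCat.of (A' ⊗[A] p.C) ⟶ CommRingCat.of (A' ⊗[A] p.R) := CommRingCat.ofHom G₂.toRingHom
  have hg₁' : γ' ≫ g₁' = CommRingCat.ofHom (algebraMap A' (A' ⊗[A] p.R)) :=
    CommRingCat.hom_ext (RingHom.ext fun x => G₁.commutes x)
  have hg₂' : γ' ≫ g₂' = CommRingCat.ofHom (algebraMap A' (A' ⊗[A] p.R)) :=
    CommRingCat.hom_ext (RingHom.ext fun x => G₂.commutes x)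
  have hg' : γ' ≫ g₁' = γ' ≫ g₂' := hg₁'.trans hg₂'.symm
  have poC : IsPushout φ p.γ γ' inC := CommRingCat.isPushout_tensorProduct A A' p.C
  have poR : IsPushout φ (p.γ ≫ p.g₁) (γ' ≫ g₁') inR := by
    rw [hg₁']; exact CommRingCat.isPushout_tensorProduct A A' p.R
  have hin₁ : p.g₁ ≫ inR = inC ≫ g₁' := CommRingCat.hom_ext (RingHom.ext fun x => by
    change (1 : A') ⊗ₜ[A] g₁ x = G₁ ((1 : A') ⊗ₜ[A] x)
    rw [Algebra.TensorProduct.map_tmul]; rfl)
  have hin₂ : p.g₂ ≫ inR = inC ≫ g₂' := CommRingCat.hom_ext (RingHom.ext fun x => by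
    change (1 : A') ⊗ₜ[A] g₂ x = G₂ ((1 : A') ⊗ₜ[A] x)
    rw [Algebra.TensorProduct.map_tmul]; rfl)
  let V : Over S := Over.mk (Spec.map p.γ ≫ str)
  let W : Over S := Over.mk (Spec.map (p.γ ≫ p.g₁) ≫ str)
  let V' : Over S := Over.mk (Spec.map γ' ≫ Spec.map φ ≫ str)
  let W' : Over S := Over.mk (Spec.map (γ' ≫ g₁') ≫ Spec.map φ ≫ str)
  let m : V' ⟶ V := Over.homMk (Spec.map inC) (by
    change Spec.map inC ≫ Spec.map p.γ ≫ str = Spec.map γ' ≫ Spec.map φ ≫ str
    rw [← Spec.map_comp_assoc, ← Spec.map_comp_assoc, poC.w])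
  let mW : W' ⟶ W := Over.homMk (Spec.map inR) (by
    change Spec.map inR ≫ Spec.map (p.γ ≫ p.g₁) ≫ str = Spec.map (γ' ≫ g₁') ≫ Spec.map φ ≫ str
    rw [← Spec.map_comp_assoc, ← Spec.map_comp_assoc, poR.w])
  have sqV : IsPullback m (specToBase (str := Spec.map φ ≫ str) γ') (specToBase p.γ) (specToBase φ) :=
    IsPullback.of_map (Over.forget S) (Over.OverMorphism.ext (by
        change Spec.map inC ≫ Spec.map p.γ = Spec.map γ' ≫ Spec.map φ
        rw [← Spec.map_comp, ← Spec.map_comp, poC.w]))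
      (isPullback_SpecMap_of_isPushout _ _ _ _ poC).flip
  have sqW : IsPullback mW (specToBase (str := Spec.map φ ≫ str) (γ' ≫ g₁')) (specToBase (p.γ ≫ p.g₁))
      (specToBase φ) :=
    IsPullback.of_map (Over.forget S) (Over.OverMorphism.ext (by
        change Spec.map inR ≫ Spec.map (p.γ ≫ p.g₁) = Spec.map (γ' ≫ g₁') ≫ Spec.map φ
        rw [← Spec.map_comp, ← Spec.map_comp, poR.w]))
      (isPullback_SpecMap_of_isPushout _ _ _ _ poR).flip
  let a' : (yon S).obj V' ⟶ P' := sqP.lift ((yon S).map m ≫ p.a) ((yon S).map (specToBase γ')) (by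
    rw [Category.assoc, p.ha, ← Functor.map_comp, sqV.w, Functor.map_comp])
  have ha'1 : a' ≫ fst = (yon S).map m ≫ p.a := sqP.lift_fst _ _ _
  have ha'2 : a' ≫ π' = (yon S).map (specToBase γ') := sqP.lift_snd _ _ _
  let h₁' : W' ⟶ V' := specHom (str := Spec.map φ ≫ str) γ' g₁' (γ' ≫ g₁') rfl
  let h₂' : W' ⟶ V' := specHom (str := Spec.map φ ≫ str) γ' g₂' (γ' ≫ g₁') hg'.symm
  have hm₁ : h₁' ≫ m = mW ≫ specHom p.γ p.g₁ (p.γ ≫ p.g₁) rfl := Over.OverMorphism.ext (by
    change Spec.map g₁' ≫ Spec.map inC = Spec.map inR ≫ Spec.map p.g₁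
    rw [← Spec.map_comp, ← Spec.map_comp, hin₁])
  have hm₂ : h₂' ≫ m = mW ≫ specHom p.γ p.g₂ (p.γ ≫ p.g₁) p.hg.symm := Over.OverMorphism.ext (by
    change Spec.map g₂' ≫ Spec.map inC = Spec.map inR ≫ Spec.map p.g₂
    rw [← Spec.map_comp, ← Spec.map_comp, hin₂])
  have hsurj : Sheaf.IsLocallySurjective a' := by
    refine isLocallySurjective_of_lifts a' fun T ξ => ?_
    have := p.surj
    obtain ⟨T', k, x, hk, hx⟩ := exists_fppf_lift_of_locallySurjective p.a (ξ ≫ fst)
    obtain ⟨x, rfl⟩ := (yon S).map_surjective x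
    obtain ⟨z, hz⟩ := (yon S).map_surjective ((yon S).map k ≫ ξ ≫ π')
    let l : T' ⟶ V' := sqV.lift x z ((yon S).map_injective (by
      rw [Functor.map_comp, Functor.map_comp, ← p.ha, reassoc_of% hx, hz, sqP.w]; simp))
    refine ⟨T', k, (yon S).map l, hk, sqP.hom_ext ?_ ?_⟩
    · rw [Category.assoc, Category.assoc, ha'1, ← Functor.map_comp_assoc, sqV.lift_fst, hx]
    · rw [Category.assoc, Category.assoc, ha'2, ← Functor.map_comp, sqV.lift_snd, hz]
  let p' : Pres π' := ⟨_, _, γ', g₁', g₂', hg', a', ha'2,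
    sqP.hom_ext
      (by
        rw [Category.assoc, Category.assoc, ha'1]
        change (yon S).map h₁' ≫ (yon S).map m ≫ p.a = (yon S).map h₂' ≫ (yon S).map m ≫ p.a
        rw [← Functor.map_comp_assoc, ← Functor.map_comp_assoc, hm₁, hm₂, Functor.map_comp, Functor.map_comp,
          Category.assoc, Category.assoc, p.agree])
      (by rw [Category.assoc, Category.assoc, ha'2, ← Functor.map_comp, ← Functor.map_comp, specHom_toBase,
        specHom_toBase]),
    hsurj, fun {T} x y hxy => by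
      have h1 : (yon S).map (x ≫ m) ≫ p.a = (yon S).map (y ≫ m) ≫ p.a := by
        rw [Functor.map_comp, Functor.map_comp, Category.assoc, Category.assoc, ← ha'1, reassoc_of% hxy]
      have h2 : x ≫ specToBase γ' = y ≫ specToBase γ' := (yon S).map_injective (by
        rw [Functor.map_comp, Functor.map_comp, ← ha'2, reassoc_of% hxy])
      obtain ⟨T', k, w, hk, hw1, hw2⟩ := p.lift (x ≫ m) (y ≫ m) h1
      let w' : T' ⟶ W' := sqW.lift w (k ≫ x ≫ specToBase γ') (by
        rw [← specHom_toBase p.γ p.g₁ (p.γ ≫ p.g₁) rfl, reassoc_of% hw1, Category.assoc, Category.assoc, sqV.w])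
      have hwγ : w' ≫ h₁' ≫ specToBase γ' = k ≫ x ≫ specToBase γ' := by
        rw [specHom_toBase, sqW.lift_snd]
      have hwγ₂ : w' ≫ h₂' ≫ specToBase γ' = k ≫ y ≫ specToBase γ' := by
        rw [specHom_toBase, sqW.lift_snd, h2]
      refine ⟨T', k, w', hk, sqV.hom_ext ?_ ?_, sqV.hom_ext ?_ ?_⟩
      · change (w' ≫ h₁') ≫ m = _
        rw [Category.assoc, hm₁, sqW.lift_fst_assoc, hw1, Category.assoc]
      · change (w' ≫ h₁') ≫ _ = _
        rw [Category.assoc, hwγ, Category.assoc]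
      · change (w' ≫ h₂') ≫ m = _
        rw [Category.assoc, hm₂, sqW.lift_fst_assoc, hw2, Category.assoc]
      · change (w' ≫ h₂') ≫ _ = _
        rw [Category.assoc, hwγ₂, Category.assoc]⟩
  -- the normalization of the base change
  let B' : CommRingCat.{u} := CommRingCat.of (A' ⊗[A] B₀)
  let b' : A' ⟶ B' := CommRingCat.ofHom (algebraMap A' (A' ⊗[A] B₀))
  let inB : B ⟶ B' :=
    CommRingCat.ofHom (Algebra.TensorProduct.includeRight (R := A) (A := A') (B := B₀)).toRingHom
  let ι'₀ := Algebra.TensorProduct.map (AlgHom.id A' A') ι₀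
  let ι' : B' ⟶ CommRingCat.of (A' ⊗[A] p.C) := CommRingCat.ofHom ι'₀.toRingHom
  have hι' : b' ≫ ι' = γ' := CommRingCat.hom_ext (RingHom.ext fun x => ι'₀.commutes x)
  obtain ⟨hinj', hrange'⟩ := range_map_integralClosure (A' := A') g₁ g₂
  obtain ⟨f₀, hf₀, hn'⟩ := p'.isRelNormalization b' ι' hι' hinj' hrange'
  have poB : IsPushout φ b b' inB := CommRingCat.isPushout_tensorProduct A A' B₀
  let mB : Over.mk (Spec.map b' ≫ Spec.map φ ≫ str) ⟶ Over.mk (Spec.map b ≫ str) := Over.homMk (Spec.map inB) (by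
    change Spec.map inB ≫ Spec.map b ≫ str = Spec.map b' ≫ Spec.map φ ≫ str
    rw [← Spec.map_comp_assoc, ← Spec.map_comp_assoc, poB.w])
  have sqB : IsPullback mB (specToBase (str := Spec.map φ ≫ str) b') (specToBase b) (specToBase φ) :=
    IsPullback.of_map (Over.forget S) (Over.OverMorphism.ext (by
        change Spec.map inB ≫ Spec.map b = Spec.map b' ≫ Spec.map φ
        rw [← Spec.map_comp, ← Spec.map_comp, poB.w]))
      (isPullback_SpecMap_of_isPushout _ _ _ _ poB).flip
  have hmι : specHom (str := Spec.map φ ≫ str) b' ι' γ' hι' ≫ mB = m ≫ specHom b ι p.γ hι :=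
    Over.OverMorphism.ext (by
      change Spec.map ι' ≫ Spec.map inB = Spec.map inC ≫ Spec.map ι
      rw [← Spec.map_comp, ← Spec.map_comp]
      congr 1)
  have := p'.epi_a
  have hf₀' : f₀ ≫ (yon S).map mB = fst ≫ f' := by
    rw [← cancel_epi p'.a, reassoc_of% hf₀, ← Functor.map_comp, hmι, Functor.map_comp, ← hf', reassoc_of% ha'1]
  let sqB' := sqB.map (yon S)
  refine isRelNormalization_of_iso (Iso.refl _) (sqN.isoIsPullback _ _ sqB') (Iso.refl _) (by simp) (by simp) ?_ hn'
  rw [Iso.refl_hom, Category.id_comp]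
  refine sqB'.hom_ext ?_ ?_
  · rw [Category.assoc, IsPullback.isoIsPullback_hom_fst, hf2, hf₀']
  · rw [Category.assoc, IsPullback.isoIsPullback_hom_snd, hf1, hn'.1]

end Groth.Agent.AlgSpNorm
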