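import Groth.Agent.AlgSpNorm.Zmt
import Groth.Agent.AlgSpDec.OneFlat
import Groth.Agent.AlgSpDec.NagataLocal
import Groth.Agent.AlgSpDec.LimOpen
import Groth.Agent.S0573

/-!
# The normalization over a Nagata space in a reduced space of finite type is finite
-/

set_option autoImplicit false
set_option backward.isDefEq.respectTransparency false
set_option backward.isDefEq.respectTransparency.types false

universe u

open CategoryTheory CategoryTheory.Limits AlgebraicGeometry Opposite AlgSp Groth.Agent.AlgSpLib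
  Groth.Agent.AlgSpDec

namespace Groth.Agent.AlgSpNorm

variable {S : Scheme.{u}}

/-- The image of an integral algebra in a reduced algebra of finite type over a Nagata ring is finite. -/
theorem finite_range {A B C : Type u} [CommRing A] [CommRing B] [CommRing C] [Algebra A B] [Algebra A C]
    (hA : CAlg.IsNagata A) [IsReduced C] [Algebra.FiniteType A C] [Algebra.IsIntegral A B] (φ : B →ₐ[A] C) :
    Module.Finite A φ.range := by
  haveI := hA.1
  haveI := S0573.result A hA C
  have hle : φ.range ≤ integralClosure A C := by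
    rintro _ ⟨x, rfl⟩
    exact (Algebra.IsIntegral.isIntegral x).map φ
  exact Module.Finite.of_injective (Subalgebra.inclusion hle).toLinearMap (Subalgebra.inclusion_injective hle)

/-- A map from an affine scheme integral over a Nagata base factors through a closed subscheme finite
over the base, as soon as the source is reduced and of finite type. -/
theorem exists_finite_closed {C N W : Scheme.{u}} [IsAffine C] [IsAffine N] [IsAffine W] [IsReduced C]
    (g : C ⟶ N) (ν : N ⟶ W) [IsIntegralHom ν] [LocallyOfFiniteType (g ≫ ν)] (hW : CAlg.IsNagata Γ(W, ⊤)) :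
    ∃ (Z : Scheme.{u}) (i : Z ⟶ N) (k : C ⟶ Z), IsClosedImmersion i ∧ IsFinite (i ≫ ν) ∧ k ≫ i = g := by
  let a := ν.appTop
  let b := g.appTop
  let _ : Algebra Γ(W, ⊤) Γ(N, ⊤) := a.hom.toAlgebra
  let _ : Algebra Γ(W, ⊤) Γ(C, ⊤) := (a ≫ b).hom.toAlgebra
  have : _root_.IsReduced Γ(C, ⊤) := IsReduced.component_reduced _
  have : Algebra.FiniteType Γ(W, ⊤) Γ(C, ⊤) :=
    (HasRingHomProperty.iff_of_isAffine (P := @LocallyOfFiniteType)).1 ‹LocallyOfFiniteType (g ≫ ν)›
  have : Algebra.IsIntegral Γ(W, ⊤) Γ(N, ⊤) :=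
    ⟨((HasAffineProperty.iff_of_isAffine (P := @IsIntegralHom)).1 ‹IsIntegralHom ν›).2⟩
  let φ : Γ(N, ⊤) →ₐ[Γ(W, ⊤)] Γ(C, ⊤) := { b.hom with commutes' := fun _ => rfl }
  have : Module.Finite Γ(W, ⊤) φ.range := finite_range hW φ
  let q : Γ(N, ⊤) ⟶ CommRingCat.of φ.range := CommRingCat.ofHom φ.rangeRestrict.toRingHom
  let j : CommRingCat.of φ.range ⟶ Γ(C, ⊤) := CommRingCat.ofHom φ.range.val.toRingHom
  have hqj : q ≫ j = b := rfl
  refine ⟨Spec (CommRingCat.of φ.range), Spec.map q ≫ N.isoSpec.inv, C.isoSpec.hom ≫ Spec.map j, ?_, ?_, ?_⟩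
  · have : IsClosedImmersion (Spec.map q) := IsClosedImmersion.spec_of_surjective q φ.rangeRestrict_surjective
    infer_instance
  · have e : (Spec.map q ≫ N.isoSpec.inv) ≫ ν = Spec.map (a ≫ q) ≫ W.isoSpec.inv := by
      rw [Spec.map_comp, Category.assoc, Category.assoc, ← Scheme.isoSpec_inv_naturality]
    have : IsFinite (Spec.map (a ≫ q)) := by
      rw [IsFinite.SpecMap_iff]
      exact RingHom.finite_algebraMap.2 ‹Module.Finite Γ(W, ⊤) φ.range›
    rw [e]; infer_instance
  · rw [Category.assoc, ← Spec.map_comp_assoc, hqj, ← Category.assoc, Scheme.isoSpec_hom_naturality,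
      Category.assoc, Iso.hom_inv_id, Category.comp_id]

theorem isFiniteMor_of_nagata {X Y Y' : Sp S} (hX : IsAlgSpace X) (hY : IsAlgSpace Y) {f : X ⟶ Y}
    (hN : EtaleLocally (fun U => ∀ V : U.Opens, IsAffineOpen V → CAlg.IsNagata ↑Γ(U, V)) Y)
    (hqs : IsQuasiSeparatedMor f) (hft : IsFiniteTypeMor f) (hXr : EtaleLocally (fun U => IsReduced U) X)
    {ν : Y' ⟶ Y} {f' : X ⟶ Y'} (hn : IsRelNormalization f ν f') : IsFiniteMor ν := by
  obtain ⟨U₀, p, hpe, hps, hU₀⟩ := hN
  let W : U₀.left.affineOpens → Over S := fun V => Over.mk (V.1.ι ≫ U₀.hom)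
  let o : ∀ V, W V ⟶ U₀ := fun V => CategoryTheory.Over.homMk V.1.ι rfl
  let c₀ := fun V => (yon S).map (o V) ≫ p
  have he : ∀ V, RepWith @Etale (c₀ V) := fun V =>
    repWith_comp ((repWith_yon_map_iff _ (o V)).2 (inferInstanceAs (Etale V.1.ι))) hpe
  have hsur : ∀ x, ∃ V u, Points.ofPt (c₀ V) u = x := fun x => by
    obtain ⟨u, rfl⟩ := surjective_ofPt hps x
    obtain ⟨V, hV, hu, -⟩ := exists_isAffineOpen_mem_and_subset (U := (⊤ : U₀.left.Opens)) (x := u) trivial
    exact ⟨⟨V, hV⟩, ⟨u, hu⟩, by rw [ofPt_comp]; rfl⟩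
  have hcov : IsFpqcCover (fun V => (yon S).obj (W V)) c₀ :=
    isFpqcCover_of_isFppfCover hY (fun V => IsAlgSpace.yon_obj _) _ ⟨fun V =>
      ⟨locP_mono (P := @Etale) (fun _ _ g (_ : Etale g) => (inferInstance : Flat g)) (locP_of_repWith (he V)),
        locP_mono (P := @Etale) (fun _ _ g (_ : Etale g) => (inferInstance : LocallyOfFinitePresentation g))
          (locP_of_repWith (he V))⟩,
      fun x => by
        obtain ⟨V, u, rfl⟩ := hsur x
        exact ⟨V, Points.ofPt (𝟙 _) u, by rw [Points.map_ofPt, Category.id_comp]⟩⟩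
  have hY' : IsAlgSpace Y' := isAlgSpace_of_isIntegralMor hn.2.1 hY
  have hν := isIntegralMor_iff_repWith.1 hn.2.1
  refine (isLocalOnBase_fpqc_isFiniteMor _ _ hY (fun V => IsAlgSpace.yon_obj _) hcov ν hY' _
    (fun V => (yon S).map (hν.rep.snd (c₀ V))) (fun V => hν.rep.fst (c₀ V)) (fun V => IsAlgSpace.yon_obj _)
    fun V => hν.rep.isPullback (c₀ V)).2 fun V => ?_
  obtain ⟨c, hcdef⟩ : ∃ c, c = c₀ V := ⟨_, rfl⟩
  have hc : RepWith @Etale c := hcdef ▸ he V
  rw [← hcdef]
  haveI : IsAffine (W V).left := V.2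
  let NU := hν.rep.pullback c
  let νU : NU ⟶ W V := hν.rep.snd c
  let n := hν.rep.fst c
  have sqN : IsPullback n ((yon S).map νU) ν c := hν.rep.isPullback c
  haveI : IsIntegralHom νU.left := hν.property_snd c
  haveI : IsAffine NU.left := isAffine_of_isAffineHom νU.left
  have sqP := IsPullback.of_hasPullback f c
  have hP : IsAlgSpace (pullback f c) := isAlgSpace_of_isPullback sqP hX (IsAlgSpace.yon_obj _) hY
  haveI : CompactSpace (W V).left := inferInstance
  have hPqc : IsQuasiCompactSp (pullback f c) :=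
    hft.2 (IsAlgSpace.yon_obj _) (isQuasiCompactSp_yon (W V)) c _ _ sqP
  obtain ⟨C, a, hC, ha, has⟩ := exists_affine_atlas hPqc
  haveI : IsAffine C.left := hC
  let fU := sqN.lift (pullback.fst f c ≫ f') (pullback.snd f c) (by rw [Category.assoc, hn.1, sqP.w])
  have hfU₁ : fU ≫ n = pullback.fst f c ≫ f' := sqN.lift_fst _ _ _
  have hfU₂ : fU ≫ (yon S).map νU = pullback.snd f c := sqN.lift_snd _ _ _
  have hnU : IsRelNormalization (pullback.snd f c) ((yon S).map νU) fU :=
    isRelNormalization_of_isPullback hX hY hft.2 hqs hn (IsAlgSpace.yon_obj _) (locP_smooth_of_etale hc)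
      sqP sqN hfU₂ hfU₁
  have hP₁ : RepWith @Etale (pullback.fst f c) := repWith_of_isPullback sqP.flip hc
  have haX : RepWith @Etale (a ≫ pullback.fst f c) := repWith_comp ha hP₁
  haveI : IsReduced C.left := isReduced_chart hXr haX
  obtain ⟨g, hg⟩ := (yon S).map_surjective (a ≫ fU)
  have hgν : (a ≫ pullback.fst f c) ≫ f = (yon S).map (g ≫ νU) ≫ c := by
    rw [Category.assoc, sqP.w, Functor.map_comp, hg, Category.assoc, Category.assoc, reassoc_of% hfU₂]
  haveI : LocallyOfFiniteType (g.left ≫ νU.left) := hft.1 _ _ _ haX hc hgν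
  have hWN : CAlg.IsNagata Γ((W V).left, ⊤) :=
    NagataLocal.isNagata_affineOpen V.1.ι (fun V' : U₀.left.affineOpens => V'.1)
      (iSup_affineOpens_eq_top U₀.left) (fun V' => V'.2) (fun V' => hU₀ V'.1 V'.2) ⊤ (isAffineOpen_top _)
  obtain ⟨Z₀, i₀, k₀, hi₀, hfin, hk₀⟩ := exists_finite_closed g.left νU.left hWN
  let Z : Over S := Over.mk (i₀ ≫ NU.hom)
  let i : Z ⟶ NU := CategoryTheory.Over.homMk i₀ rfl
  let k : C ⟶ Z := CategoryTheory.Over.homMk k₀ (by
    change k₀ ≫ i₀ ≫ NU.hom = C.hom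
    rw [reassoc_of% hk₀]; exact Over.w g)
  have hki : k ≫ i = g := Over.OverMorphism.ext hk₀
  have hiy : RepWith @IsClosedImmersion ((yon S).map i) := (repWith_yon_map_iff _ i).2 hi₀
  have hπ : IsIntegralMor ((yon S).map (i ≫ νU)) := by
    have : IsFinite (i ≫ νU).left := hfin
    exact isIntegralMor_iff_repWith.2 ((repWith_yon_map_iff @IsIntegralHom _).2 inferInstance)
  -- the map to the normalization factors through the closed subscheme
  have sqI := IsPullback.of_hasPullback fU ((yon S).map i)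
  haveI : Mono i.left := inferInstanceAs (Mono i₀)
  haveI : Mono i := (Over.forget S).mono_of_mono_map ‹Mono i.left›
  haveI : Mono ((yon S).map i) := inferInstance
  haveI : Mono (pullback.fst fU ((yon S).map i)) := inferInstance
  obtain ⟨l, hl₁, -⟩ := sqI.exists_lift a ((yon S).map k) (by rw [← Functor.map_comp, hki, hg])
  have := isLocallySurjective_of_etale_surjective ha has
  have : Epi a := (Sheaf.isLocallySurjective_iff_epi _).1 this
  have : Epi (l ≫ pullback.fst fU ((yon S).map i)) := by rw [hl₁]; infer_instance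
  have : Epi (pullback.fst fU ((yon S).map i)) := epi_of_epi l _
  have : IsIso (pullback.fst fU ((yon S).map i)) := isIso_of_mono_of_epi _
  let gZ := inv (pullback.fst fU ((yon S).map i)) ≫ pullback.snd fU ((yon S).map i)
  have hgZ : gZ ≫ (yon S).map i = fU := by
    rw [Category.assoc, ← pullback.condition, IsIso.inv_hom_id_assoc]
  obtain ⟨h, ⟨hh₁, hh₂⟩, -⟩ := hnU.2.2 (IsAlgSpace.yon_obj Z) ((yon S).map (i ≫ νU)) gZ hπ
    (by rw [Functor.map_comp, reassoc_of% hgZ, hfU₂])
  obtain ⟨h₀, rfl⟩ := (yon S).map_surjective h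
  have hid : (yon S).map (h₀ ≫ i) = 𝟙 _ := by
    obtain ⟨e, -, he⟩ := hnU.2.2 (IsAlgSpace.yon_obj NU) ((yon S).map νU) fU hnU.2.1 hfU₂
    refine (he _ ⟨?_, ?_⟩).trans (he _ ⟨by simp, by simp⟩).symm
    · rw [Functor.map_comp, reassoc_of% hh₁, hgZ]
    · rw [← Functor.map_comp, Category.assoc, Functor.map_comp, hh₂]
  have hid' : h₀ ≫ i = 𝟙 NU := (yon S).map_injective (by rw [hid, CategoryTheory.Functor.map_id])
  have hih : i ≫ h₀ = 𝟙 Z := (cancel_mono i).1 (by rw [Category.assoc, hid', Category.comp_id, Category.id_comp])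
  have : IsIso i := ⟨h₀, hih, hid'⟩
  have : IsIso i.left := inferInstanceAs (IsIso ((Over.forget S).map i))
  have hf' : IsFinite (i.left ≫ νU.left) := hfin
  refine isFiniteMor_iff_repWith.2 ((repWith_yon_map_iff @IsFinite νU).2 ?_)
  exact (MorphismProperty.cancel_left_of_respectsIso @IsFinite i.left νU.left).1 hf'

end Groth.Agent.AlgSpNorm
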