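import Mathlib.RingTheory.Flat.Equalizer
import Mathlib.RingTheory.Smooth.IntegralClosure
import Groth.Agent.AlgSpNorm.Basic
import Groth.Agent.AlgSpVal.SpecPullback
import Groth.Agent.AlgSpLib.AffineDesc
import Groth.Agent.AlgSpDec.QuotRep

/-!
# Normalization of an affine scheme in an algebraic space, through an affine presentation
-/

set_option autoImplicit false
set_option backward.isDefEq.respectTransparency false
set_option backward.isDefEq.respectTransparency.types false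

universe u

open CategoryTheory CategoryTheory.Limits AlgebraicGeometry Opposite AlgSp Groth.Agent.AlgSpLib
  Groth.Agent.AlgSpDec Groth.Agent.AlgSpVal
open scoped TensorProduct

namespace Groth.Agent.AlgSpNorm

variable {S : Scheme.{u}} {A : CommRingCat.{u}} {str : Spec A ⟶ S} {P : Sp S}

/-- An affine presentation of a sheaf over an affine scheme. -/
structure Pres (π : P ⟶ (yon S).obj (Over.mk str)) where
  C : CommRingCat.{u}
  R : CommRingCat.{u}
  γ : A ⟶ C
  g₁ : C ⟶ R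
  g₂ : C ⟶ R
  hg : γ ≫ g₁ = γ ≫ g₂
  a : (yon S).obj (Over.mk (Spec.map γ ≫ str)) ⟶ P
  ha : a ≫ π = (yon S).map (specToBase γ)
  agree : (yon S).map (specHom (str := str) γ g₁ (γ ≫ g₁) rfl) ≫ a =
    (yon S).map (specHom γ g₂ (γ ≫ g₁) hg.symm) ≫ a
  surj : Sheaf.IsLocallySurjective a
  lift : ∀ {T : Over S} (x y : T ⟶ Over.mk (Spec.map γ ≫ str)), (yon S).map x ≫ a = (yon S).map y ≫ a →
    ∃ (T' : Over S) (k : T' ⟶ T) (w : T' ⟶ Over.mk (Spec.map (γ ≫ g₁) ≫ str)), fppf k.left ∧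
      w ≫ specHom γ g₁ (γ ≫ g₁) rfl = k ≫ x ∧ w ≫ specHom γ g₂ (γ ≫ g₁) hg.symm = k ≫ y

namespace Pres

variable {π : P ⟶ (yon S).obj (Over.mk str)} (p : Pres π)

theorem epi_a : Epi p.a :=
  have := p.surj
  Sheaf.epi_of_isLocallySurjective p.a

theorem exists_desc {Z : Sp S} (h : (yon S).obj (Over.mk (Spec.map p.γ ≫ str)) ⟶ Z)
    (hh : (yon S).map (specHom (str := str) p.γ p.g₁ (p.γ ≫ p.g₁) rfl) ≫ h =
      (yon S).map (specHom p.γ p.g₂ (p.γ ≫ p.g₁) p.hg.symm) ≫ h) : ∃ g, p.a ≫ g = h := by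
  have := p.surj
  have : Epi p.a := p.epi_a
  have : EffectiveEpi p.a := by
    have := IsRegularEpiCategory.regularEpiOfEpi p.a
    infer_instance
  refine ⟨EffectiveEpi.desc p.a h fun {K} b₁ b₂ hb => hom_ext_yon _ _ fun T t => ?_, EffectiveEpi.fac p.a _ _⟩
  obtain ⟨x, hx⟩ := (yon S).map_surjective (t ≫ b₁)
  obtain ⟨y, hy⟩ := (yon S).map_surjective (t ≫ b₂)
  obtain ⟨T', k, w, hk, h1, h2⟩ := p.lift x y (by rw [hx, hy, Category.assoc, Category.assoc, hb])
  rw [← Category.assoc, ← Category.assoc, ← hx, ← hy]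
  refine hom_ext_of_fppf k hk _ _ ?_
  rw [← Functor.map_comp_assoc, ← Functor.map_comp_assoc, ← h1, ← h2, Functor.map_comp, Functor.map_comp,
    Category.assoc, Category.assoc, hh]

/-- A ring over `A` whose image in the presentation consists of the integral equalized elements gives the
normalization. -/
theorem isRelNormalization {B : CommRingCat.{u}} (b : A ⟶ B) (ι : B ⟶ p.C) (hι : b ≫ ι = p.γ)
    (hinj : Function.Injective ι.hom)
    (hrange : ∀ x, x ∈ ι.hom.range ↔ p.g₁.hom x = p.g₂.hom x ∧ p.γ.hom.IsIntegralElem x) :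
    ∃ f' : P ⟶ (yon S).obj (Over.mk (Spec.map b ≫ str)),
      p.a ≫ f' = (yon S).map (specHom b ι p.γ hι) ∧ IsRelNormalization π ((yon S).map (specToBase b)) f' := by
  have hιg : ι ≫ p.g₁ = ι ≫ p.g₂ := CommRingCat.hom_ext (RingHom.ext fun x => ((hrange _).1 ⟨x, rfl⟩).1)
  have hbint : b.hom.IsIntegral := fun x => by
    obtain ⟨q, hq, hq0⟩ := ((hrange _).1 ⟨x, rfl⟩).2
    refine ⟨q, hq, hinj ?_⟩
    rw [map_zero, Polynomial.hom_eval₂]
    rw [← hq0]
    congr 1
    rw [← CommRingCat.hom_comp, hι]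
  have hcond : (yon S).map (specHom (str := str) p.γ p.g₁ (p.γ ≫ p.g₁) rfl) ≫
      (yon S).map (specHom b ι p.γ hι) = (yon S).map (specHom p.γ p.g₂ (p.γ ≫ p.g₁) p.hg.symm) ≫
      (yon S).map (specHom b ι p.γ hι) := by
    rw [← Functor.map_comp, ← Functor.map_comp, specHom_comp, specHom_comp]
    exact congrArg _ (specHom_congr _ _ _ _ hιg)
  obtain ⟨f', hf'⟩ := p.exists_desc _ hcond
  have := p.epi_a
  refine ⟨f', hf', ?_, ?_, fun Z hZ πZ g hπZ hg => ?_⟩
  · rw [← cancel_epi p.a, reassoc_of% hf', p.ha, ← Functor.map_comp, specHom_toBase]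
  · refine isIntegralMor_iff_repWith.2 ((repWith_yon_map_iff @IsIntegralHom _).2 ?_)
    show IsIntegralHom (Spec.map b)
    exact (HasAffineProperty.iff_of_isAffine (P := @IsIntegralHom)).2 ⟨inferInstance, by
      have := (RingHom.isIntegral_respectsIso.arrow_mk_iso_iff (arrowIsoΓSpecOfIsAffine b)).1 hbint
      exact this⟩
  obtain ⟨W, i, fst, sqW, hW, hWi⟩ := hπZ (inferInstanceAs (IsAffine (Spec A))) (𝟙 _)
  obtain ⟨D, strW, ⟨eW⟩⟩ := exists_spec_iso W
  obtain ⟨d, hd⟩ : ∃ d : A ⟶ D, Spec.map d = (eW.hom ≫ i).left := ⟨_, Spec.map_preimage _⟩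
  have hstr : Spec.map d ≫ str = strW := hd ▸ Over.w (eW.hom ≫ i)
  subst hstr
  have hei : eW.hom ≫ i = specToBase d := Over.OverMorphism.ext hd.symm
  have : IsIso fst := sqW.isIso_fst_of_isIso
  let E : (yon S).obj (Over.mk (Spec.map d ≫ str)) ≅ Z := (yon S).mapIso eW ≪≫ asIso fst
  have hE : E.hom ≫ πZ = (yon S).map (specToBase d) := by
    simp only [E, Iso.trans_hom, Functor.mapIso_hom, asIso_hom, Category.assoc, sqW.w, Category.comp_id,
      ← Functor.map_comp, hei]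
  have hdint : d.hom.IsIntegral := by
    have h1 : IsIntegralHom (Spec.map d) := by
      rw [hd, Over.comp_left]
      have : IsIso eW.hom.left := inferInstanceAs (IsIso ((Over.forget S).map eW.hom))
      infer_instance
    exact (IsIntegralHom.SpecMap_iff).1 h1
  obtain ⟨ψ', hψ'⟩ := (yon S).map_surjective (p.a ≫ g ≫ E.inv)
  obtain ⟨ψ, hψ⟩ : ∃ ψ : D ⟶ p.C, Spec.map ψ = ψ'.left := ⟨_, Spec.map_preimage _⟩
  have hψ'b : ψ' ≫ specToBase d = specToBase p.γ := (yon S).map_injective (by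
    rw [Functor.map_comp, hψ', Category.assoc, Category.assoc, ← hE, E.inv_hom_id_assoc, hg, p.ha])
  have hdψ : d ≫ ψ = p.γ := Spec.map_injective (by
    rw [Spec.map_comp, hψ]; exact congrArg Over.Hom.left hψ'b)
  have hψg : ψ ≫ p.g₁ = ψ ≫ p.g₂ := by
    have h1 : specHom (str := str) p.γ p.g₁ (p.γ ≫ p.g₁) rfl ≫ ψ' =
        specHom p.γ p.g₂ (p.γ ≫ p.g₁) p.hg.symm ≫ ψ' := (yon S).map_injective (by
      rw [Functor.map_comp, Functor.map_comp, hψ', reassoc_of% p.agree])
    refine Spec.map_injective ?_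
    rw [Spec.map_comp, Spec.map_comp, hψ]
    exact congrArg Over.Hom.left h1
  have hmem : ∀ x, ψ.hom x ∈ ι.hom.range := fun x => (hrange _).2
    ⟨RingHom.congr_fun (congrArg CommRingCat.Hom.hom hψg) x, by
      have : (d.hom).IsIntegralElem x := hdint x
      rw [← hdψ]
      obtain ⟨q, hq, hq0⟩ := this
      exact ⟨q, hq, by rw [CommRingCat.hom_comp, ← Polynomial.hom_eval₂, hq0, map_zero]⟩⟩
  choose χ₀ hχ₀ using hmem
  let χ : D ⟶ B := CommRingCat.ofHom
    { toFun := χ₀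
      map_one' := hinj (by rw [hχ₀, map_one, map_one])
      map_mul' := fun x y => hinj (by rw [hχ₀, map_mul, map_mul, hχ₀, hχ₀])
      map_zero' := hinj (by rw [hχ₀, map_zero, map_zero])
      map_add' := fun x y => hinj (by rw [hχ₀, map_add, map_add, hχ₀, hχ₀]) }
  have hχ : χ ≫ ι = ψ := CommRingCat.hom_ext (RingHom.ext hχ₀)
  have hmonoι : ∀ {D' : CommRingCat.{u}} (u v : D' ⟶ B), u ≫ ι = v ≫ ι → u = v := fun u v huv =>
    CommRingCat.hom_ext (RingHom.ext fun x => hinj (RingHom.congr_fun (congrArg CommRingCat.Hom.hom huv) x))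
  have hdχ : d ≫ χ = b := hmonoι _ _ (by rw [Category.assoc, hχ, hdψ, hι])
  refine ⟨(yon S).map (specHom d χ b hdχ) ≫ E.hom, ⟨?_, ?_⟩, fun k hk => ?_⟩
  · rw [← cancel_epi p.a, reassoc_of% hf', ← Functor.map_comp_assoc, specHom_comp]
    have : specHom (str := str) d (χ ≫ ι) p.γ (by rw [← Category.assoc, hdχ, hι]) = ψ' :=
      Over.OverMorphism.ext (by show Spec.map (χ ≫ ι) = _; rw [hχ, hψ])
    rw [this, hψ']
    simp
  · rw [Category.assoc, hE, ← Functor.map_comp, specHom_toBase]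
  · obtain ⟨k', hk'⟩ := (yon S).map_surjective (k ≫ E.inv)
    obtain ⟨κ, hκ⟩ : ∃ κ : D ⟶ B, Spec.map κ = k'.left := ⟨_, Spec.map_preimage _⟩
    have h1 : specHom b ι p.γ hι ≫ k' = ψ' := (yon S).map_injective (by
      rw [Functor.map_comp, hk', hψ', ← hf', Category.assoc, reassoc_of% hk.1])
    have h2 : κ = χ := hmonoι _ _ (by
      refine Spec.map_injective ?_
      rw [Spec.map_comp, hκ, hχ, hψ]
      exact congrArg Over.Hom.left h1)
    have h3 : k' = specHom d χ b hdχ := Over.OverMorphism.ext (by show k'.left = Spec.map χ; rw [← h2, hκ])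
    rw [← h3, hk', Category.assoc, Iso.inv_hom_id, Category.comp_id]

end Pres

end Groth.Agent.AlgSpNorm
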