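import Groth.Agent.AlgSpNorm.Pres
import Groth.Agent.AlgSpDec.Glue
import Groth.Agent.AlgSpDec.FiniteQuot
import Groth.Agent.S10180

/-!
# Existence of affine presentations
-/

set_option autoImplicit false
set_option backward.isDefEq.respectTransparency false
set_option backward.isDefEq.respectTransparency.types false

universe u

open CategoryTheory CategoryTheory.Limits AlgebraicGeometry Opposite AlgSp Groth.Agent.AlgSpLib
  Groth.Agent.AlgSpDec Groth.Agent.AlgSpVal

namespace Groth.Agent.AlgSpNorm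

variable {S : Scheme.{u}}

/-- A quasi-compact scheme is covered by an affine one. -/
theorem exists_affine_etale_surjective (K : Over S) [CompactSpace ↥K.left] :
    ∃ (W : Over S) (w : W ⟶ K), IsAffine W.left ∧ Etale w.left ∧ Surjective w.left := by
  let 𝒰 := K.left.affineCover.finiteSubcover
  let W : Over S := Over.mk (Sigma.desc fun i => 𝒰.f i ≫ K.hom)
  refine ⟨W, Over.homMk (Sigma.desc fun i => 𝒰.f i) (by
    apply Sigma.hom_ext
    intro i
    change Sigma.ι _ i ≫ Sigma.desc _ ≫ K.hom = Sigma.ι _ i ≫ Sigma.desc _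
    rw [Sigma.ι_desc_assoc, Sigma.ι_desc]), ?_, ?_, ?_⟩
  · have : ∀ i, IsAffine (𝒰.X i) := fun i => inferInstanceAs (IsAffine (K.left.affineCover.X _))
    exact inferInstanceAs (IsAffine (∐ fun i => 𝒰.X i))
  · refine IsZariskiLocalAtSource.of_openCover (sigmaOpenCover fun i => 𝒰.X i) fun i => ?_
    change Etale (Sigma.ι (fun i => 𝒰.X i) i ≫ Sigma.desc _)
    rw [Sigma.ι_desc]
    infer_instance
  · refine ⟨fun x => ?_⟩
    obtain ⟨y, hy⟩ := 𝒰.covers x
    refine ⟨Sigma.ι (fun i => 𝒰.X i) (𝒰.idx x) y, ?_⟩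
    change Sigma.desc (fun i => 𝒰.f i) _ = x
    rw [← Scheme.Hom.comp_apply, Sigma.ι_desc]
    exact hy

/-- The relation of an affine chart of a quasi-separated space over an affine scheme is quasi-compact. -/
theorem compactSpace_rel {P : Sp S} {T U : Over S} [IsAffine T.left] [IsAffine U.left]
    (π : P ⟶ (yon S).obj T) (hqs : IsQuasiSeparatedMor π) (a : (yon S).obj U ⟶ P) (ha : Representable a) :
    CompactSpace ↥(ha.pullback a).left := by
  obtain ⟨τ, hτ⟩ := (yon S).map_surjective (a ≫ π)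
  let V := pullback τ τ
  let b : (yon S).obj V ⟶ pullback π π :=
    pullback.lift ((yon S).map (pullback.fst τ τ) ≫ a) ((yon S).map (pullback.snd τ τ) ≫ a) (by
      rw [Category.assoc, Category.assoc, ← hτ, ← Functor.map_comp, ← Functor.map_comp, pullback.condition])
  let Q := hqs.rep.pullback b
  let q := hqs.rep.snd b
  have : QuasiCompact q.left := hqs.property_snd b
  have : IsAffine V.left := by
    have : IsAffineHom τ.left := inferInstance
    have sqV : IsPullback (pullback.fst τ τ).left (pullback.snd τ τ).left τ.left τ.left :=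
      (IsPullback.of_hasPullback τ τ).map (Over.forget S)
    have : IsAffine (pullback τ.left τ.left) := inferInstance
    exact IsAffine.of_isIso sqV.isoPullback.hom
  have : CompactSpace ↥Q.left := QuasiCompact.compactSpace_of_compactSpace q.left
  have hw : hqs.rep.fst b ≫ pullback.diagonal π = (yon S).map q ≫ b := hqs.rep.w b
  have h1 : (yon S).map (q ≫ pullback.fst τ τ) ≫ a = hqs.rep.fst b := by
    have := congrArg (· ≫ pullback.fst π π) hw
    simp only [Category.assoc, pullback.diagonal_fst, Category.comp_id, b, pullback.lift_fst] at this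
    rw [Functor.map_comp, Category.assoc, this]
  have h2 : (yon S).map (q ≫ pullback.snd τ τ) ≫ a = hqs.rep.fst b := by
    have := congrArg (· ≫ pullback.snd π π) hw
    simp only [Category.assoc, pullback.diagonal_snd, Category.comp_id, b, pullback.lift_snd] at this
    rw [Functor.map_comp, Category.assoc, this]
  have sqK := ha.isPullback' a
  let k₁ := ha.fst' a
  let k₂ := ha.snd a
  have hk : (yon S).map k₁ ≫ a = (yon S).map k₂ ≫ a := sqK.w
  let w₀ : Q ⟶ ha.pullback a := ha.lift' (q ≫ pullback.fst τ τ) (q ≫ pullback.snd τ τ) (h1.trans h2.symm)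
  have hk' : k₁ ≫ τ = k₂ ≫ τ := (yon S).map_injective (by
    rw [Functor.map_comp, Functor.map_comp, hτ, reassoc_of% hk])
  let m : ha.pullback a ⟶ Q := hqs.rep.lift ((yon S).map k₁ ≫ a) (pullback.lift k₁ k₂ hk') (by
    apply pullback.hom_ext
    · simp only [Category.assoc, pullback.diagonal_fst, Category.comp_id, b, pullback.lift_fst,
        ← Functor.map_comp_assoc]
    · simp only [Category.assoc, pullback.diagonal_snd, Category.comp_id, b, pullback.lift_snd,
        ← Functor.map_comp_assoc, hk])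
  have hm : m ≫ w₀ = 𝟙 _ := ha.hom_ext'
    (by
      rw [Category.assoc, ha.lift'_fst, ← Category.assoc m q, hqs.rep.lift_snd, pullback.lift_fst,
        Category.id_comp])
    (by
      rw [Category.assoc, ha.lift'_snd, ← Category.assoc m q, hqs.rep.lift_snd, pullback.lift_snd,
        Category.id_comp])
  refine Function.Surjective.compactSpace (f := w₀.left) w₀.left.continuous fun x => ⟨m.left x, ?_⟩
  rw [← Scheme.Hom.comp_apply, ← Over.comp_left, hm]
  rfl

/-- Presentations exist for quasi-compact quasi-separated spaces over affine schemes. -/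
theorem nonempty_pres {A : CommRingCat.{u}} {str : Spec A ⟶ S} {P : Sp S} (hP : IsAlgSpace P)
    (π : P ⟶ (yon S).obj (Over.mk str)) (hqc : IsQuasiCompactMor π) (hqs : IsQuasiSeparatedMor π) :
    Nonempty (Pres π) := by
  have hA : IsAffine (Over.mk str).left := inferInstanceAs (IsAffine (Spec A))
  have hPqc : IsQuasiCompactSp P := hqc (IsAlgSpace.yon_obj _) (isQuasiCompactSp_yon (Over.mk str)) (𝟙 _)
    (𝟙 P) π (IsPullback.of_horiz_isIso ⟨by simp⟩)
  obtain ⟨U, a₀, hU, hae₀, has₀⟩ := (Groth.Agent.S10180.result ⟨P, hP⟩).1 hPqc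
  obtain ⟨C, strU, ⟨eU⟩⟩ := exists_spec_iso U
  obtain ⟨v, hv⟩ := (yon S).map_surjective ((yon S).map eU.hom ≫ a₀ ≫ π)
  obtain ⟨γ, hγ⟩ : ∃ γ : A ⟶ C, Spec.map γ = v.left := ⟨_, Spec.map_preimage _⟩
  have hstr : Spec.map γ ≫ str = strU := hγ ▸ Over.w v
  subst hstr
  have hv' : v = specToBase γ := Over.OverMorphism.ext hγ.symm
  let a := (yon S).map eU.hom ≫ a₀
  have hae : RepWith @Etale a := repWith_comp (repWith_of_isIso _ _) hae₀
  have has : RepWith @Surjective a := repWith_comp (repWith_of_isIso _ _) has₀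
  have ha : a ≫ π = (yon S).map (specToBase γ) := by rw [← hv', hv, Category.assoc]
  have hUa : IsAffine (Over.mk (Spec.map γ ≫ str)).left := inferInstanceAs (IsAffine (Spec C))
  have := compactSpace_rel π hqs a hae.rep
  obtain ⟨W, w, hW, hwe, hws⟩ := exists_affine_etale_surjective (hae.rep.pullback a)
  obtain ⟨R, strW, ⟨eW⟩⟩ := exists_spec_iso W
  obtain ⟨j₁, hj₁⟩ : ∃ j, j = eW.hom ≫ w ≫ hae.rep.fst' a := ⟨_, rfl⟩
  obtain ⟨j₂, hj₂⟩ : ∃ j, j = eW.hom ≫ w ≫ hae.rep.snd a := ⟨_, rfl⟩
  have hj : (yon S).map j₁ ≫ a = (yon S).map j₂ ≫ a := by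
    simp only [hj₁, hj₂, Functor.map_comp, Category.assoc, (hae.rep.isPullback' a).w]
  obtain ⟨g₁, hg₁⟩ : ∃ g : C ⟶ R, Spec.map g = j₁.left := ⟨_, Spec.map_preimage _⟩
  obtain ⟨g₂, hg₂⟩ : ∃ g : C ⟶ R, Spec.map g = j₂.left := ⟨_, Spec.map_preimage _⟩
  have hg : γ ≫ g₁ = γ ≫ g₂ := by
    refine Spec.map_injective ?_
    rw [Spec.map_comp, Spec.map_comp, hg₁, hg₂]
    have : j₁ ≫ specToBase γ = j₂ ≫ specToBase γ := (yon S).map_injective (by
      rw [Functor.map_comp, Functor.map_comp, ← ha, reassoc_of% hj])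
    exact congrArg Over.Hom.left this
  have hstrW : Spec.map (γ ≫ g₁) ≫ str = strW := by
    rw [Spec.map_comp, hg₁, Category.assoc]
    exact Over.w j₁
  subst hstrW
  have e₁ : specHom (str := str) γ g₁ (γ ≫ g₁) rfl = j₁ := Over.OverMorphism.ext hg₁
  have e₂ : specHom (str := str) γ g₂ (γ ≫ g₁) hg.symm = j₂ := Over.OverMorphism.ext hg₂
  refine ⟨⟨C, R, γ, g₁, g₂, hg, a, ha, by rw [e₁, e₂, hj],
    AlgSpLib.isLocallySurjective_of_etale_surjective hae has, fun {T} x y hxy => ?_⟩⟩
  let r : T ⟶ hae.rep.pullback a := hae.rep.lift' x y hxy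
  have sq : IsPullback (pullback.fst r w) (pullback.snd r w) r w := IsPullback.of_hasPullback r w
  have sq' := sq.map (Over.forget S)
  have : Etale (pullback.fst r w).left := MorphismProperty.of_isPullback (P := @Etale) sq'.flip hwe
  have : Surjective (pullback.fst r w).left := MorphismProperty.of_isPullback (P := @Surjective) sq'.flip hws
  refine ⟨_, pullback.fst r w, pullback.snd r w ≫ eW.inv, fppf_of_etale _, ?_, ?_⟩
  · rw [e₁]
    simp only [hj₁, Category.assoc, Iso.inv_hom_id_assoc, ← pullback.condition_assoc, r, hae.rep.lift'_fst]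
  · rw [e₂]
    simp only [hj₂, Category.assoc, Iso.inv_hom_id_assoc, ← pullback.condition_assoc, r, hae.rep.lift'_snd]

end Groth.Agent.AlgSpNorm
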