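import Groth.Agent.AlgSpNorm.ClopenPiece
import Groth.Agent.AlgSpNorm.EtIntQf
import Groth.Agent.AlgSpNorm.Zmt
import Groth.Agent.AlgSpDec.SplitOff
import Groth.Agent.AlgSpPts.OpenSub
import Groth.Agent.AlgSpLib.FpqcDescent
import Groth.Agent.AlgSpDec.MonoTfae

/-!
# The normalization is an isomorphism over the quasi-finite locus
-/

set_option autoImplicit false
set_option backward.isDefEq.respectTransparency false
set_option backward.isDefEq.respectTransparency.types false

universe u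

open CategoryTheory CategoryTheory.Limits AlgebraicGeometry Opposite AlgSp Groth.Agent.AlgSpLib
  Groth.Agent.AlgSpDec TopologicalSpace

namespace Groth.Agent.AlgSpNorm

variable {S : Scheme.{u}} {X Y Y' : Sp S}

/-- An etale chart of the target over which `f'` is an isomorphism. -/
def IsoChart (f' : X ⟶ Y') {T : Over S} (t : (yon S).obj T ⟶ Y') : Prop :=
  RepWith @Etale t ∧ ∃ k, IsPullback k (𝟙 ((yon S).obj T)) f' t

theorem exists_isoChart_of_qf (hX : IsAlgSpace X) (hY : IsAlgSpace Y) {f : X ⟶ Y} (hft : IsFiniteTypeMor f)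
    (hsep : IsSeparatedMor f) {ν : Y' ⟶ Y} {f' : X ⟶ Y'} (hn : IsRelNormalization f ν f') (x : Points X)
    (hx : HasAtMor SplitOff.QfAt f x) :
    ∃ (T : Over S) (t : (yon S).obj T ⟶ Y') (u : T.left), IsoChart f' t ∧ Points.ofPt t u = Points.map f' x := by
  obtain ⟨V, b, v, hV, hb, hv⟩ := exists_affine_chart_at hY (Points.map f x)
  haveI := hV
  have sqV := IsPullback.of_hasPullback f b
  obtain ⟨z, hz₁, hz₂⟩ := exists_point_of_isPullback sqV (x := x) (y := Points.ofScheme V v)
    (by rw [← Points.ofPt_eq_map_ofScheme, hv])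
  obtain ⟨U, hU, u, hae, huv, h⟩ := SplitOff.exists_split hb hX hY hft.1 hsep sqV v {z}
    (Set.finite_singleton z) (by rintro _ rfl; exact hz₂) (by rintro _ rfl; rw [hz₁]; exact hx)
  have hu : Points.map ((yon S).map hU) (Points.ofScheme U u) = Points.ofScheme V v := by
    rw [← huv]; exact Points.map_yon_map_apply hU u
  obtain ⟨c, hc⟩ : ∃ c : (yon S).obj U ⟶ Y, c = (yon S).map hU ≫ b := ⟨_, rfl⟩
  rw [← hc] at hae h
  have sqP := IsPullback.of_hasPullback f c
  have hP : IsAlgSpace (pullback f c) := isAlgSpace_of_isPullback sqP hX (IsAlgSpace.yon_obj U) hY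
  obtain ⟨W, jV, m, hm, sqm, hjo, hjc, hfin, -, h2⟩ := h _ _ _ sqP
  obtain ⟨w, hw₁, hw₂⟩ := exists_point_of_isPullback sqm (x := z) (y := Points.ofScheme U u)
    (hz₂.trans hu.symm)
  obtain ⟨y, hy⟩ := h2 w hw₂ hw₁
  have hν := isIntegralMor_iff_repWith.1 hn.2.1
  let NU := hν.rep.pullback c
  let νU : NU ⟶ U := hν.rep.snd c
  let n := hν.rep.fst c
  have sqN : IsPullback n ((yon S).map νU) ν c := hν.rep.isPullback c
  let fU := sqN.lift (pullback.fst f c ≫ f') (pullback.snd f c) (by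
    rw [Category.assoc, hn.1, sqP.w])
  have hfU₁ : fU ≫ n = pullback.fst f c ≫ f' := sqN.lift_fst _ _ _
  have hfU₂ : fU ≫ (yon S).map νU = pullback.snd f c := sqN.lift_snd _ _ _
  have hnU : IsRelNormalization (pullback.snd f c) ((yon S).map νU) fU :=
    isRelNormalization_of_isPullback hX hY hft.2 (isQuasiSeparatedMor_of_isSeparatedMor hsep) hn
      (IsAlgSpace.yon_obj U) (locP_smooth_of_etale hae) sqP sqN hfU₂ hfU₁
  obtain ⟨wU, hwU⟩ := (yon S).map_surjective (jV ≫ pullback.snd f c)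
  have : IsFinite wU.left := (repWith_yon_map_iff @IsFinite wU).1 (hwU ▸ isFiniteMor_iff_repWith.1 hfin)
  obtain ⟨O, ι, w₁, hι, hiso, sqO⟩ := exists_clopen_piece hP hnU hjo hjc hwU.symm
  have sqf : IsPullback (pullback.fst f c) fU f' n := IsPullback.of_bot (by rw [hfU₂, hn.1]; exact sqP)
    hfU₁.symm sqN
  have sq := sqO.paste_horiz sqf
  let t : (yon S).obj O ⟶ Y' := (yon S).map ι ≫ n
  have hne : RepWith @Etale n := repWith_of_isPullback sqN.flip hae
  have ht : RepWith @Etale t :=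
    repWith_comp ((repWith_yon_map_iff _ ι).2 (inferInstanceAs (Etale ι.left))) hne
  refine ⟨O, t, w₁.left (Points.toScheme W y), ⟨ht, inv ((yon S).map w₁) ≫ jV ≫ pullback.fst f c, ?_⟩, ?_⟩
  · exact sq.of_iso (asIso ((yon S).map w₁)) (Iso.refl _) (Iso.refl _) (Iso.refl _)
      (by simp) (by simp) (by simp) (by simp [t])
  · have h1 : Points.map (pullback.fst f c) w = x := by rw [← hm, Points.map_comp, hw₁, hz₁]
    have e : jV ≫ pullback.fst f c ≫ f' = (yon S).map w₁ ≫ t := (Category.assoc _ _ _).symm.trans sq.w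
    rw [← h1, ← hy, ← Points.map_comp, ← Points.map_comp, e, ← ofPt_comp, Points.ofPt_eq_map_ofScheme,
      Points.ofScheme_toScheme]

theorem qf_of_isoChart (hX : IsAlgSpace X) (hY : IsAlgSpace Y) {f : X ⟶ Y} (hft : LocP @LocallyOfFiniteType f)
    {ν : Y' ⟶ Y} {f' : X ⟶ Y'} (hn : IsRelNormalization f ν f') {T : Over S} {t : (yon S).obj T ⟶ Y'}
    (ht : IsoChart f' t) (x : Points X) (u : T.left) (hu : Points.ofPt t u = Points.map f' x) :
    HasAtMor SplitOff.QfAt f x := by
  obtain ⟨hte, k, sqk⟩ := ht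
  have hku : Points.ofPt k u = x := by
    obtain ⟨z, hz₁, hz₂⟩ := exists_point_of_isPullback sqk (x := x) (y := Points.ofScheme T u)
      (by rw [← Points.ofPt_eq_map_ofScheme, hu])
    rw [Points.ofPt_eq_map_ofScheme, ← hz₂, ← Points.map_comp, Category.id_comp, hz₁]
  have hk : RepWith @Etale k := repWith_of_isPullback sqk.flip hte
  obtain ⟨V, b, v, hV, hb, hv⟩ := exists_affine_chart_at hY (Points.map f x)
  have hν := isIntegralMor_iff_repWith.1 hn.2.1
  let NV := hν.rep.pullback b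
  let νV : NV ⟶ V := hν.rep.snd b
  have sqN := hν.rep.isPullback b
  obtain ⟨z, hz₁, hz₂⟩ := exists_point_of_isPullback sqN (x := Points.map f' x) (y := Points.ofScheme V v)
    (by rw [← Points.ofPt_eq_map_ofScheme, hv, ← Points.map_comp, hn.1])
  let n := hν.rep.fst b
  let A := hte.rep.pullback n
  let a₁ : A ⟶ T := hte.rep.fst' n
  let g : A ⟶ NV := hte.rep.snd n
  have sqA : IsPullback ((yon S).map a₁) ((yon S).map g) t n := hte.rep.isPullback' n
  obtain ⟨p, hp₁, hp₂⟩ := exists_point_of_isPullback sqA (x := Points.ofScheme T u) (y := z)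
    (by rw [← Points.ofPt_eq_map_ofScheme, hu, hz₁])
  obtain ⟨q, rfl⟩ := (Points.schemeHomeo A).surjective p
  have hge : Etale g.left := hte.property_snd n
  have hne : RepWith @Etale n := repWith_of_isPullback sqN.flip hb
  have ha₁ : Etale a₁.left := hne.property t _ _ sqA.flip
  let a := (yon S).map a₁ ≫ k
  have ha : RepWith @Etale a := repWith_comp ((repWith_yon_map_iff _ a₁).2 ha₁) hk
  have hw : a ≫ f = (yon S).map (g ≫ νV) ≫ b := by
    rw [Category.assoc, ← hn.1, sqk.w_assoc, Category.id_comp, sqA.w_assoc, Functor.map_comp, Category.assoc,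
      sqN.w]
  haveI : LocallyOfFiniteType (g.left ≫ νV.left) := hft a b (g ≫ νV) ha hb hw
  haveI : Etale g.left := hge
  haveI : IsIntegralHom νV.left := hν.property_snd b
  have hax : Points.ofPt a q = x := by
    rw [ofPt_comp, ← hku]
    congr 1
    exact (Points.schemeHomeo T).injective ((Points.map_yon_map_apply a₁ q).symm.trans hp₁)
  refine ⟨A, V, a, b, g ≫ νV, q, ha, hb, hw, hax, ⊤, trivial, ?_, ?_⟩
  · have := locallyQuasiFinite_etale_comp_integral g.left νV.left
    rw [Over.comp_left]; infer_instance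
  · rw [Over.comp_left]; infer_instance

theorem exists_iso_locus (hX : IsAlgSpace X) (hY : IsAlgSpace Y) {f : X ⟶ Y} (hft : IsFiniteTypeMor f)
    (hsep : IsSeparatedMor f) {ν : Y' ⟶ Y} {f' : X ⟶ Y'} (hn : IsRelNormalization f ν f') :
    ∃ (U' : Sp S) (j : U' ⟶ Y'), IsAlgSpace U' ∧ RepWith @IsOpenImmersion j ∧
      ∀ (P : Sp S) (fst : P ⟶ X) (snd : P ⟶ U'), IsPullback fst snd f' j →
        IsIso snd ∧ Set.range (Points.map fst) = {x | HasAtMor SplitOff.QfAt f x} := by
  have hY' : IsAlgSpace Y' := isAlgSpace_of_isIntegralMor hn.2.1 hY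
  let Wset : Set (Points Y') :=
    {y | ∃ (T : Over S) (t : (yon S).obj T ⟶ Y') (u : T.left), IsoChart f' t ∧ Points.ofPt t u = y}
  have hW : IsOpen Wset := isOpen_iff_forall_mem_open.2 fun y ⟨T, t, u, ht, hu⟩ =>
    ⟨Set.range (Points.ofPt t), fun _ ⟨u', hu'⟩ => ⟨T, t, u', ht, hu'⟩, (isOpenMap_ofPt ht.1).isOpen_range,
      u, hu⟩
  obtain ⟨U', j, hU', hj, hjr⟩ := AlgSpPts.exists_open_subspace hY' hW
  haveI : Mono j := mono_of_openImm hj
  refine ⟨U', j, hU', hj, fun P fst snd sq => ?_⟩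
  obtain ⟨U₀, q, hqe, hqs⟩ := hY'.atlas
  let κ := {u : U₀.left // Points.ofPt q u ∈ Wset}
  choose T t u ht hu using fun i : κ => i.2
  choose t' ht' using fun i : κ => exists_factor_open hj (t i) fun s => by
    rw [hjr]; exact ⟨T i, t i, s, ht i, rfl⟩
  have ht'e : ∀ i, RepWith @Etale (t' i) := fun i => by
    have hsq : IsPullback (𝟙 _) (t' i) (t i) j := IsPullback.of_isLimit' ⟨by rw [Category.id_comp, ht' i]⟩
      (PullbackCone.IsLimit.mk _ (fun s => s.fst) (fun s => Category.comp_id _)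
        (fun s => (cancel_mono j).1 (by rw [Category.assoc, ht' i, s.condition]))
        (fun s l h₁ _ => by rw [← h₁, Category.comp_id]))
    exact repWith_of_isPullback hsq (ht i).1
  have hsur : ∀ y : Points U', ∃ i s, Points.ofPt (t' i) s = y := fun y => by
    obtain ⟨u₀, hu₀⟩ := surjective_ofPt hqs (Points.map j y)
    have hmem : Points.ofPt q u₀ ∈ Wset := by rw [hu₀, ← hjr]; exact ⟨y, rfl⟩
    refine ⟨⟨u₀, hmem⟩, u ⟨u₀, hmem⟩, injective_map_of_mono (f := j) ?_⟩
    rw [Points.map_ofPt, ht', hu, hu₀]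
  have hcov : IsFpqcCover (fun i => (yon S).obj (T i)) t' :=
    isFpqcCover_of_isFppfCover hU' (fun _ => IsAlgSpace.yon_obj _) _ ⟨fun i =>
      ⟨locP_mono (P := @Etale) (fun _ _ g (_ : Etale g) => (inferInstance : Flat g)) (locP_of_repWith (ht'e i)),
        locP_mono (P := @Etale) (fun _ _ g (_ : Etale g) => (inferInstance : LocallyOfFinitePresentation g))
          (locP_of_repWith (ht'e i))⟩,
      fun y => by
        obtain ⟨i, s, rfl⟩ := hsur y
        exact ⟨i, Points.ofPt (𝟙 _) s, by rw [Points.map_ofPt, Category.id_comp]⟩⟩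
  choose k sqk using fun i => (ht i).2
  let m := fun i => sq.lift (k i) (t' i) (by rw [(sqk i).w, Category.id_comp, ht' i])
  have sqm : ∀ i, IsPullback (m i) (𝟙 _) snd (t' i) := fun i => by
    refine IsPullback.of_right ?_ (by rw [sq.lift_snd, Category.id_comp]) sq
    rw [sq.lift_fst, ht' i]
    exact sqk i
  refine ⟨isIso_of_fpqc (isAlgSpace_of_isPullback sq hX hU' hY') hU' (fun _ => IsAlgSpace.yon_obj _)
    (fun _ => IsAlgSpace.yon_obj _) hcov sqm fun i => inferInstance, ?_⟩
  rw [range_map_snd_of_isPullback sq.flip, hjr]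
  ext x
  constructor
  · rintro ⟨T, t, u, ht, hu⟩
    exact qf_of_isoChart hX hY hft.1 hn ht x u hu
  · intro hx
    obtain ⟨T, t, u, ht, hu⟩ := exists_isoChart_of_qf hX hY hft hsep hn x hx
    exact ⟨T, t, u, ht, hu⟩

end Groth.Agent.AlgSpNorm
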