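import Groth.Agent.AlgSpNorm.Cover
import Groth.Agent.AlgSpNorm.DescRel

/-!
# Normalization of a disjoint union of affine schemes in a space
-/

set_option autoImplicit false
set_option backward.isDefEq.respectTransparency false
set_option backward.isDefEq.respectTransparency.types false

universe u

open CategoryTheory CategoryTheory.Limits AlgebraicGeometry Opposite AlgSp Groth.Agent.AlgSpLib
  Groth.Agent.AlgSpDec

namespace Groth.Agent.AlgSpNorm

variable {S : Scheme.{u}}

theorem exists_normOn_sigma {κ : Type u} (T : κ → Over S) [∀ k, IsAffine (T k).left] {P : Sp S}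
    (hP : IsAlgSpace P) (π : P ⟶ (yon S).obj (sigmaOver T)) (hqc : IsQuasiCompactMor π)
    (hqs : IsQuasiSeparatedMor π) :
    ∃ (N : Over S) (ν : (yon S).obj N ⟶ (yon S).obj (sigmaOver T)) (f' : P ⟶ (yon S).obj N),
      NormOn π ν f' := by
  have hT := IsAlgSpace.yon_obj (sigmaOver T)
  let Pk : κ → Sp S := fun k => pullback π ((yon S).map (sigmaι T k))
  have sqk : ∀ k, IsPullback (pullback.fst π ((yon S).map (sigmaι T k))) (pullback.snd π ((yon S).map (sigmaι T k)))
      π ((yon S).map (sigmaι T k)) := fun k => IsPullback.of_hasPullback _ _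
  choose Nk νk fk hn hon using fun k => exists_normOn_affine (isAlgSpace_of_isPullback (sqk k) hP
    (IsAlgSpace.yon_obj (T k)) hT) (pullback.snd π ((yon S).map (sigmaι T k)))
    (AlgSpPts.isQuasiCompactMor_of_isPullback (sqk k) hqc) (AlgSpPts.isQuasiSeparatedMor_of_isPullback (sqk k) hqs)
  choose νk' hνk' using fun k => (yon S).map_surjective (νk k)
  let N := sigmaOver Nk
  let ν' : N ⟶ sigmaOver T := CategoryTheory.Over.homMk (Sigma.desc fun k => (νk' k ≫ sigmaι T k).left) (by
    apply Sigma.hom_ext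
    intro i
    change Sigma.ι _ i ≫ Sigma.desc _ ≫ (sigmaOver T).hom = Sigma.ι _ i ≫ Sigma.desc _
    rw [Sigma.ι_desc_assoc, Sigma.ι_desc]
    exact Over.w _)
  have hιν : ∀ k, sigmaι Nk k ≫ ν' = νk' k ≫ sigmaι T k := fun k => Over.OverMorphism.ext (Sigma.ι_desc _ k)
  have hιν' : ∀ k, sigmaι Nk k ≫ ν' = νk' k ≫ sigmaι T k := hιν
  have sqν : ∀ k, IsPullback (νk' k).left (sigmaι Nk k).left (sigmaι T k).left ν'.left := fun k => by
    refine IsOpenImmersion.isPullback _ _ _ _ (by rw [← Over.comp_left, ← Over.comp_left, hιν]) ?_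
    ext y
    constructor
    · rintro ⟨x, hx⟩
      obtain ⟨k', v, rfl⟩ := exists_sigmaι Nk y
      have : (sigmaι T k').left ((νk' k').left v) = (sigmaι T k).left x := by
        rw [hx, ← Scheme.Hom.comp_apply, ← Scheme.Hom.comp_apply, ← Over.comp_left, ← Over.comp_left, hιν]
      obtain rfl := sigmaι_injective T this
      exact ⟨v, rfl⟩
    · rintro ⟨v, rfl⟩
      refine ⟨(νk' k).left v, ?_⟩
      rw [← Scheme.Hom.comp_apply, ← Scheme.Hom.comp_apply, ← Over.comp_left, ← Over.comp_left, hιν]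
  have hνk : ∀ k, IsIntegralHom (νk' k).left := fun k => by
    have := isIntegralMor_iff_repWith.1 (hn k).2.1
    rw [← hνk'] at this
    exact (repWith_yon_map_iff _ _).1 this
  have hνi : IsIntegralHom ν'.left := by
    refine (IsZariskiLocalAtTarget.iff_of_openCover (P := @IsIntegralHom)
      (sigmaOpenCover fun k => (T k).left)).2 fun k => ?_
    have h1 : IsPullback (sigmaι Nk k).left (νk' k).left ν'.left (sigmaι T k).left := (sqν k).flip
    exact ((MorphismProperty.cancel_left_of_respectsIso @IsIntegralHom h1.isoPullback.hom _).1 (by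
      rw [IsPullback.isoPullback_hom_snd]; exact hνk k) :)
  have sqNk : ∀ k, IsPullback ((yon S).map (sigmaι Nk k)) (νk k) ((yon S).map ν') ((yon S).map (sigmaι T k)) :=
    fun k => by
    rw [← hνk' k]
    exact (IsPullback.of_map (Over.forget S) (hιν k) (sqν k).flip).map (yon S)
  -- the map from the source
  let Φ : ∀ ⦃Z : Over S⦄, ((yon S).obj Z ⟶ P) → ((yon S).obj Z ⟶ (yon S).obj N) → Prop := fun Z t l =>
    ∃ (k : κ) (v : (yon S).obj Z ⟶ Pk k), v ≫ pullback.fst π ((yon S).map (sigmaι T k)) = t ∧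
      v ≫ fk k ≫ (yon S).map (sigmaι Nk k) = l
  obtain ⟨f', hf'⟩ := exists_desc_rel Φ
    (fun Z Z' j t l ⟨k, v, h1, h2⟩ => ⟨k, (yon S).map j ≫ v, by rw [Category.assoc, h1],
      by rw [Category.assoc, h2]⟩)
    (fun Z t l l' ⟨k, v, h1, h2⟩ ⟨k', v', h1', h2'⟩ => by
      rcases isEmpty_or_nonempty ↥Z.left with hE | ⟨⟨z⟩⟩
      · exact hom_ext_of_isEmpty _ _
      · obtain ⟨x, hx⟩ := (yon S).map_surjective (v ≫ pullback.snd π ((yon S).map (sigmaι T k)))
        obtain ⟨x', hx'⟩ := (yon S).map_surjective (v' ≫ pullback.snd π ((yon S).map (sigmaι T k')))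
        have e : x ≫ sigmaι T k = x' ≫ sigmaι T k' := (yon S).map_injective (by
          rw [Functor.map_comp, Functor.map_comp, hx, hx', Category.assoc, Category.assoc, ← pullback.condition,
            ← pullback.condition, reassoc_of% h1, reassoc_of% h1'])
        obtain rfl := sigmaι_injective T (v := x.left z) (w := x'.left z) (by
          rw [← Scheme.Hom.comp_apply, ← Scheme.Hom.comp_apply, ← Over.comp_left, ← Over.comp_left, e])
        have : Mono (sigmaι T k) := (Over.forget S).mono_of_mono_map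
          (inferInstanceAs (Mono (sigmaι T k).left))
        have e' := (cancel_mono (sigmaι T k)).1 e
        have hvv : v = v' := pullback.hom_ext (h1.trans h1'.symm) (by rw [← hx, ← hx', e'])
        rw [← h2, ← h2', hvv])
    (fun Z t => by
      obtain ⟨a, ha⟩ := (yon S).map_surjective (t ≫ π)
      let 𝒱 := (sigmaOpenCover fun k => (T k).left).pullback₁ a.left
      refine ⟨Sieve.ofArrows _ fun k => (CategoryTheory.Over.homMk (𝒱.f k) rfl :
        Over.mk (𝒱.f k ≫ Z.hom) ⟶ Z), mem_J_of_openCover 𝒱 _ fun k => Sieve.ofArrows_mk _ _ k, ?_⟩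
      intro Z' j hj
      obtain ⟨k, b, rfl⟩ := (Sieve.mem_ofArrows_iff _ _ j).1 hj
      let a' : Over.mk (𝒱.f k ≫ Z.hom) ⟶ T k :=
        CategoryTheory.Over.homMk (pullback.snd a.left (Sigma.ι (fun k => (T k).left) k)) (by
          change _ = pullback.fst a.left (Sigma.ι (fun k => (T k).left) k) ≫ Z.hom
          rw [← Over.w a]
          erw [pullback.condition_assoc]
          exact congrArg (pullback.snd _ _ ≫ ·) (Sigma.ι_desc (fun k => (T k).hom) k).symm)
      have ha' : a' ≫ sigmaι T k = CategoryTheory.Over.homMk (𝒱.f k) rfl ≫ a :=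
        Over.OverMorphism.ext pullback.condition.symm
      let v : (yon S).obj Z' ⟶ Pk k := pullback.lift
        ((yon S).map (b ≫ CategoryTheory.Over.homMk (𝒱.f k) rfl) ≫ t) ((yon S).map (b ≫ a')) (by
          rw [Category.assoc, ← ha, ← Functor.map_comp, ← Functor.map_comp, Category.assoc, Category.assoc, ha'])
      exact ⟨_, k, v, pullback.lift_fst _ _ _, rfl⟩)
  have hPN : ∀ k, pullback.fst π ((yon S).map (sigmaι T k)) ≫ f' = fk k ≫ (yon S).map (sigmaι Nk k) := fun k =>
    hom_ext_yon _ _ fun Z v => by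
      rw [← Category.assoc]
      exact hf' _ _ ⟨k, v, rfl, rfl⟩
  have hfν : f' ≫ (yon S).map ν' = π := by
    refine hom_ext_yon _ _ fun Z t => ?_
    obtain ⟨a, ha⟩ := (yon S).map_surjective (t ≫ π)
    refine hom_ext_of_openCover ((sigmaOpenCover fun k => (T k).left).pullback₁ a.left) _ _ fun k => ?_
    let 𝒱 := (sigmaOpenCover fun k => (T k).left).pullback₁ a.left
    let a' : Over.mk (𝒱.f k ≫ Z.hom) ⟶ T k :=
      CategoryTheory.Over.homMk (pullback.snd a.left (Sigma.ι (fun k => (T k).left) k)) (by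
        change _ = pullback.fst a.left (Sigma.ι (fun k => (T k).left) k) ≫ Z.hom
        rw [← Over.w a]
        erw [pullback.condition_assoc]
        exact congrArg (pullback.snd _ _ ≫ ·) (Sigma.ι_desc (fun k => (T k).hom) k).symm)
    have ha' : a' ≫ sigmaι T k = CategoryTheory.Over.homMk (𝒱.f k) rfl ≫ a :=
      Over.OverMorphism.ext pullback.condition.symm
    obtain ⟨v, hv1, hv2⟩ : ∃ v : (yon S).obj (Over.mk (𝒱.f k ≫ Z.hom)) ⟶ Pk k,
        v ≫ pullback.fst π ((yon S).map (sigmaι T k)) =
          (yon S).map (CategoryTheory.Over.homMk (𝒱.f k) rfl) ≫ t ∧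
        v ≫ pullback.snd π ((yon S).map (sigmaι T k)) = (yon S).map a' :=
      ⟨pullback.lift _ _ (by rw [Category.assoc, ← ha, ← Functor.map_comp, ← Functor.map_comp, ha']),
        pullback.lift_fst _ _ _, pullback.lift_snd _ _ _⟩
    have h1 := congrArg (fun g => v ≫ g ≫ (yon S).map ν') (hPN k)
    have hk : (yon S).map (sigmaι Nk k) ≫ (yon S).map ν' = νk k ≫ (yon S).map (sigmaι T k) := by
      rw [← Functor.map_comp, hιν, Functor.map_comp, hνk']
    simp only [Category.assoc, reassoc_of% hv1, hk, reassoc_of% (hon k).1] at h1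
    rw [← pullback.condition, reassoc_of% hv1] at h1
    exact h1
  exact ⟨N, (yon S).map ν', f', normOn_of_cover hP hT hqc hqs hfν
    (isIntegralMor_iff_repWith.2 ((repWith_yon_map_iff _ _).2 hνi))
    (q := fun k => (yon S).map (sigmaι T k))
    (fun k => (repWith_yon_map_iff _ _).2 (inferInstanceAs (Etale (sigmaι T k).left)))
    (fun x => by
      obtain ⟨u, rfl⟩ := surjective_ofPt (repWith_id @Surjective (sigmaOver T)) x
      obtain ⟨k, v, rfl⟩ := exists_sigmaι T u
      exact ⟨k, v, by rw [← ofPt_comp, Category.comp_id]⟩)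
    sqk sqNk hon (fun k => (hPN k).symm)⟩

end Groth.Agent.AlgSpNorm
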