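import Groth.Agent.EtCount.Basic

/-!
# Finite etale covers are split by finite etale covers
-/

set_option autoImplicit false
set_option linter.style.haveILetI false
set_option backward.isDefEq.respectTransparency false
set_option backward.isDefEq.respectTransparency.types false

universe u

open CategoryTheory CategoryTheory.Limits AlgebraicGeometry TopologicalSpace Groth.Agent.EtCount

namespace Groth.Agent.AlgSpNorm

/-- Field-valued points over the same point of the base with the same clopen neighbourhoods are equal. -/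
def ClopenSep {P B : Scheme.{u}} (p : P ⟶ B) : Prop :=
  ∀ (L : Type u) [Field L] (a b : Spec (CommRingCat.of L) ⟶ P), a ≫ p = b ≫ p →
    (∀ C : Set ↥P, IsClopen C →
      (a (IsLocalRing.closedPoint L) ∈ C ↔ b (IsLocalRing.closedPoint L) ∈ C)) → a = b

variable {P : Scheme.{u}} {L : Type u} [Field L]

/-- Lifts to a clopen subscheme of two points with the same clopen neighbourhoods. -/
theorem exists_lift_clopen (U : P.Opens) (hU : IsClosed (U : Set ↥P)) (a b : Spec (CommRingCat.of L) ⟶ P)
    (h : ∀ C : Set ↥P, IsClopen C → (a (IsLocalRing.closedPoint L) ∈ C ↔ b (IsLocalRing.closedPoint L) ∈ C))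
    (ha : a (IsLocalRing.closedPoint L) ∈ U) :
    ∃ a' b' : Spec (CommRingCat.of L) ⟶ U.toScheme, a' ≫ U.ι = a ∧ b' ≫ U.ι = b ∧
      ∀ C : Set ↥U.toScheme, IsClopen C →
        (a' (IsLocalRing.closedPoint L) ∈ C ↔ b' (IsLocalRing.closedPoint L) ∈ C) := by
  have hb : b (IsLocalRing.closedPoint L) ∈ U := (h U ⟨hU, U.2⟩).1 ha
  have key : ∀ c : Spec (CommRingCat.of L) ⟶ P, c (IsLocalRing.closedPoint L) ∈ U →
      Set.range c ⊆ Set.range U.ι := fun c hc => by
    rw [Scheme.Opens.range_ι]
    rintro _ ⟨x, rfl⟩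
    rwa [Subsingleton.elim (α := PrimeSpectrum L) x (IsLocalRing.closedPoint L)]
  refine ⟨IsOpenImmersion.lift U.ι a (key a ha), IsOpenImmersion.lift U.ι b (key b hb),
    IsOpenImmersion.lift_fac _ _ _, IsOpenImmersion.lift_fac _ _ _, fun C hC => ?_⟩
  have hCP : IsClopen (U.ι '' C) := by
    have : IsClosed (Set.range U.ι) := by rw [Scheme.Opens.range_ι]; exact hU
    exact ⟨(Topology.IsClosedEmbedding.mk U.ι.isOpenEmbedding.isEmbedding this).isClosedMap _ hC.1,
      U.ι.isOpenEmbedding.isOpenMap _ hC.2⟩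
  have h' := h _ hCP
  rw [← IsOpenImmersion.lift_fac U.ι a (key a ha), ← IsOpenImmersion.lift_fac U.ι b (key b hb),
    Scheme.Hom.comp_apply, Scheme.Hom.comp_apply] at h'
  simpa only [U.ι.isOpenEmbedding.injective.mem_set_image] using h'

theorem exists_split_of_le : ∀ (n : ℕ) {T B : Scheme.{u}} (t : T ⟶ B) [IsFinite t] [Etale t],
    (∀ y, ENat.card ↥(MoreMor.geomFiber t y) ≤ n) →
      ∃ (B' : Scheme.{u}) (β : B' ⟶ B), IsFinite β ∧ Etale β ∧ Surjective β ∧ ClopenSep (pullback.snd t β) := by
  intro n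
  induction n with
  | zero =>
    intro T B t _ _ h
    have : IsEmpty T := ⟨fun x => by
      have := h (t x)
      rw [card_geomFiber_succ] at this
      simp at this⟩
    exact ⟨B, 𝟙 B, inferInstance, inferInstance, inferInstance, fun L _ a _ _ _ =>
      (IsEmpty.false (pullback.fst t (𝟙 B) (a (IsLocalRing.closedPoint L)))).elim⟩
  | succ n ih =>
    intro T B t _ _ h
    have : IsClosedImmersion (offDiag t).ι := .of_isPreimmersion _ (by
      rw [Scheme.Opens.range_ι]
      exact ((pullback.diagonal t).isOpenEmbedding.isOpen_range).isClosed_compl)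
    obtain ⟨T', γ, hγf, hγe, hγs, hsep⟩ := ih (offMap t) fun x => by
      have := h (t x)
      rw [card_geomFiber_succ, Nat.cast_add, Nat.cast_one] at this
      exact (ENat.add_le_add_iff_right ENat.one_ne_top).1 this
    let C : B.Opens := ⟨(Set.range t)ᶜ, t.isClosedMap.isClosed_range.isOpen_compl⟩
    have hCc : IsClosed (C : Set ↥B) := t.isOpenMap.isOpen_range.isClosed_compl
    have : IsClosedImmersion C.ι := .of_isPreimmersion _ (by rw [Scheme.Opens.range_ι]; exact hCc)
    let β : T' ⨿ C.toScheme ⟶ B := coprod.desc (γ ≫ t) C.ι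
    have hβe : Etale β := IsZariskiLocalAtSource.of_openCover (P := @Etale) (coprodOpenCover.{u, 0} T' C.toScheme)
      fun i => by
        rcases i with i | i
        · change Etale (coprod.inl ≫ β)
          simp only [β, coprod.inl_desc]
          infer_instance
        · change Etale (coprod.inr ≫ β)
          simp only [β, coprod.inr_desc]
          infer_instance
    have hβs : Surjective β := ⟨fun y => by
      by_cases hy : y ∈ Set.range t
      · obtain ⟨x, rfl⟩ := hy
        obtain ⟨x', rfl⟩ := γ.surjective x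
        exact ⟨(coprod.inl : T' ⟶ T' ⨿ C.toScheme) x', by
          rw [← Scheme.Hom.comp_apply]
          exact (congrArg (fun m : T' ⟶ B => m x') (coprod.inl_desc (γ ≫ t) C.ι)).trans (Scheme.Hom.comp_apply _ _ _)⟩
      · exact ⟨(coprod.inr : C.toScheme ⟶ T' ⨿ C.toScheme) ⟨y, hy⟩, by
          rw [← Scheme.Hom.comp_apply]
          exact congrArg (fun m : C.toScheme ⟶ B => m ⟨y, hy⟩) (coprod.inr_desc (γ ≫ t) C.ι)⟩⟩
    refine ⟨_, β, inferInstanceAs (IsFinite (coprod.desc (γ ≫ t) C.ι)), hβe, hβs, fun L _ a b hab hC => ?_⟩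
    let P := pullback t β
    let C₀ : P.Opens := (pullback.snd t β) ⁻¹ᵁ (coprod.inl : T' ⟶ T' ⨿ C.toScheme).opensRange
    have hinl : IsClosed (Set.range (coprod.inl : T' ⟶ T' ⨿ C.toScheme)) := by
      rw [← isOpen_compl_iff, (isCompl_range_inl_inr T' C.toScheme).compl_eq]
      exact IsOpenImmersion.isOpen_range _
    have hC₀c : IsClosed (C₀ : Set ↥P) := hinl.preimage (pullback.snd t β).continuous
    have ha₀ : a (IsLocalRing.closedPoint L) ∈ C₀ := by
      by_contra hn
      have hr : pullback.snd t β (a (IsLocalRing.closedPoint L)) ∈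
          Set.range (coprod.inr : C.toScheme ⟶ T' ⨿ C.toScheme) := by
        rw [← (isCompl_range_inl_inr T' C.toScheme).compl_eq]
        exact hn
      obtain ⟨c, hc⟩ := hr
      have h1 : (C.ι c : B) = β ((coprod.inr : C.toScheme ⟶ T' ⨿ C.toScheme) c) := by
        rw [← Scheme.Hom.comp_apply]
        exact congrArg (fun m : C.toScheme ⟶ B => m c) (coprod.inr_desc (γ ≫ t) C.ι).symm
      refine c.2 ⟨pullback.fst t β (a (IsLocalRing.closedPoint L)), ?_⟩
      rw [← Scheme.Hom.comp_apply, pullback.condition, Scheme.Hom.comp_apply, ← hc]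
      exact h1.symm
    obtain ⟨a', b', ha', hb', hC'⟩ := exists_lift_clopen C₀ hC₀c a b hC ha₀
    let ε : C₀.toScheme ⟶ T' := IsOpenImmersion.lift (coprod.inl : T' ⟶ T' ⨿ C.toScheme) (C₀.ι ≫ pullback.snd t β)
      (by rintro _ ⟨x, rfl⟩; exact x.2)
    have hε : ε ≫ coprod.inl = C₀.ι ≫ pullback.snd t β := IsOpenImmersion.lift_fac _ _ _
    have hεab : a' ≫ ε = b' ≫ ε := by
      rw [← cancel_mono (coprod.inl : T' ⟶ T' ⨿ C.toScheme), Category.assoc, Category.assoc, hε, reassoc_of% ha',
        reassoc_of% hb', hab]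
    have hψw : (ε ≫ γ) ≫ t = (C₀.ι ≫ pullback.fst t β) ≫ t := by
      rw [Category.assoc, Category.assoc, pullback.condition, ← reassoc_of% hε]
      simp [β]
    let ψ : C₀.toScheme ⟶ pullback t t := pullback.lift (ε ≫ γ) (C₀.ι ≫ pullback.fst t β) hψw
    have hfst : a' ≫ C₀.ι ≫ pullback.fst t β = b' ≫ C₀.ι ≫ pullback.fst t β → a = b := fun e => by
      rw [reassoc_of% ha', reassoc_of% hb'] at e
      exact pullback.hom_ext e hab
    by_cases hD : ψ (a' (IsLocalRing.closedPoint L)) ∈ Set.range (pullback.diagonal t)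
    · have hDc : IsClopen (ψ ⁻¹' Set.range (pullback.diagonal t)) :=
        ⟨(pullback.diagonal t).isClosedEmbedding.isClosed_range.preimage ψ.continuous,
          (pullback.diagonal t).isOpenEmbedding.isOpen_range.preimage ψ.continuous⟩
      have key : ∀ c : Spec (CommRingCat.of L) ⟶ C₀.toScheme,
          ψ (c (IsLocalRing.closedPoint L)) ∈ Set.range (pullback.diagonal t) →
            c ≫ ε ≫ γ = c ≫ C₀.ι ≫ pullback.fst t β := fun c hc => by
        have hr : Set.range (c ≫ ψ) ⊆ Set.range (pullback.diagonal t) := by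
          rintro _ ⟨x, rfl⟩
          rw [Subsingleton.elim (α := PrimeSpectrum L) x (IsLocalRing.closedPoint L)]
          exact hc
        let l := IsOpenImmersion.lift (pullback.diagonal t) (c ≫ ψ) hr
        have hl : l ≫ pullback.diagonal t = c ≫ ψ := IsOpenImmersion.lift_fac _ _ _
        have h1 := congrArg (· ≫ pullback.fst t t) hl
        have h2 := congrArg (· ≫ pullback.snd t t) hl
        simp only [Category.assoc, pullback.diagonal_fst, pullback.diagonal_snd, Category.comp_id, ψ,
          pullback.lift_fst, pullback.lift_snd] at h1 h2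
        rw [← h1, ← h2]
      exact hfst (by rw [← key a' hD, ← key b' ((hC' _ hDc).1 hD), reassoc_of% hεab])
    · let C₁ : C₀.toScheme.Opens := ψ ⁻¹ᵁ offDiag t
      have hC₁c : IsClosed (C₁ : Set ↥C₀.toScheme) :=
        ((pullback.diagonal t).isOpenEmbedding.isOpen_range.isClosed_compl).preimage ψ.continuous
      obtain ⟨a'', b'', ha'', hb'', hC''⟩ := exists_lift_clopen C₁ hC₁c a' b' hC' hD
      let o : C₁.toScheme ⟶ (offDiag t).toScheme := IsOpenImmersion.lift (offDiag t).ι (C₁.ι ≫ ψ)
        (by rw [Scheme.Opens.range_ι]; rintro _ ⟨x, rfl⟩; exact x.2)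
      have ho : o ≫ (offDiag t).ι = C₁.ι ≫ ψ := IsOpenImmersion.lift_fac _ _ _
      let χ : C₁.toScheme ⟶ pullback (offMap t) γ := pullback.lift o (C₁.ι ≫ ε) (by
        rw [reassoc_of% ho]; simp [ψ])
      have hχ : a'' ≫ χ = b'' ≫ χ := hsep L _ _ (by
          simp only [χ, Category.assoc, pullback.lift_snd, reassoc_of% ha'', reassoc_of% hb'', hεab]) fun E hE => by
        rw [Scheme.Hom.comp_apply, Scheme.Hom.comp_apply]
        exact hC'' _ (hE.preimage χ.continuous)
      refine hfst ?_
      have := congrArg (fun m => m ≫ pullback.fst (offMap t) γ ≫ (offDiag t).ι ≫ pullback.snd t t) hχ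
      simp only [χ, Category.assoc, pullback.lift_fst_assoc, reassoc_of% ho, ψ, pullback.lift_snd,
        reassoc_of% ha'', reassoc_of% hb''] at this
      exact this

/-- A finite etale morphism to a quasi-compact scheme is split by a finite etale covering. -/
theorem exists_split {T B : Scheme.{u}} [CompactSpace ↥B] (t : T ⟶ B) [IsFinite t] [Etale t] :
    ∃ (B' : Scheme.{u}) (β : B' ⟶ B), IsFinite β ∧ Etale β ∧ Surjective β ∧ ClopenSep (pullback.snd t β) := by
  let E : ℕ → Set ↥B := fun m => {y | ((m + 1 : ℕ) : ℕ∞) ≤ ENat.card ↥(MoreMor.geomFiber t y)}ᶜ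
  obtain ⟨m, hm⟩ := isCompact_univ.elim_directed_cover E (fun m => (isClosed_le_card (m + 1) t).isOpen_compl)
    (fun y _ => Set.mem_iUnion.2 ⟨Nat.card ↥(MoreMor.geomFiber t y), fun h => by
      have := finite_geomFiber t y
      rw [Set.mem_setOf_eq, ENat.card_eq_coe_natCard] at h
      have : Nat.card ↥(MoreMor.geomFiber t y) + 1 ≤ Nat.card ↥(MoreMor.geomFiber t y) := by exact_mod_cast h
      omega⟩)
    (Monotone.directed_le fun i j hij => Set.compl_subset_compl.2 fun y hy =>
      le_trans (Nat.cast_le.2 (Nat.add_le_add_right hij 1) : ((i + 1 : ℕ) : ℕ∞) ≤ ((j + 1 : ℕ) : ℕ∞)) hy)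
  refine exists_split_of_le m t fun y => ?_
  have := hm (Set.mem_univ y)
  simp only [E, Set.mem_compl_iff, Set.mem_setOf_eq, not_le, Nat.cast_add, Nat.cast_one] at this
  exact ENat.lt_add_one_iff (ENat.natCast_ne_top m) |>.1 this

end Groth.Agent.AlgSpNorm
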